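import Cfsg.Agent.Lib.SECoreTwoClosed.Core.Points
import Cfsg.Agent.Lib.SECoreTwoClosed.Frobenius
import Cfsg.Agent.Lib.SETwoClosed.Tail.Main
import Cfsg.Agent.S0205

/-!
# The core lemma: the end of the proof

Step 7 of `notes/s1221-2closed-h29.md`: an element of prime order normalizing a Sylow 2-subgroup `S` of `H`,
with no fixed points on its involutions and on the normal `l`-subgroups of `H` in `W`, makes `S` centralize
`W`; so `S` is normal in `H` and theorem T makes `W` fix every point.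
-/

set_option autoImplicit false
set_option linter.style.haveILetI false
set_option linter.unusedSectionVars false

namespace Cfsg.Agent.SECoreTwoClosed

open Subgroup MulAction
open Cfsg.Agent.Involutions
open Cfsg.Agent.SETwoClosed (TwoEl IsSyl mem_normalizer_of_le centralizer_le_normalizer)

universe u

variable {G : Type u} [Group G] [Finite G] {H W : Subgroup G}

/-- The kernel times a Sylow 2-subgroup contains the 2-elements modulo the kernel. -/
theorem THyp.exists_mul_of_Tx' (h : THyp H W) {x : G ⧸ H} {S : Subgroup G}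
    (hS : IsSyl 2 S (stabilizer G x)) {g : G} (hg : g ∈ Tx W x) : ∃ k ∈ Kx W x, ∃ s ∈ S, k * s = g := by
  haveI : Fact (Nat.Prime 2) := ⟨Nat.prime_two⟩
  have hSN : S ≤ normalizer (Kx W x : Set G) := hS.1.trans (h.stab_le_normalizer_Kx x)
  rw [← Coprime.mem_sup_of_le_normalizer hSN]
  have hST : IsSyl 2 S (Tx W x) := ⟨fun s hs => h.mem_Tx.2 ⟨mem_stabilizer_iff.1 (hS.1 hs), by
      obtain ⟨k, hk⟩ := hS.2.1 ⟨s, hs⟩
      exact ⟨k, by rw [show s ^ 2 ^ k = 1 from congrArg Subtype.val hk]; exact one_mem _⟩⟩,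
    hS.2.1, fun Q hle hQ hQ2 => hS.2.2 Q hle (hQ.trans (h.Tx_le x)) hQ2⟩
  obtain ⟨T, hT⟩ := hST.exists_sylow
  set M := Kx W x ⊔ S with hM
  have hMT : M ≤ Tx W x := sup_le (h.Kx_le_Tx x) hST.1
  -- the kernel has 2-power index and the Sylow subgroup odd index
  haveI hn : ((Kx W x).subgroupOf (Tx W x)).Normal :=
    ⟨fun e he g => h.Kx_normal (h.mem_Tx.1 g.2).1 he⟩
  have h2 : IsPGroup 2 (↥(Tx W x) ⧸ (Kx W x).subgroupOf (Tx W x)) := by
    intro q
    obtain ⟨e, rfl⟩ := QuotientGroup.mk'_surjective _ q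
    obtain ⟨-, k, hk⟩ := h.mem_Tx.1 e.2
    refine ⟨k, ?_⟩
    rw [← map_pow]
    exact (QuotientGroup.eq_one_iff _).2 hk
  obtain ⟨m, hm⟩ := IsPGroup.iff_card.1 h2
  have hd1 : M.relIndex (Tx W x) ∣ 2 ^ m :=
    hm ▸ Subgroup.index_dvd_of_le (fun e he => (le_sup_left : Kx W x ≤ M) he)
  have hd2 : M.relIndex (Tx W x) ∣ (T : Subgroup ↥(Tx W x)).index := by
    refine Subgroup.index_dvd_of_le ?_
    intro e he
    exact (le_sup_right : S ≤ M) (hT ▸ ⟨e, he, rfl⟩)
  have h1 : M.relIndex (Tx W x) = 1 := by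
    refine Nat.eq_one_of_dvd_coprimes ?_ hd1 hd2
    exact ((Nat.Prime.coprime_iff_not_dvd Nat.prime_two).2 T.not_dvd_index).pow_left m
  exact relIndex_eq_one.1 h1 hg

/-- The kernel is trivial, given an element of prime order without fixed points. -/
theorem THyp.eq_bot_of_fpf [FaithfulSMul G (G ⧸ H)] (h : THyp H W) {p : ℕ} (hp : p.Prime) {S : Subgroup G}
    {y : G} (hS : IsSyl 2 S (stabilizer G (base H))) (hya : y • base H = base H) (hyp : y ^ p = 1)
    (hyS : y ∈ normalizer (S : Set G)) (hyinv : ∀ t ∈ S, orderOf t = 2 → ¬ Commute y t)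
    (hyV : ∀ (l : ℕ) (V : Subgroup G), l.Prime → IsPGroup l ↥V → V ≤ W → H ≤ normalizer (V : Set G) →
      ∀ v ∈ V, Commute y v → v = 1) : W = ⊥ := by
  haveI : Fact (Nat.Prime 2) := ⟨Nat.prime_two⟩
  by_contra hW
  set a := base H
  have hSH : S ≤ H := fun s hs => smul_base_iff.1 (hS.1 hs)
  -- `y` has no fixed points on `S`
  have hyfix : ∀ s ∈ S, Commute y s → s = 1 := by
    intro s hs hc
    by_contra hs1
    obtain ⟨k, hk⟩ := hS.2.1 ⟨s, hs⟩
    have hk' : s ^ 2 ^ k = 1 := congrArg Subtype.val hk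
    have hex : ∃ j : ℕ, s ^ 2 ^ j ≠ 1 ∧ s ^ 2 ^ (j + 1) = 1 := by
      by_contra hcon
      push Not at hcon
      have : ∀ j : ℕ, s ^ 2 ^ j ≠ 1 := by
        intro j
        induction j with
        | zero => simpa using hs1
        | succ j ih => exact hcon j ih
      exact this k hk'
    obtain ⟨j, hj, hj'⟩ := hex
    refine hyinv (s ^ 2 ^ j) (pow_mem hs _) (Basic.orderOf_two_iff.2 ⟨?_, hj⟩) (hc.pow_right _)
    rw [← pow_two, ← pow_mul, ← pow_succ]
    exact hj'
  -- `S` centralizes the kernel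
  have hcop : (Nat.card ↥S).Coprime (Nat.card ↥W) := by
    obtain ⟨k, hk⟩ := IsPGroup.iff_card.1 hS.2.1
    rw [hk]
    exact (Nat.coprime_two_left.2 h.odd).pow_left k
  have hSK : S ≤ centralizer (W : Set G) := by
    refine le_centralizer_of_pCores (hSH.trans h.normal) hcop (Cfsg.Agent.S0205.result h.odd) fun l hl => ?_
    set V := (Cfsg.pCore l ↥W).map W.subtype with hV
    have hVW : V ≤ W := map_subtype_le _
    have hVH : H ≤ normalizer (V : Set G) := by
      intro g hg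
      refine mem_normalizer_of_le fun r hr => ?_
      have hle : V.map (MulAut.conj g).toMonoidHom ≤ W := by
        rintro _ ⟨s, hs, rfl⟩
        exact (mem_normalizer_iff.1 (h.normal hg) s).1 (hVW hs)
      refine PLocal.Cores.le_map_pCore_of_le_normalizer (((Cores.pCore_isPGroup l).map _).map _) hle
        (fun k hk => ?_) (show g * r * g⁻¹ ∈ V.map (MulAut.conj g).toMonoidHom from ⟨r, hr, rfl⟩)
      refine mem_normalizer_of_le ?_
      rintro _ ⟨s, hs, rfl⟩
      have h1 : g⁻¹ * k * g ∈ W := by simpa using (mem_normalizer_iff.1 (h.normal (inv_mem hg)) k).1 hk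
      have h2 := (mem_normalizer_iff.1 (PLocal.Cores.le_normalizer_map_pCore W h1) s).1 hs
      exact ⟨_, h2, by simp [mul_assoc]⟩
    refine le_centralizer_of_fpf_prime (hSH.trans hVH) (hcop.symm.coprime_dvd_left (card_dvd_of_le hVW)) hp hyp
      (hVH (smul_base_iff.1 hya)) hyS (hyV l V hl ((Cores.pCore_isPGroup l).map _) hVW hVH) hyfix
  -- so it contains every 2-element of `H`
  have htwo : ∀ x ∈ H, TwoEl x → x ∈ S := by
    intro x hx hx2
    have hxT : x ∈ Tx W a := h.mem_Tx.2 ⟨smul_base_iff.2 hx, hx2.imp fun k hk => by rw [hk]; exact one_mem _⟩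
    obtain ⟨k, hk, s, hs, rfl⟩ := h.exists_mul_of_Tx' hS hxT
    rw [h.Kx_base] at hk
    have hsk : Commute k s := mem_centralizer_iff.1 (hSK hs) k hk
    obtain ⟨e, he⟩ := hx2
    obtain ⟨f, hf⟩ := hS.2.1 ⟨s, hs⟩
    have hf' : s ^ 2 ^ f = 1 := congrArg Subtype.val hf
    have h1 : k ^ 2 ^ (e + f) = 1 := by
      have h2 : (k * s) ^ 2 ^ (e + f) = 1 := by rw [pow_add, pow_mul, he, one_pow]
      rwa [hsk.mul_pow, show s ^ 2 ^ (e + f) = 1 by rw [add_comm, pow_add, pow_mul, hf', one_pow],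
        mul_one] at h2
    rw [TwoEl.eq_one_of_odd ⟨e + f, h1⟩ (SECore.odd_orderOf_of_mem h.odd hk), one_mul]
    exact hs
  -- theorem T
  have h2 : SETwoClosed.Hyp H := ⟨h.se, fun u hu v hv hu2 hv2 => by
    obtain ⟨k, hk⟩ := hS.2.1 ⟨u * v, mul_mem (htwo u hu hu2) (htwo v hv hv2)⟩
    exact ⟨k, congrArg Subtype.val hk⟩, h.four⟩
  refine hW (eq_bot_iff.2 fun w hw => mem_bot.2 (FaithfulSMul.eq_of_smul_eq_smul (α := G ⧸ H) fun z => ?_))
  have hwa : w • a = a := smul_base_iff.2 (h.le hw)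
  rw [one_smul]
  by_cases hza : z = a
  · rw [hza]; exact hwa
  have hwz : w • z ≠ a := fun e => hza (MulAction.injective w (e.trans hwa.symm))
  obtain ⟨s, hsx, hsz⟩ := h2.concl.trans z (w • z) hza hwz
  have hs : s ∈ S := by
    have hsx' := h2.mem_Sx.1 hsx
    exact htwo s (SETwoClosed.smul_base_iff.1 hsx'.1) hsx'.2
  have hc : Commute w⁻¹ s := (show Commute w s from mem_centralizer_iff.1 (hSK hs) w hw).inv_left
  have hfix : w⁻¹ * s ∈ stabilizer G z := by
    rw [mem_stabilizer_iff, mul_smul, hsz, inv_smul_smul]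
  obtain ⟨e, he⟩ := hS.2.1 ⟨s, hs⟩
  have he' : s ^ 2 ^ e = 1 := congrArg Subtype.val he
  have hwe : (w⁻¹) ^ 2 ^ e ∈ stabilizer G z := by
    have h1 := pow_mem hfix (2 ^ e)
    rwa [hc.mul_pow, he', mul_one] at h1
  obtain ⟨m, hm⟩ := exists_pow_eq_self_of_coprime ((Nat.coprime_two_left.2 (SECore.odd_orderOf_of_mem h.odd
    (inv_mem hw))).pow_left e : Nat.Coprime (2 ^ e) (orderOf w⁻¹))
  exact mem_stabilizer_iff.1 ((inv_mem_iff).1 (hm ▸ pow_mem hwe m))

end Cfsg.Agent.SECoreTwoClosed
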