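import Cfsg.Agent.Lib.SECoreTwoClosed.Core.Points
import Cfsg.Agent.Lib.PLocal.Cores

/-!
# The core lemma: reduction to a group acting faithfully on the points

`W` may be enlarged to the odd core of `H`, and by induction on the order the odd core of the whole group may
be taken trivial, so that the action on the points is faithful.

* `Step`: the lemma for a group acting faithfully, given it for the proper subgroups;
* `coreLemma_of_step`: the core lemma from it.
-/

set_option autoImplicit false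
set_option linter.style.haveILetI false
set_option linter.unusedSectionVars false

namespace Cfsg.Agent.SECoreTwoClosed

open Subgroup MulAction
open Cfsg.Agent.Involutions
open Cfsg.Agent.SETwoClosed (TwoEl twoEl_of_sq)

universe u

/-- The lemma for a group acting faithfully on the points. -/
def Step : Prop :=
  ∀ (G : Type u) [Group G] [Finite G] (H W : Subgroup G), THyp H W → FaithfulSMul G (G ⧸ H) → IndHyp G →
    W ≤ Cfsg.oddCore G

variable {G : Type u} [Group G] [Finite G] {H W : Subgroup G}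

/-- A 2-element modulo a normal subgroup is congruent to a 2-element power of itself. -/
theorem exists_twoEl_mod {N : Subgroup G} [N.Normal] {x : G} (hx : ∃ k : ℕ, x ^ 2 ^ k ∈ N) :
    ∃ y : G, TwoEl y ∧ y⁻¹ * x ∈ N := by
  obtain ⟨k, hk⟩ := hx
  obtain ⟨e, m, hm, hxm⟩ := Nat.exists_eq_two_pow_mul_odd (orderOf_pos x).ne'
  have hco : m.Coprime (orderOf (x : G ⧸ N)) :=
    Nat.Coprime.coprime_dvd_right (orderOf_dvd_of_pow_eq_one
      (by rw [← QuotientGroup.mk_pow]; exact (QuotientGroup.eq_one_iff _).2 hk))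
      (Nat.Coprime.pow_right k (Nat.coprime_two_right.2 hm))
  obtain ⟨j, hj⟩ := exists_pow_eq_self_of_coprime hco
  refine ⟨(x ^ m) ^ j, ⟨e, ?_⟩, QuotientGroup.eq.1 ?_⟩
  · rw [← pow_mul, ← pow_mul, show m * (j * 2 ^ e) = (2 ^ e * m) * j by ring, ← hxm, pow_mul,
      pow_orderOf_eq_one, one_pow]
  · rw [QuotientGroup.mk_pow, QuotientGroup.mk_pow, hj]

/-- The odd core of `H` as a subgroup of the group. -/
theorem Hyp.exists_top (h : Hyp H W) : ∃ W' : Subgroup G, W ≤ W' ∧ THyp H W' := by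
  set W' : Subgroup G := (Cfsg.oddCore ↥H).map H.subtype with hW'
  haveI hn : (Cfsg.oddCore ↥H).Normal := PLocal.Cores.pPrimeCore_normal'
  have hcard : Nat.card ↥W' = Nat.card ↥(Cfsg.oddCore ↥H) := card_map_of_injective H.subtype_injective
  have hle : W' ≤ H := map_subtype_le _
  have key : ∀ N : Subgroup G, N ≤ H → H ≤ normalizer (N : Set G) → Odd (Nat.card ↥N) → N ≤ W' := by
    intro N hN hn hodd
    haveI : (N.subgroupOf H).Normal :=
      ⟨fun x hx g => (mem_normalizer_iff.1 (hn g.2) (x : G)).1 hx⟩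
    have h1 : N.subgroupOf H ≤ Cfsg.oddCore ↥H := PLocal.Cores.le_pPrimeCore (p := 2)
      (Nat.coprime_two_right.2 (by rwa [Nat.card_congr (subgroupOfEquivOfLe hN).toEquiv]))
    intro x hx
    exact ⟨⟨x, hN hx⟩, h1 hx, rfl⟩
  have hWW : W ≤ W' := key W h.le h.normal h.odd
  refine ⟨W', hWW, ⟨h.se, hle, ?_, hcard ▸ Nat.coprime_two_right.1 PLocal.Cores.coprime_card_pPrimeCore,
    ?_, h.eight⟩, key⟩
  · intro g hg
    refine mem_normalizer_iff.2 fun x => ⟨?_, fun hx => ?_⟩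
    · rintro ⟨y, hy, rfl⟩
      exact ⟨⟨g, hg⟩ * y * ⟨g, hg⟩⁻¹, hn.conj_mem y hy _, rfl⟩
    · obtain ⟨y, hy, e⟩ := hx
      refine ⟨⟨g, hg⟩⁻¹ * y * ⟨g, hg⟩, by simpa using hn.conj_mem y hy (⟨g, hg⟩ : ↥H)⁻¹, ?_⟩
      rw [map_mul, map_mul, map_inv, e]
      show g⁻¹ * (g * x * g⁻¹) * g = x
      group
  · rintro a ha b hb ⟨i, hi⟩ ⟨j, hj⟩
    -- the elements of `H` that are 2-elements modulo `W'` are those of a normal 2-subgroup of the quotient
    set π := QuotientGroup.mk' (Cfsg.oddCore ↥H)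
    have hN : ∀ {x : G} (hx : x ∈ H) (k : ℕ), x ^ 2 ^ k ∈ W' → (⟨x, hx⟩ : ↥H) ^ 2 ^ k ∈ Cfsg.oddCore ↥H := by
      rintro x hx k ⟨y, hy, e⟩
      rwa [show (⟨x, hx⟩ : ↥H) ^ 2 ^ k = y from Subtype.ext e.symm]
    obtain ⟨a', ⟨i', ha'⟩, hae⟩ := exists_twoEl_mod ⟨i, hN ha i hi⟩
    obtain ⟨b', ⟨j', hb'⟩, hbe⟩ := exists_twoEl_mod ⟨j, hN hb j hj⟩
    obtain ⟨k, hk⟩ := h.closed _ a'.2 _ b'.2
      ⟨i', by rw [← SubgroupClass.coe_pow, ha']; exact one_mem _⟩
      ⟨j', by rw [← SubgroupClass.coe_pow, hb']; exact one_mem _⟩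
    refine ⟨k, ⟨(⟨a, ha⟩ * ⟨b, hb⟩) ^ 2 ^ k, (QuotientGroup.eq_one_iff _).1 ?_, rfl⟩⟩
    show π ((⟨a, ha⟩ * ⟨b, hb⟩) ^ 2 ^ k) = 1
    rw [map_pow, map_mul, ← show π a' = π ⟨a, ha⟩ from QuotientGroup.eq.2 hae,
      ← show π b' = π ⟨b, hb⟩ from QuotientGroup.eq.2 hbe, ← map_mul, ← map_pow]
    refine (QuotientGroup.eq_one_iff _).2 ?_
    obtain ⟨y, hy, e⟩ := hWW hk
    rwa [show (a' * b') ^ 2 ^ k = y from Subtype.ext e.symm]

/-- The odd core lies in `W`. -/
theorem THyp.oddCore_le (h : THyp H W) : Cfsg.oddCore G ≤ W := by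
  haveI hn : (Cfsg.oddCore G).Normal := PLocal.Cores.pPrimeCore_normal'
  obtain ⟨a, ha, b, hb, ha2, hb2, hab, hc⟩ := h.four
  have hodd : Odd (Nat.card ↥(Cfsg.oddCore G)) :=
    Nat.coprime_two_right.1 PLocal.Cores.coprime_card_pPrimeCore
  refine h.top _ ?_ (fun g _ => le_normalizer_of_normal (mem_top g)) hodd
  have hax := smul_base_iff.2 ha
  have hbx : b • base H = base H := h.smul_of_commute ha2 hax hc.symm
  refine SECore.le_of_four hodd (Basic.inv_sq_one ha2) (Basic.inv_sq_one hb2) hc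
    (le_normalizer_of_normal (mem_top a)) (le_normalizer_of_normal (mem_top b)) fun r _ hr => smul_base_iff.1 ?_
  rcases hr with hr | hr | hr
  · exact h.smul_of_commute ha2 hax hr
  · exact h.smul_of_commute hb2 hbx hr
  · refine h.smul_of_commute (t := a * b) (Basic.orderOf_two_iff.2 ⟨?_, fun e => hab ?_⟩) ?_ hr
    · rw [show a * b * (a * b) = a * (b * a) * b by group, ← hc.eq,
        show a * (a * b) * b = (a * a) * (b * b) by group, Basic.inv_sq_one ha2, Basic.inv_sq_one hb2, one_mul]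
    · rw [← Basic.inv_eq hb2]; exact eq_inv_of_mul_eq_one_left e
    · rw [mul_smul, hbx, hax]

/-- Passage to the quotient by the odd core. -/
theorem THyp.map_mk (h : THyp H W) [(Cfsg.oddCore G).Normal] :
    Hyp (H.map (QuotientGroup.mk' (Cfsg.oddCore G))) (W.map (QuotientGroup.mk' (Cfsg.oddCore G))) := by
  set N := Cfsg.oddCore G
  have hNW : N ≤ W := h.oddCore_le
  set π := QuotientGroup.mk' N
  have hodd : Odd (Nat.card ↥N) := Nat.coprime_two_right.1 PLocal.Cores.coprime_card_pPrimeCore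
  have hker : π.ker = N := QuotientGroup.ker_mk' N
  have hmem : ∀ {X : Subgroup G}, N ≤ X → ∀ {x : G}, π x ∈ X.map π → x ∈ X := fun {X} hX {x} hx => by
    have h1 : x ∈ (X.map π).comap π := hx
    rwa [comap_map_eq, hker, sup_eq_left.2 hX] at h1
  have hH : ∀ {x : G}, π x ∈ H.map π → x ∈ H := fun {x} => hmem (hNW.trans h.le)
  have hW : ∀ {x : G}, π x ∈ W.map π → x ∈ W := fun {x} => hmem hNW
  have hinv : ∀ {t : G}, t * t = 1 → π t = 1 → t = 1 := fun {t} ht e =>
    TwoEl.eq_one_of_odd (twoEl_of_sq ht) (SECore.odd_orderOf_of_mem hodd (hker ▸ (MonoidHom.mem_ker.2 e)))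
  have hord : ∀ {t : G}, orderOf t = 2 → orderOf (π t) = 2 := fun {t} ht =>
    Basic.orderOf_two_iff.2 ⟨by rw [← map_mul, Basic.inv_sq_one ht, map_one],
      fun e => Basic.ne_one ht (hinv (Basic.inv_sq_one ht) e)⟩
  obtain ⟨a, ha, b, hb, ha2, hb2, hab, hc⟩ := h.four
  obtain ⟨A, hAH, ⟨hAc, hAe⟩, hA8⟩ := h.eight
  refine ⟨StronglyEmbedded.of_conj (fun e => h.se.1 (eq_top_iff.2 fun x _ => hH (e ▸ mem_top (π x))))
      ?_ ?_, map_mono h.le, ?_, h.odd.of_dvd_nat (card_map_dvd W π), ?_, A.map π, map_mono hAH, ?_, ?_⟩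
  · rw [even_iff_two_dvd, ← hord ha2]
    exact Subgroup.orderOf_dvd_natCard _ (mem_map_of_mem π ha)
  · intro q hq hq2 g hg
    obtain ⟨x, rfl⟩ := QuotientGroup.mk'_surjective N q
    obtain ⟨y, hy2, hyx⟩ := exists_twoEl_mod (N := N) (x := x) ⟨1, by
      rw [pow_one, ← hker, MonoidHom.mem_ker, map_pow, pow_two, Basic.inv_sq_one hq2]⟩
    have hπy : π y = π x := QuotientGroup.eq.2 hyx
    have hyy : y * y = 1 := by
      obtain ⟨k, hk⟩ := hy2
      refine TwoEl.eq_one_of_odd ⟨k, by rw [← pow_two, ← pow_mul, mul_comm, pow_mul, hk, one_pow]⟩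
        (SECore.odd_orderOf_of_mem hodd ?_)
      rw [← hker, MonoidHom.mem_ker, map_mul, hπy, Basic.inv_sq_one hq2]
    have hy : orderOf y = 2 := Basic.orderOf_two_iff.2 ⟨hyy, fun e => Basic.ne_one hq2 (by rw [← hπy, e, map_one])⟩
    obtain ⟨g, rfl⟩ := QuotientGroup.mk'_surjective N g
    rw [← hπy, ← map_inv, ← map_mul, ← map_mul] at hg
    exact mem_map_of_mem π (StronglyEmbedded.mem_of_conj h.se (hH (hπy ▸ hq)) hy (hH hg))
  · exact (map_mono h.normal).trans (le_normalizer_map π)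
  · rintro _ ⟨x, hx, rfl⟩ _ ⟨y, hy, rfl⟩ ⟨i, hi⟩ ⟨j, hj⟩
    rw [← map_pow] at hi hj
    obtain ⟨k, hk⟩ := h.closed x hx y hy ⟨i, hW hi⟩ ⟨j, hW hj⟩
    exact ⟨k, by rw [← map_mul, ← map_pow]; exact mem_map_of_mem π hk⟩
  · refine ⟨?_, ?_⟩
    · exact ⟨⟨fun x y => by
        obtain ⟨_, u, hu, rfl⟩ := x
        obtain ⟨_, v, hv, rfl⟩ := y
        refine Subtype.ext ?_
        show π u * π v = π v * π u
        rw [← map_mul, ← map_mul, show u * v = v * u from congrArg Subtype.val (hAc.is_comm.comm ⟨u, hu⟩ ⟨v, hv⟩)]⟩⟩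
    · rintro _ ⟨u, hu, rfl⟩
      rw [← map_pow, hAe u hu, map_one]
  · refine hA8.trans (le_of_eq ?_)
    refine Nat.card_congr (Equiv.ofBijective (fun u : A => (⟨π u, mem_map_of_mem π u.2⟩ : A.map π)) ⟨?_, ?_⟩)
    · intro u v e
      have e' : π u = π v := congrArg Subtype.val e
      have h2 : (u : G)⁻¹ * v * ((u : G)⁻¹ * v) = 1 := by rw [← pow_two]; exact hAe _ (mul_mem (inv_mem u.2) v.2)
      have h1 := hinv h2 (by rw [map_mul, map_inv, e', inv_mul_cancel])
      exact Subtype.ext (inv_mul_eq_one.1 h1)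
    · rintro ⟨_, u, hu, rfl⟩
      exact ⟨⟨u, hu⟩, rfl⟩

/-- Without odd core the action on the points is faithful. -/
theorem THyp.faithfulSMul (h : THyp H W) (hO : Cfsg.oddCore G = ⊥) : FaithfulSMul G (G ⧸ H) := by
  refine ⟨fun {g g'} hgg => ?_⟩
  by_contra hne
  have hd : g⁻¹ * g' ∈ H.normalCore := by
    rw [normalCore_eq_ker, MonoidHom.mem_ker]
    refine Equiv.ext fun z => ?_
    show (g⁻¹ * g') • z = z
    rw [mul_smul, ← hgg z, inv_smul_smul]
  have hodd : Odd (Nat.card ↥H.normalCore) := by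
    by_contra hodd
    rw [Nat.not_odd_iff_even] at hodd
    obtain ⟨t, ht, ht2⟩ := StronglyEmbedded.exists_involution_mem hodd
    obtain ⟨y, hy⟩ := h.exists_ne_point (base H)
    obtain ⟨k, rfl⟩ := exists_smul_base y
    refine hy (h.eq_of_fixed ht2 (smul_base_iff.2 (H.normalCore_le ht)) ?_)
    have h1 : k⁻¹ * t * k ∈ H := H.normalCore_le (by
      simpa using (inferInstance : H.normalCore.Normal).conj_mem t ht k⁻¹)
    have h2 := smul_base_iff.2 h1
    rwa [mul_smul, mul_smul, inv_smul_eq_iff] at h2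
  exact hne (inv_mul_eq_one.1 (mem_bot.1 (hO ▸ PLocal.Cores.le_pPrimeCore (p := 2)
    (Nat.coprime_two_right.2 hodd) hd)))

theorem le_oddCore_aux (hstep : Step.{u}) : ∀ (m : ℕ) (G : Type u) [Group G] [Finite G], Nat.card G ≤ m →
    ∀ H W : Subgroup G, Hyp H W → W ≤ Cfsg.oddCore G := by
  intro m
  induction m with
  | zero => intro G _ _ hm; have := (Nat.card_pos : 0 < Nat.card G); omega
  | succ m ih =>
    intro G _ _ hm H W₀ h₀
    obtain ⟨W, hWW, h⟩ := h₀.exists_top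
    refine hWW.trans ?_
    haveI : (Cfsg.oddCore G).Normal := PLocal.Cores.pPrimeCore_normal'
    by_cases hO : Cfsg.oddCore G = ⊥
    · refine hstep G H W h (h.faithfulSMul hO) fun X hX K W' h' => ih X ?_ K W' h'
      have h2 : Nat.card X < Nat.card G := lt_of_le_of_ne (Subgroup.card_le_card_group X)
        fun e => hX (Subgroup.card_eq_iff_eq_top X |>.1 e)
      omega
    · have hlt : Nat.card (G ⧸ Cfsg.oddCore G) < Nat.card G := by
        have h1 := (Cfsg.oddCore G).card_mul_index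
        have h2 : 1 < Nat.card (Cfsg.oddCore G) := (Subgroup.one_lt_card_iff_ne_bot _).2 hO
        rw [← Subgroup.index, ← h1]
        exact lt_mul_of_one_lt_left (Nat.pos_of_ne_zero Subgroup.index_ne_zero_of_finite) h2
      have h1 := ih _ (by omega) _ _ h.map_mk
      rw [show Cfsg.oddCore (G ⧸ Cfsg.oddCore G) = ⊥ from Cores.pPrimeCore_quotient_self 2, le_bot_iff,
        Subgroup.map_eq_bot_iff, QuotientGroup.ker_mk'] at h1
      exact h1

/-- The core lemma, from the faithful case. -/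
theorem coreLemma_of_step (hstep : Step.{u}) : CoreLemma.{u} :=
  fun G _ _ H W h => le_oddCore_aux hstep _ G le_rfl H W h

end Cfsg.Agent.SECoreTwoClosed
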