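import Cfsg.Agent.Lib.SECoreTwoClosed.Core.Cent
import Cfsg.Agent.Lib.SECoreTwoClosed.Core.Final
import Cfsg.Agent.Lib.SECoreTwoClosed.Core.Main

/-!
# The core lemma: the step and the conclusion

Since `T ⊓ Ux W a` is trivial, an element of order `p` of `T` outside `Ux W a` normalizes a Sylow
2-subgroup of the stabilizer and has no fixed points on it or on the normal `l`-subgroups of the kernel.
-/

set_option autoImplicit false
set_option linter.style.haveILetI false
set_option linter.unusedSectionVars false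

namespace Cfsg.Agent.SECoreTwoClosed

open Subgroup MulAction
open Cfsg.Agent.Involutions
open Cfsg.Agent.SETwoClosed (cj conj_mem_cj card_cj isPGroup_cj IsSyl exists_isSyl mem_normalizer_of_le)
open Cfsg.Agent.SEAbelian (exists_pow_last exists_normalized_conj)

universe u

variable {G : Type u} [Group G] [Finite G] {H W : Subgroup G}

/-- The kernel is trivial for a group acting faithfully on the points. -/
theorem Facts.eq_bot [FaithfulSMul G (G ⧸ H)] {n p : ℕ} (hF : Facts H W n p) (IH : IndHyp G) : W = ⊥ := by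
  classical
  have h := hF.par.hyp
  haveI := hF.fact
  haveI : Fact (Nat.Prime 2) := ⟨Nat.prime_two⟩
  by_contra hW
  set a := base H
  obtain ⟨b, hab⟩ := h.exists_other a
  obtain ⟨T, hT⟩ := exists_isSyl (p := p) (Dp a b)
  have hTU := hF.inf_Ux_eq_bot hab hT IH hW
  have hTK : T ⊓ Kx W a = ⊥ := eq_bot_iff.2 ((inf_le_inf_left T (h.Kx_le_Ux a)).trans hTU.le)
  obtain ⟨r, hr, hrU⟩ := SetLike.not_le_iff_exists.1 (hF.par.not_le_Ux hab hT)
  obtain ⟨i, hiU, hip⟩ := exists_pow_last (p := p) hrU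
    ((exists_pow_eq_one_of_mem hT.2.1 hr).imp fun _ hk => by rw [hk]; exact one_mem _)
  set y := r ^ i
  have hyT : y ∈ T := pow_mem hr i
  have hyp : y ^ p = 1 := mem_bot.1 (hTU ▸ mem_inf.2 ⟨pow_mem hyT p, hip⟩)
  have hya : y ∈ stabilizer G a := (mem_inf.1 (hT.1 hyT)).1
  obtain ⟨S2, hS2⟩ := exists_isSyl (p := 2) (stabilizer G a)
  have hsylcj : ∀ g ∈ stabilizer G a, IsSyl 2 (cj g S2) (stabilizer G a) := fun g hg =>
    hS2.of_card (isPGroup_cj hS2.2.1 g) (by
      rintro _ ⟨e, he, rfl⟩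
      exact mul_mem (mul_mem hg (hS2.1 he)) (inv_mem hg)) (le_of_eq (card_cj _ _).symm)
  obtain ⟨k, hk, hkQ⟩ := exists_normalized_conj hF.par.prime (Q := zpowers y) (K := Kx W a) (R := S2) (L := ⊥)
    (hT.2.1.to_le (zpowers_le.2 hyT)) ((zpowers_le.2 hya).trans (h.stab_le_normalizer_Kx a))
    (fun g hg => h.conj_syl_two hS2 (hsylcj g (zpowers_le.2 hya hg))) bot_le (by
      rw [relIndex_bot_left]
      intro hd
      have hP := hF.syl_Kx hab hT
      have h1 := hP.card_eq
      rw [hTK, card_bot] at h1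
      have h2 := hF.par.prime.factorization_pos_of_dvd Nat.card_pos.ne' hd
      have h3 : 1 < p ^ (Nat.card ↥(Kx W a)).factorization p := Nat.one_lt_pow h2.ne' hF.par.prime.one_lt
      omega)
  set S := cj k S2
  have hS : IsSyl 2 S (stabilizer G a) := hsylcj k (h.Kx_le a hk)
  refine hW (h.eq_bot_of_fpf hF.par.prime hS hya hyp (hkQ (mem_zpowers y)) (fun t ht ht2 hc => hiU ?_)
    fun l V hl hV hVW hVH v hv hc => ?_)
  · exact hF.par.mem_Ux_of_fixes (isPGroup_zpowers_of_pow ⟨1, by rwa [pow_one]⟩) (mem_zpowers y) hya ht2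
      (hS.1 ht) (by rw [hc.eq, mul_inv_cancel_right, mul_inv_cancel]; exact one_mem _)
  · refine hF.fpf_elt IH hab ⟨hl, hV, hVW.trans h.Kx_base.ge, fun g hg => hVH (smul_base_iff.1 hg)⟩ hya
      ⟨1, by rwa [pow_one]⟩ hiU hv hc

/-- The step of the induction. -/
theorem step : Step.{u} := fun _ _ _ H W h _ IH => by
  obtain ⟨n, p, hP⟩ := h.exists_par
  rw [(hP.facts IH).eq_bot IH]
  exact bot_le

/-- The core lemma. -/
theorem coreLemma : CoreLemma.{u} := coreLemma_of_step step

end Cfsg.Agent.SECoreTwoClosed
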