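import Cfsg.Agent.Lib.SECoreTwoClosed.Core.Semireg

/-!
# The core lemma: involutions of a subgroup, and an element inverted by a swapper

In a subgroup moving `a` the stabilizer of `a` is strongly embedded; a swapper normalizing a Sylow
`p`-subgroup inverts one of its elements outside `Ux W`; an element of `X` acting on the classes of
involutions at `a` as a nontrivial `p`-element gives eight of them in `X`.
-/

set_option autoImplicit false
set_option linter.style.haveILetI false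
set_option linter.unusedSectionVars false

namespace Cfsg.Agent.SECoreTwoClosed

open Subgroup MulAction
open Cfsg.Agent.Involutions
open Cfsg.Agent.SETwoClosed (IsSyl exists_isSyl_ge TwoEl)

universe u

variable {G : Type u} [Group G] [Finite G] {H W : Subgroup G}

/-- The stabilizer of a moved point with an involution is strongly embedded in the subgroup. -/
theorem THyp.se_sub (h : THyp H W) {X : Subgroup G} {a : G ⧸ H} (hmov : ∃ g ∈ X, g • a ≠ a) {s : G}
    (hsX : s ∈ X) (hs : orderOf s = 2) (hsa : s • a = a) :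
    Cfsg.IsStronglyEmbedded (stabilizer ↥X a) := by
  set K := stabilizer ↥X a
  have hK : ∀ x : ↥X, x ∈ K ↔ (x : G) • a = a := fun x => Iff.rfl
  refine StronglyEmbedded.of_conj (fun e => ?_) ?_ fun t ht ht2 g hg => ?_
  · obtain ⟨x, hx, hxd⟩ := hmov
    exact hxd ((hK ⟨x, hx⟩).1 (e ▸ mem_top _))
  · rw [even_iff_two_dvd]
    have h1 := orderOf_dvd_natCard (⟨⟨s, hsX⟩, (hK ⟨s, hsX⟩).2 hsa⟩ : ↥K)
    rwa [Subgroup.orderOf_mk, Subgroup.orderOf_mk, hs] at h1
  · have e1 : ((g : G) * t * (g : G)⁻¹) • ((g : G) • a) = (g : G) • a := conj_smul_fix ((hK t).1 ht)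
    exact (hK g).2 (h.eq_of_fixed (by rw [Basic.orderOf_conj, Subgroup.orderOf_coe, ht2]) e1 ((hK _).1 hg))

/-- All involutions of a subgroup moving a fixed point of one of them are conjugate in it. -/
theorem THyp.isConj_in (h : THyp H W) {X : Subgroup G} {a : G ⧸ H} (hmov : ∃ g ∈ X, g • a ≠ a) {s : G}
    (hsX : s ∈ X) (hs : orderOf s = 2) (hsa : s • a = a) {u : G} (huX : u ∈ X) (hu : orderOf u = 2) :
    ∃ g ∈ X, g * s * g⁻¹ = u := by
  obtain ⟨g, hg⟩ := isConj_iff.1 (StronglyEmbedded.isConj_involutions (h.se_sub hmov hsX hs hsa)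
    (a := (⟨s, hsX⟩ : ↥X)) (b := ⟨u, huX⟩) (by rw [Subgroup.orderOf_mk, hs])
    (by rw [Subgroup.orderOf_mk, hu]))
  exact ⟨g, g.2, congrArg Subtype.val hg⟩

/-- A swapper normalizing a Sylow `p`-subgroup of the two-point stabilizer inverts one of its elements
outside `Ux W`, and centralizes only elements inside. -/
theorem Facts.exists_inverted {n p : ℕ} (hF : Facts H W n p) {a b : G ⧸ H} (hab : a ≠ b) {T : Subgroup G}
    (hT : IsSyl p T (Dp a b)) {u : G} (hu : orderOf u = 2) (hua : u • a = b)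
    (huT : u ∈ normalizer (T : Set G)) :
    (∀ z ∈ T, Commute z u → z ∈ Ux W a) ∧ ∃ c ∈ T, c ∉ Ux W a ∧ u * c * u⁻¹ = c⁻¹ := by
  have h := hF.par.hyp
  haveI := hF.par.fact
  have hodd : Odd (Nat.card ↥T) := hF.par.odd_card hT.2.1
  have hcent : ∀ z ∈ T, Commute z u → z ∈ Ux W a := by
    intro z hz hzu
    obtain ⟨f, hf⟩ := h.exists_fixed (H := H) hu
    have hfa : a ≠ f := fun e => hab (by rw [← hua, e, hf])
    have hza : z • a = a := (mem_inf.1 (hT.1 hz)).1
    have hzf : z • f = f := h.smul_of_commute hu hf hzu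
    have hzU : z ∈ Ux W f := hF.par.mem_Ux_of_fixes hT.2.1 hz hzf hu hf (by
      rw [hzu.eq, mul_inv_cancel_right, mul_inv_cancel]; exact one_mem _)
    obtain ⟨T', hzT', hT'⟩ := exists_isSyl_ge (D := Dp a f) (hT.2.1.to_le (zpowers_le.2 hz))
      (zpowers_le.2 (mem_inf.2 ⟨hza, hzf⟩))
    have h1 : z ∈ T' ⊓ Ux W f := mem_inf.2 ⟨hzT' (mem_zpowers z), hzU⟩
    rw [← hF.syl_U a f T' hfa hT'] at h1
    exact (mem_inf.1 h1).2
  refine ⟨hcent, ?_⟩
  obtain ⟨r, hr, hrU⟩ := SetLike.not_le_iff_exists.1 (hF.par.not_le_Ux hab hT)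
  have hur : u * r * u⁻¹ ∈ T := (mem_normalizer_iff.1 huT r).1 hr
  set c := r⁻¹ * (u * r * u⁻¹)
  have hcT : c ∈ T := mul_mem (inv_mem hr) hur
  have huu := Basic.inv_sq_one hu
  have hcu : u * c * u⁻¹ = c⁻¹ := by
    calc u * c * u⁻¹ = (u * r * u⁻¹)⁻¹ * ((u * u) * r * (u * u)⁻¹) := by simp only [c]; group
      _ = c⁻¹ := by rw [huu]; simp only [c]; group
  refine ⟨c, hcT, fun hcU => hrU ?_, hcu⟩
  obtain ⟨m, hm⟩ := SECore.odd_orderOf_of_mem hodd hcT
  set w := c ^ (m + 1)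
  have hw2 : w * w = c := by
    rw [← pow_add, show m + 1 + (m + 1) = orderOf c + 1 by omega, pow_succ, pow_orderOf_eq_one, one_mul]
  have huw : u * w * u⁻¹ = w⁻¹ := by rw [← conj_pow, hcu, inv_pow]
  have h1 : u * (r * w) * u⁻¹ = r * w := by
    calc u * (r * w) * u⁻¹ = (u * r * u⁻¹) * (u * w * u⁻¹) := by group
      _ = r * c * w⁻¹ := by rw [huw]; simp only [c]; group
      _ = r * w := by rw [← hw2]; group
  have h2 : r * w ∈ Ux W a := hcent _ (mul_mem hr (pow_mem hcT _)) (mul_inv_eq_iff_eq_mul.1 h1).symm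
  have h3 := mul_mem h2 (inv_mem (pow_mem hcU (m + 1)))
  rwa [mul_inv_cancel_right] at h3

/-- An element of `X` acting on the classes at `a` as a nontrivial `p`-element gives eight classes in `X`. -/
theorem Par.eight_of_pelt {n p : ℕ} (hP : Par H W n p) {X : Subgroup G} {a : G ⧸ H} {r t : G} (hrX : r ∈ X)
    (hra : r • a = a) (hrk : ∃ k : ℕ, r ^ p ^ k ∈ Ux W a) (hrU : r ∉ Ux W a) (htX : t ∈ X)
    (ht : orderOf t = 2) (hta : t • a = a) : 8 ≤ (Kx W a).relIndex (X ⊓ Ex W a) := by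
  have h := hP.hyp
  obtain ⟨e, he⟩ := hrk
  have hmove : ∀ m : ℕ, 0 < m → m < p → r ^ m * t * (r ^ m)⁻¹ * t⁻¹ ∉ Kx W a := by
    intro m hm0 hmp hcon
    refine h.inv_notMem_Kx ht (hP.fpf a (r ^ m) (mem_stabilizer_iff.1 (pow_mem (mem_stabilizer_iff.2 hra) m))
      ⟨e, by rw [← pow_mul, mul_comm, pow_mul]; exact pow_mem he m⟩ (fun hrm => hrU ?_) t
      (h.mem_Ex_of_inv ht hta) hcon)
    have hco : (p ^ e).Coprime m :=
      (hP.prime.coprime_iff_not_dvd.2 fun hd => absurd (Nat.le_of_dvd hm0 hd) (by omega)).pow_left e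
    have h3 := Nat.gcd_eq_gcd_ab (p ^ e) m
    rw [show Nat.gcd (p ^ e) m = 1 from hco] at h3
    have h4 : r = (r ^ p ^ e) ^ Nat.gcdA (p ^ e) m * (r ^ m) ^ Nat.gcdB (p ^ e) m := by
      rw [← zpow_natCast r (p ^ e), ← zpow_natCast r m, ← zpow_mul, ← zpow_mul, ← zpow_add, ← h3,
        Nat.cast_one, zpow_one]
    rw [h4]
    exact mul_mem (zpow_mem he _) (zpow_mem hrm _)
  let f : Option (Fin 4) → G := fun o => o.elim 1 fun i => r ^ (i : ℕ) * t * (r ^ (i : ℕ))⁻¹
  have hfne : ∀ i j : Fin 4, i < j → (f (some i))⁻¹ * f (some j) ∉ Kx W a := by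
    intro i j hij hcon
    have := hP.five_le
    have hij' : (i : ℕ) < j := hij
    refine hmove (j - i) (by omega) (by have := j.2; omega) ?_
    have h1 : (r ^ (i : ℕ))⁻¹ * ((f (some i))⁻¹ * f (some j)) * (r ^ (i : ℕ))⁻¹⁻¹ ∈ Kx W a :=
      h.Kx_normal (mem_stabilizer_iff.1 (inv_mem (pow_mem (mem_stabilizer_iff.2 hra) _))) hcon
    have h2 := h.Kx_normal hta h1
    simp only [f, Option.elim_some] at h2
    rw [show (j : ℕ) = i + (j - i) by omega, pow_add] at h2
    rwa [show t * ((r ^ (i : ℕ))⁻¹ * ((r ^ (i : ℕ) * t * (r ^ (i : ℕ))⁻¹)⁻¹ *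
      (r ^ (i : ℕ) * r ^ ((j : ℕ) - i) * t * (r ^ (i : ℕ) * r ^ ((j : ℕ) - i))⁻¹)) *
        (r ^ (i : ℕ))⁻¹⁻¹) * t⁻¹ = r ^ ((j : ℕ) - i) * t * (r ^ ((j : ℕ) - i))⁻¹ * t⁻¹ by group] at h2
  have hfinv : ∀ i : Fin 4, orderOf (f (some i)) = 2 ∧ f (some i) • a = a := fun i =>
    ⟨(Basic.orderOf_conj _ _).trans ht, by
      have h1 : r ^ (i : ℕ) • a = a := mem_stabilizer_iff.1 (pow_mem (mem_stabilizer_iff.2 hra) _)
      have := conj_smul_fix (g := r ^ (i : ℕ)) hta
      rwa [h1] at this⟩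
  refine h.eight_of_five (le_trans (le_of_eq (by simp [Nat.card_eq_fintype_card]))
    (le_relIndex_of_incong f (fun o => ?_) fun o o' hoo => ?_))
  · rcases o with _ | i
    · exact one_mem _
    · exact mem_inf.2 ⟨mul_mem (mul_mem (pow_mem hrX _) htX) (inv_mem (pow_mem hrX _)),
        h.mem_Ex_of_inv (hfinv i).1 (hfinv i).2⟩
  · rcases o with _ | i <;> rcases o' with _ | j
    · exact absurd rfl hoo
    · rw [show f none = 1 from rfl, inv_one, one_mul]; exact h.inv_notMem_Kx (hfinv j).1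
    · rw [show f none = 1 from rfl, mul_one, inv_mem_iff]; exact h.inv_notMem_Kx (hfinv i).1
    · rcases lt_trichotomy i j with hl | hl | hl
      · exact hfne i j hl
      · exact absurd (congrArg some hl) hoo
      · exact fun e => hfne j i hl (by simpa [mul_inv_rev] using inv_mem e)

end Cfsg.Agent.SECoreTwoClosed
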