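import Cfsg.Agent.Lib.SECoreTwoClosed.Core.Semireg
import Cfsg.Agent.Lib.SEAbelian.Cent

/-!
# The core lemma: general pieces for the end of the proof

Fixed points of two commuting elements of order `p`, a hyperplane of involutions with a larger centralizer,
and a set of representatives for the classes of involutions inside a covering subgroup.
-/

set_option autoImplicit false
set_option linter.style.haveILetI false
set_option linter.unusedSectionVars false

namespace Cfsg.Agent.SECoreTwoClosed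

open Subgroup MulAction
open Cfsg.Agent.Involutions
open Cfsg.Agent.SETwoClosed (IsSyl exists_isSyl TwoEl mem_normalizer_of_le)

universe u

variable {G : Type u} [Group G] [Finite G]

/-- If each nonidentity element of a group of type `(p, p)` commutes in `V` only with what `z` commutes with,
then `z` centralizes `V`. -/
theorem le_centralizer_of_pair {p l : ℕ} (hp : p.Prime) (hl : l.Prime) (hlp : l ≠ p) {y z : G} {V : Subgroup G}
    (hV : IsPGroup l ↥V) (hy : y ^ p = 1) (hy1 : y ∉ zpowers z) (hz : z ^ p = 1) (hz1 : z ≠ 1)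
    (hc : Commute y z) (hyV : y ∈ normalizer (V : Set G)) (hzV : z ∈ normalizer (V : Set G))
    (hfix : ∀ r ∈ zpowers y ⊔ zpowers z, r ≠ 1 → ∀ v ∈ V, Commute r v → Commute z v) :
    V ≤ centralizer ({z} : Set G) := by
  haveI := Fact.mk hp
  set A := zpowers y ⊔ zpowers z with hA
  have hzy : zpowers z ≤ normalizer (zpowers y : Set G) := zpowers_le.2
    (SETwoClosed.centralizer_le_normalizer _ (mem_centralizer_iff.2 fun r hr => by
      obtain ⟨i, rfl⟩ := mem_zpowers_iff.1 hr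
      exact (hc.zpow_left i).eq))
  have hrep : ∀ r ∈ A, ∃ i j : ℤ, y ^ i * z ^ j = r := fun r hr => by
    obtain ⟨a, ⟨i, rfl⟩, b, ⟨j, rfl⟩, rfl⟩ := (Coprime.mem_sup_of_le_normalizer hzy).1 hr
    exact ⟨i, j, rfl⟩
  haveI hAc : IsMulCommutative ↥A := ⟨⟨fun r s => Subtype.ext (by
    obtain ⟨i, j, hr⟩ := hrep r r.2
    obtain ⟨i', j', hs⟩ := hrep s s.2
    rw [Subgroup.coe_mul, Subgroup.coe_mul, ← hr, ← hs]
    exact ((((Commute.refl y).zpow_zpow i i').mul_right (hc.zpow_zpow i j')).mul_left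
      ((hc.symm.zpow_zpow j i').mul_right ((Commute.refl z).zpow_zpow j j'))).eq)⟩⟩
  have hexp : ∀ r ∈ A, r ^ p = 1 := fun r hr => by
    obtain ⟨i, j, rfl⟩ := hrep r hr
    rw [(hc.zpow_zpow i j).mul_pow, ← zpow_natCast (y ^ i), ← zpow_mul, mul_comm, zpow_mul,
      zpow_natCast, hy, one_zpow, ← zpow_natCast (z ^ j), ← zpow_mul, mul_comm j, zpow_mul, zpow_natCast,
      hz, one_zpow, one_mul]
  have hAp : IsPGroup p ↥A := fun r => ⟨1, Subtype.ext (by
    rw [Subgroup.coe_pow, pow_one, hexp r r.2, OneMemClass.coe_one])⟩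
  have hzord : orderOf z = p := orderOf_eq_prime hz hz1
  have hnc : ¬ IsCyclic ↥A := by
    intro hcyc
    obtain ⟨g, hg⟩ := IsCyclic.exists_generator (α := ↥A)
    have h1 : Nat.card ↥A ≤ p := by
      rw [← orderOf_eq_card_of_forall_mem_zpowers hg]
      refine Nat.le_of_dvd hp.pos (orderOf_dvd_of_pow_eq_one (Subtype.ext ?_))
      rw [Subgroup.coe_pow, hexp g g.2, OneMemClass.coe_one]
    have h2 : zpowers z = A := eq_of_le_of_card_ge le_sup_right (by rwa [Nat.card_zpowers, hzord])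
    exact hy1 (h2.ge (mem_sup_left (mem_zpowers y)))
  have hgen : Coprime.fixedGen A V = V := Coprime.fixedGen_eq hnc
    (sup_le (zpowers_le.2 hyV) (zpowers_le.2 hzV)) (by
    haveI := Fact.mk hl
    obtain ⟨i, hi⟩ := IsPGroup.iff_card.1 hAp
    obtain ⟨k, hk⟩ := IsPGroup.iff_card.1 hV
    rw [hi, hk]
    exact ((Nat.coprime_primes hp hl).2 (Ne.symm hlp)).pow i k)
  refine hgen.symm.le.trans (iSup₂_le fun r ⟨hr, hr1⟩ v hv => mem_centralizer_singleton_iff.2 ?_)
  exact (hfix r hr hr1 v (mem_inf.1 hv).1 (mem_centralizer_singleton_iff.1 (mem_inf.1 hv).2).symm).eq.symm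

/-- Some hyperplane of an elementary abelian 2-group acting nontrivially on an odd group has a centralizer that
the whole group does not centralize. -/
theorem exists_hyperplane {P E : Subgroup G} (hE : Cfsg.IsElementaryAbelian 2 E) (hP : Odd (Nat.card ↥P))
    (hn : E ≤ normalizer (P : Set G)) (hne : ¬ P ≤ centralizer (E : Set G)) :
    ∃ E' : Subgroup G, E' ≤ E ∧ Nat.card ↥E ≤ 2 * Nat.card ↥E' ∧
      ∃ g ∈ P, g ∈ centralizer (E' : Set G) ∧ g ∉ centralizer (E : Set G) := by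
  classical
  obtain ⟨E', ⟨hle, hE'⟩, hmax⟩ := Set.exists_max_image
    {E' : Subgroup G | E' ≤ E ∧ ¬ P ⊓ centralizer (E' : Set G) ≤ centralizer (E : Set G)}
    (fun E' => Nat.card ↥E') (Set.toFinite _) ⟨⊥, bot_le, fun hle => hne fun g hg => hle (mem_inf.2 ⟨hg,
      mem_centralizer_iff.2 fun e he => by rw [mem_bot.1 he, one_mul, mul_one]⟩)⟩
  obtain ⟨g, hg, hgE⟩ := SetLike.not_le_iff_exists.1 hE'
  refine ⟨E', hle, ?_, g, (mem_inf.1 hg).1, (mem_inf.1 hg).2, hgE⟩
  by_contra hsmall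
  rw [not_le] at hsmall
  haveI : IsMulCommutative ↥E := hE.1
  have hcomm : ∀ x ∈ E, ∀ y ∈ E, Commute x y := fun x hx y hy =>
    congrArg Subtype.val (IsMulCommutative.is_comm.comm (⟨x, hx⟩ : ↥E) ⟨y, hy⟩)
  have hsq : ∀ x ∈ E, x * x = 1 := fun x hx => by rw [← pow_two]; exact hE.2 x hx
  have hnorm : ∀ x ∈ E, zpowers x ≤ normalizer (E' : Set G) := fun x hx => zpowers_le.2
    (SETwoClosed.centralizer_le_normalizer _ (mem_centralizer_iff.2 fun e he => (hcomm e (hle he) x hx).eq))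
  have hcard : ∀ x ∈ E, Nat.card ↥(E' ⊔ zpowers x) ≤ 2 * Nat.card ↥E' := fun x hx => by
    have h1 : Nat.card ↥(zpowers x) ≤ 2 := by
      rw [Nat.card_zpowers]
      exact Nat.le_of_dvd two_pos (orderOf_dvd_of_pow_eq_one (hE.2 x hx))
    refine le_trans (Nat.card_le_card_of_surjective
      (fun q : ↥E' × ↥(zpowers x) => (⟨(q.1 : G) * q.2, mul_mem_sup q.1.2 q.2.2⟩ : ↥(E' ⊔ zpowers x)))
      fun r => ?_) ?_
    · obtain ⟨e, he, w, hw, hew⟩ := (Coprime.mem_sup_of_le_normalizer (hnorm x hx)).1 r.2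
      exact ⟨(⟨e, he⟩, ⟨w, hw⟩), Subtype.ext hew⟩
    · rw [Nat.card_prod, mul_comm]
      exact Nat.mul_le_mul_right _ h1
  obtain ⟨x, hxE, hxE'⟩ : ∃ x ∈ E, x ∉ E' := SetLike.not_le_iff_exists.1 fun hEE => by
    have := card_le_of_le hEE
    omega
  obtain ⟨y, hyE, hyE'⟩ : ∃ y ∈ E, y ∉ E' ⊔ zpowers x := SetLike.not_le_iff_exists.1 fun hEE => by
    have := card_le_of_le hEE
    have := hcard x hxE
    omega
  -- the centralizers of the larger subgroups are centralized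
  have key : ∀ w ∈ E, w ∉ E' → ∀ r ∈ P ⊓ centralizer (E' : Set G), Commute r w →
      r ∈ centralizer (E : Set G) := by
    intro w hw hwE' r hr hrw
    by_contra hrE
    have hle' : E' ⊔ zpowers w ≤ E := sup_le hle (zpowers_le.2 hw)
    have h1 := hmax (E' ⊔ zpowers w) ⟨hle', fun hall => hrE (hall (mem_inf.2 ⟨(mem_inf.1 hr).1,
      mem_centralizer_iff.2 fun e he => by
        obtain ⟨e1, he1, e2, he2, rfl⟩ := (Coprime.mem_sup_of_le_normalizer (hnorm w hw)).1 he
        obtain ⟨i, rfl⟩ := mem_zpowers_iff.1 he2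
        exact ((show Commute r e1 from (mem_centralizer_iff.1 (mem_inf.1 hr).2 e1 he1).symm).mul_right
          (hrw.zpow_right i)).eq.symm⟩))⟩
    exact hwE' ((eq_of_le_of_card_ge le_sup_left h1).ge (mem_sup_right (mem_zpowers w)))
  have hxy : x * y ∉ E' := fun e => hyE' (by
    have h1 : x⁻¹ * (x * y) ∈ E' ⊔ zpowers x :=
      mul_mem (inv_mem (mem_sup_right (mem_zpowers x))) (mem_sup_left e)
    rwa [inv_mul_cancel_left] at h1)
  have hR : ∀ w ∈ E, w ∈ normalizer ((P ⊓ centralizer (E' : Set G) : Subgroup G) : Set G) := fun w hw =>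
    mem_normalizer_of_le fun r hr => mem_inf.2 ⟨(mem_normalizer_iff.1 (hn hw) r).1 (mem_inf.1 hr).1,
      mem_centralizer_iff.2 fun e he => by
        have h1 : Commute e r := mem_centralizer_iff.1 (mem_inf.1 hr).2 e he
        have h2 : Commute e w := hcomm e (hle he) w hw
        exact ((h2.mul_right h1).mul_right h2.inv_right).eq⟩
  refine hE' (SECore.le_of_four (hP.of_dvd_nat (card_dvd_of_le inf_le_left)) (hsq x hxE) (hsq y hyE)
    (hcomm x hxE y hyE) (hR x hxE) (hR y hyE) fun r hr hcr => ?_)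
  rcases hcr with hcr | hcr | hcr
  · exact key x hxE hxE' r hr hcr
  · exact key y hyE (fun e => hyE' (mem_sup_left e)) r hr hcr
  · exact key _ (mul_mem hxE hyE) hxy r hr hcr

variable {H W : Subgroup G}

/-- Inside a covering subgroup a Sylow 2-subgroup of `Ex W d` gives one element in each class. -/
theorem THyp.exists_reps (h : THyp H W) {n p : ℕ} (hP : Par H W n p) {X : Subgroup G} {d : G ⧸ H}
    (hfull : Covers W X d) : ∃ E0 : Subgroup G, IsSyl 2 E0 (X ⊓ Ex W d) ∧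
      Cfsg.IsElementaryAbelian 2 E0 ∧ Nat.card ↥E0 = 2 ^ n ∧
      ∀ e ∈ X ⊓ Ex W d, ∃ s ∈ E0, s⁻¹ * e ∈ Kx W d := by
  classical
  haveI : Fact (Nat.Prime 2) := ⟨Nat.prime_two⟩
  set Y := X ⊓ Ex W d
  obtain ⟨S, hS⟩ := exists_isSyl (p := 2) Y
  have hsq : ∀ s ∈ S, s * s = 1 := by
    intro s hs
    obtain ⟨k, hk⟩ := hS.2.1 ⟨s, hs⟩
    have hk' : s ^ 2 ^ k = 1 := congrArg Subtype.val hk
    refine TwoEl.eq_one_of_odd ⟨k, ?_⟩ (h.odd_orderOf (h.mem_Ex.1 (mem_inf.1 (hS.1 hs)).2).2)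
    rw [← pow_two, ← pow_mul, mul_comm, pow_mul, hk', one_pow]
  have hi : ∀ s ∈ S, s⁻¹ = s := fun s hs => inv_eq_of_mul_eq_one_right (hsq s hs)
  have hel : Cfsg.IsElementaryAbelian 2 S := ⟨⟨⟨fun a b => Subtype.ext (by
    show (a : G) * b = b * a
    rw [← hi _ (mul_mem a.2 b.2), mul_inv_rev, hi _ a.2, hi _ b.2])⟩⟩,
    fun s hs => by rw [pow_two]; exact hsq s hs⟩
  set K' := (Kx W d).subgroupOf Y
  haveI : K'.Normal := ⟨fun e he g =>
    h.Kx_normal (mem_stabilizer_iff.1 (h.Ex_le d (mem_inf.1 g.2).2)) he⟩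
  have hq : Nat.card (↥Y ⧸ K') = 2 ^ n := by
    rw [← Subgroup.index, ← relIndex, h.relIndex_of_covers hfull, hP.card_E]
  set f : ↥S → ↥Y ⧸ K' := fun s => ((⟨s, hS.1 s.2⟩ : ↥Y) : ↥Y ⧸ K')
  have hf : Function.Injective f := fun s t e => by
    have h1 := QuotientGroup.eq.1 e
    rw [mem_subgroupOf] at h1
    have h2 : ((s : G)⁻¹ * t) = 1 := by
      refine TwoEl.eq_one_of_odd (SETwoClosed.twoEl_of_sq (hsq _ (mul_mem (inv_mem s.2) t.2))) ?_
      exact h.odd_orderOf h1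
    exact Subtype.ext (inv_mul_eq_one.1 h2)
  have hcard : Nat.card ↥S = 2 ^ n := by
    refine le_antisymm (hq ▸ Nat.card_le_card_of_injective f hf) ?_
    rw [hS.card_eq]
    refine Nat.pow_le_pow_right two_pos ((Nat.Prime.pow_dvd_iff_le_factorization Nat.prime_two
      Nat.card_pos.ne').1 ?_)
    rw [← hq, ← Subgroup.index]
    exact index_dvd_card _
  refine ⟨S, hS, hel, hcard, fun e he => ?_⟩
  obtain ⟨s, hs⟩ := ((Nat.bijective_iff_injective_and_card f).2 ⟨hf, hcard.trans hq.symm⟩).2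
    ((⟨e, he⟩ : ↥Y) : ↥Y ⧸ K')
  have h1 := QuotientGroup.eq.1 hs
  rw [mem_subgroupOf] at h1
  exact ⟨s, s.2, h1⟩

end Cfsg.Agent.SECoreTwoClosed
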