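import Cfsg.Agent.Lib.SECoreTwoClosed.Core.Fpf
import Cfsg.Agent.Lib.SECoreTwoClosed.Core.Pieces
import Cfsg.Agent.Lib.SECoreTwoClosed.Core.Inverted
import Cfsg.Agent.Lib.Cores.Nilpotent
import Cfsg.Agent.Lib.SECoreTwoClosed.Frobenius

/-!
# The core lemma: a Sylow `p`-subgroup of a two-point stabilizer is faithful on the involutions

If `T ⊓ Ux W a` is not trivial, then, with absorption, an element of order `p` outside `Ux W a` and a central
element of `T ⊓ Ux W a` have no fixed points on the normal `l`-subgroups of the kernel, and without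
absorption the central element centralizes them, so the involutions form a normal elementary subgroup.
-/

set_option autoImplicit false
set_option linter.style.haveILetI false
set_option linter.unusedSectionVars false

namespace Cfsg.Agent.SECoreTwoClosed

open Subgroup MulAction
open Cfsg.Agent.Involutions
open Cfsg.Agent.SETwoClosed (cj mem_cj conj_mem_cj cj_cj cj_one card_cj cj_eq_self isPGroup_cj IsSyl exists_isSyl
  exists_isSyl_ge mem_normalizer_of_cj mem_normalizer_of_le TwoEl)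
open Cfsg.Agent.SEAbelian (exists_pow_prime exists_pow_last exists_normalized_conj)

universe u

variable {G : Type u} [Group G] [Finite G]

/-- An element of odd order equal to its inverse is trivial. -/
theorem eq_one_of_eq_inv {m : G} (h : m = m⁻¹) (ho : Odd (orderOf m)) : m = 1 :=
  TwoEl.eq_one_of_odd (SETwoClosed.twoEl_of_sq (mul_eq_one_iff_eq_inv.2 h)) ho

variable {H W : Subgroup G} {n p : ℕ} (hF : Facts H W n p)
include hF

/-- Some normal subgroup of prime power order of the kernel is not trivial. -/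
theorem Facts.exists_normalSub (hW : W ≠ ⊥) (a : G ⧸ H) :
    ∃ (l : ℕ) (V : Subgroup G), NormalSub W l a V ∧ V ≠ ⊥ := by
  have h := hF.par.hyp
  obtain ⟨l, hl, hne⟩ : ∃ l : ℕ, l.Prime ∧ (Cfsg.pCore l ↥(Kx W a)) ≠ ⊥ := by
    haveI : Group.IsSolvable ↥(Kx W a) := Cfsg.Agent.S0205.result (h.odd_Kx a)
    haveI : Nontrivial ↥(Kx W a) := (nontrivial_iff_ne_bot _).2 fun e => hW (eq_bot_of_card_eq _ (by
      rw [← h.card_Kx a, e, card_bot]))
    by_contra hall
    push Not at hall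
    refine Cores.fittingSubgroup_ne_bot (G := ↥(Kx W a)) ?_
    rw [Cores.fittingSubgroup_eq_iSup, eq_bot_iff]
    exact iSup_le fun l => (hall _ (Nat.prime_of_mem_primeFactors l.2)).le
  exact ⟨l, _, h.normalSub_pCore hl a,
    fun e => hne ((map_eq_bot_iff_of_injective _ (Kx W a).subtype_injective).1 e)⟩

variable {a b : G ⧸ H} (hab : a ≠ b) {T : Subgroup G} (hT : IsSyl p T (Dp a b))
include hab hT

/-- A nontrivial `T ⊓ Ux W a` contains a central element of order `p` of `T`. -/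
theorem Facts.exists_central (hR : T ⊓ Ux W a ≠ ⊥) :
    ∃ z ∈ T ⊓ Ux W a, z ^ p = 1 ∧ z ≠ 1 ∧ ∀ r ∈ T, Commute z r := by
  haveI := hF.fact
  have h := hF.par.hyp
  haveI : Group.IsNilpotent ↥T := hT.2.1.isNilpotent
  haveI hn : ((T ⊓ Ux W a).subgroupOf T).Normal := ⟨fun e he g => mem_inf.2
    ⟨mul_mem (mul_mem g.2 (mem_inf.1 he).1) (inv_mem g.2), h.Ux_normal (mem_inf.1 (hT.1 g.2)).1 (mem_inf.1 he).2⟩⟩
  have hne : (T ⊓ Ux W a).subgroupOf T ≠ ⊥ := fun e => hR (eq_bot_iff.2 fun r hr => mem_bot.2 (by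
    have h1 : (⟨r, (mem_inf.1 hr).1⟩ : ↥T) ∈ (T ⊓ Ux W a).subgroupOf T := hr
    rw [e, mem_bot] at h1
    exact congrArg Subtype.val h1))
  obtain ⟨⟨z, hz⟩, hz1⟩ := ne_bot_iff_exists_ne_one.1 (Cores.inf_center_ne_bot hne)
  obtain ⟨hzR, hzc⟩ := mem_inf.1 hz
  have hz1' : (z : G) ≠ 1 := fun e => hz1 (Subtype.ext (Subtype.ext e))
  obtain ⟨i, hi1, hip⟩ := exists_pow_prime hz1' (exists_pow_eq_one_of_mem hT.2.1 z.2)
  refine ⟨(z : G) ^ i, pow_mem (hzR : (z : G) ∈ T ⊓ Ux W a) i, hip, hi1, fun r hr => ?_⟩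
  exact (show Commute (z : G) r from (congrArg Subtype.val (mem_center_iff.1 hzc ⟨r, hr⟩)).symm).pow_left i

/-- An element of order `p` outside `Ux W a` and one of order `p` inside are not powers of each other. -/
theorem Facts.zpowers_inf_Ux {y : G} (hyp : y ^ p = 1) (hyU : y ∉ Ux W a) {i : ℤ} (hi : y ^ i ∈ Ux W a) :
    y ^ i = 1 := by
  by_contra hne
  haveI := hF.fact
  have hy1 : y ≠ 1 := fun e => hyU (e ▸ one_mem _)
  have h1 : zpowers (y ^ i) = zpowers y := eq_of_le_of_card_ge (zpowers_le.2 (zpow_mem (mem_zpowers y) i))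
    (by rw [Nat.card_zpowers, Nat.card_zpowers, orderOf_eq_prime hyp hy1, orderOf_eq_prime (by
      rw [← zpow_natCast, ← zpow_mul, mul_comm, zpow_mul, zpow_natCast, hyp, one_zpow]) hne])
  exact hyU (zpowers_le.2 hi (h1.ge (mem_zpowers y)))

variable [FaithfulSMul G (G ⧸ H)] (IH : IndHyp G)
include IH

/-- Elements of order `p` of the kernel centralizing the same hyperplane of involutions. -/
theorem Facts.mem_zpowers_of_commute (hW : W ≠ ⊥) (hA : ¬ Absorb p a) {E : Subgroup G}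
    (hEa : E ≤ stabilizer G a) (hE : Cfsg.IsElementaryAbelian 2 E) (hEcard : 2 ^ (n - 1) ≤ Nat.card ↥E)
    {z j : G} (hz : z ∈ T ⊓ Kx W a) (hzE : ∀ e ∈ E, Commute z e) (hzp : z ^ p = 1) (hz1 : z ≠ 1)
    (hj : j ∈ T ⊓ Kx W a) (hjE : ∀ e ∈ E, Commute j e) (hjp : j ^ p = 1) (hc : Commute j z) :
    j ∈ zpowers z := by
  have h := hF.par.hyp
  by_contra hjz
  obtain ⟨l, V, hV, hVne⟩ := hF.exists_normalSub hW a
  have hlp : l ≠ p := fun e => hVne (hF.eq_bot_of_p IH hab (e ▸ hV))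
  have hTa : T ≤ stabilizer G a := hT.1.trans inf_le_left
  have hN : ∀ {r}, r ∈ T → r ∈ normalizer (V : Set G) := fun hr => hV.normal (hTa hr)
  have hY : zpowers j ⊔ zpowers z ≤
      (T ⊓ Kx W a) ⊓ centralizer (E : Set G) := sup_le
    (zpowers_le.2 (mem_inf.2 ⟨hj, mem_centralizer_iff.2 fun e he => (hjE e he).eq.symm⟩))
    (zpowers_le.2 (mem_inf.2 ⟨hz, mem_centralizer_iff.2 fun e he => (hzE e he).eq.symm⟩))
  have hfpf : ∀ r ∈ zpowers j ⊔ zpowers z, r ≠ 1 → ∀ v ∈ V, Commute r v → v = 1 := fun r hr hr1 v hv hrv =>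
    hF.fpf_ker IH hab hA hV hT (mem_inf.1 (hY hr)).1 hr1 hEa hE hEcard
      (fun e he => (show Commute e r from mem_centralizer_iff.1 (mem_inf.1 (hY hr)).2 e he).symm) hv hrv
  have h1 := le_centralizer_of_pair hF.par.prime hV.prime hlp hV.isPGroup hjp hjz hzp hz1 hc
    (hN (mem_inf.1 hj).1) (hN (mem_inf.1 hz).1) fun r hr hr1 v hv hrv => by
      rw [hfpf r hr hr1 v hv hrv]; exact Commute.one_right z
  refine hVne (eq_bot_iff.2 fun v hv => mem_bot.2 ?_)
  exact hfpf z (mem_sup_right (mem_zpowers z)) hz1 v hv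
    (mem_centralizer_singleton_iff.1 (h1 hv)).symm

/-- A group of representatives of the classes of involutions acting nontrivially on `T ⊓ Kx W a` fixes only
the identity. -/
theorem Facts.cent_eq_one (hW : W ≠ ⊥) (hA : ¬ Absorb p a) {E0 : Subgroup G} (hEa : E0 ≤ stabilizer G a)
    (hE : Cfsg.IsElementaryAbelian 2 E0) (hcard : Nat.card ↥E0 = 2 ^ n)
    (hEn : E0 ≤ normalizer ((T ⊓ Kx W a : Subgroup G) : Set G))
    (hEc : ¬ T ⊓ Kx W a ≤ centralizer (E0 : Set G)) {j : G} (hj : j ∈ T ⊓ Kx W a)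
    (hjE : ∀ e ∈ E0, Commute j e) : j = 1 := by
  classical
  have h := hF.par.hyp
  haveI := hF.fact
  haveI : IsMulCommutative ↥E0 := hE.1
  set P1 := T ⊓ Kx W a
  have hP1p : IsPGroup p ↥P1 := hT.2.1.to_le inf_le_left
  have hodd : Odd (Nat.card ↥P1) := hF.par.odd_card hP1p
  obtain ⟨E, hEle, hEcard, g, hg, hgE, hgE0⟩ := exists_hyperplane hE hodd hEn hEc
  have hEcard' : 2 ^ (n - 1) ≤ Nat.card ↥E := by
    have h3 := hF.par.three_le
    rw [hcard, show n = (n - 1) + 1 by omega, pow_succ] at hEcard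
    omega
  have hEel : Cfsg.IsElementaryAbelian 2 E := ⟨⟨⟨fun x y => Subtype.ext
    (congrArg Subtype.val (hE.1.is_comm.comm (⟨x, hEle x.2⟩ : ↥E0) ⟨y, hEle y.2⟩) :)⟩⟩,
    fun x hx => hE.2 x (hEle hx)⟩
  have hEa' : E ≤ stabilizer G a := hEle.trans hEa
  set Y := P1 ⊓ centralizer (E : Set G)
  have hYc : ∀ {r}, r ∈ Y → ∀ e ∈ E, Commute r e := fun hr e he =>
    (show Commute e _ from mem_centralizer_iff.1 (mem_inf.1 hr).2 e he).symm
  have hgY : g ∈ Y := mem_inf.2 ⟨hg, hgE⟩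
  obtain ⟨t, ht, hgt⟩ : ∃ t ∈ E0, ¬ Commute g t := by
    by_contra hall
    push Not at hall
    exact hgE0 (mem_centralizer_iff.2 fun e he => (hall e he).eq.symm)
  have ht2 : t * t = 1 := by rw [← pow_two]; exact hE.2 t ht
  have hte : ∀ e ∈ E, Commute e t := fun e he =>
    congrArg Subtype.val (hE.1.is_comm.comm (⟨e, hEle he⟩ : ↥E0) ⟨t, ht⟩)
  have hYt : ∀ {r}, r ∈ Y → t * r * t⁻¹ ∈ Y := fun hr => mem_inf.2
    ⟨(mem_normalizer_iff.1 (hEn ht) _).1 (mem_inf.1 hr).1, mem_centralizer_iff.2 fun e he =>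
      (((hte e he).mul_right (hYc hr e he).symm).mul_right (hte e he).inv_right).eq⟩
  set c := g⁻¹ * (t * g * t⁻¹)
  have hcY : c ∈ Y := mul_mem (inv_mem hgY) (hYt hgY)
  have hc1 : c ≠ 1 := fun e => hgt (mul_inv_eq_iff_eq_mul.1 (inv_mul_eq_one.1 e).symm).symm
  have hct : t * c * t⁻¹ = c⁻¹ := by
    calc t * c * t⁻¹ = (t * g * t⁻¹)⁻¹ * ((t * t) * g * (t * t)⁻¹) := by simp only [c]; group
      _ = c⁻¹ := by rw [ht2]; simp only [c]; group
  by_contra hj1
  obtain ⟨i1, hj11, hj1p⟩ := exists_pow_prime hj1 (exists_pow_eq_one_of_mem hP1p hj)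
  obtain ⟨i2, hc11, hc1p⟩ := exists_pow_prime hc1 (exists_pow_eq_one_of_mem hP1p (mem_inf.1 hcY).1)
  have hYp : IsPGroup p ↥Y := hP1p.to_le inf_le_left
  haveI : Nontrivial ↥Y := ⟨⟨⟨c, hcY⟩, 1, fun e => hc1 (congrArg Subtype.val e)⟩⟩
  haveI := hYp.center_nontrivial
  obtain ⟨⟨z', hz'⟩, hz'1⟩ := exists_ne (1 : ↥(center ↥Y))
  have hz'ne : (z' : G) ≠ 1 := fun e => hz'1 (Subtype.ext (Subtype.ext e))
  obtain ⟨i3, hz1, hzp⟩ := exists_pow_prime hz'ne (exists_pow_eq_one_of_mem hYp z'.2)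
  set z := (z' : G) ^ i3
  have hzY : z ∈ Y := pow_mem z'.2 i3
  have hzc : ∀ r ∈ Y, Commute z r := fun r hr =>
    (show Commute (z' : G) r from (congrArg Subtype.val (mem_center_iff.1 hz' ⟨r, hr⟩)).symm).pow_left i3
  have hjY : j ∈ Y := mem_inf.2 ⟨hj, mem_centralizer_iff.2 fun e he => (hjE e (hEle he)).eq.symm⟩
  have hin : ∀ r ∈ Y, r ^ p = 1 → r ∈ zpowers z := fun r hr hrp =>
    hF.mem_zpowers_of_commute hab hT IH hW hA hEa' hEel hEcard' (mem_inf.1 hzY).1 (hYc hzY) hzp hz1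
      (mem_inf.1 hr).1 (hYc hr) hrp (hzc r hr).symm
  have hjz : zpowers (j ^ i1) = zpowers z := eq_of_le_of_card_ge
    (zpowers_le.2 (hin _ (pow_mem hjY _) hj1p))
    (by rw [Nat.card_zpowers, Nat.card_zpowers, orderOf_eq_prime hzp hz1, orderOf_eq_prime hj1p hj11])
  obtain ⟨m, hm⟩ := mem_zpowers_iff.1 (hjz ▸ hin _ (pow_mem hcY _) hc1p : c ^ i2 ∈ zpowers (j ^ i1))
  have h1 : t * c ^ i2 * t⁻¹ = c ^ i2 := mul_inv_eq_iff_eq_mul.2
    (hm ▸ (((hjE t ht).pow_left i1).zpow_left m).eq.symm)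
  rw [← conj_pow, hct, inv_pow] at h1
  exact hc11 (eq_one_of_eq_inv h1.symm
    (SECore.odd_orderOf_of_mem hodd (pow_mem (mem_inf.1 hcY).1 i2)))

/-- With absorption `T ⊓ Ux W a` is trivial. -/
theorem Facts.inf_Ux_absorb (hW : W ≠ ⊥) (hA : Absorb p a) : T ⊓ Ux W a = ⊥ := by
  classical
  by_contra hR1
  have h := hF.par.hyp
  haveI := hF.fact
  set R1 := T ⊓ Ux W a with hR1def
  have hR1b : R1 = T ⊓ Ux W b := hF.syl_U a b T hab hT
  have hR1p : IsPGroup p ↥R1 := hT.2.1.to_le inf_le_left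
  have hTa : T ≤ stabilizer G a := hT.1.trans inf_le_left
  obtain ⟨u, hu, hua, hub, huT⟩ := hF.par.exists_swap_syl hab hT
  have huN : u ∈ normalizer (T : Set G) := mem_normalizer_of_cj huT
  -- an involution at `b` centralizing `R1`
  have hAb : Absorb p b := by
    obtain ⟨g, rfl⟩ := MulAction.exists_smul_eq G a b
    exact hA.smul g
  obtain ⟨t0, ht0, ht0b⟩ := h.exists_inv_at b
  obtain ⟨tb, htb, htbb, -, htbR⟩ := hF.par.exists_fixed_lift hAb hR1p (hR1b.le.trans inf_le_right) ht0 ht0b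
  have hlift : ∀ t : G, orderOf t = 2 → t • a = a →
      ∃ s ∈ centralizer (R1 : Set G), orderOf s = 2 ∧ s • a = a ∧ s⁻¹ * t ∈ Kx W a := fun t ht hta => by
    obtain ⟨s, hs, hsa, hst, hsR⟩ := hF.par.exists_fixed_lift hA hR1p inf_le_right ht hta
    exact ⟨s, hsR, hs, hsa, hst⟩
  have htba : tb • a ≠ a := fun e => hab (h.eq_of_fixed htb e htbb)
  -- elements of `R1` have no fixed points
  have hfpf : ∀ {l : ℕ} {V : Subgroup G}, NormalSub W l a V → ∀ r ∈ R1, r ≠ 1 → ∀ v ∈ V,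
      Commute r v → v = 1 := by
    intro l V hV r hr hr1 v hv hc
    set X := centralizer ({r} : Set G)
    have hCX : centralizer (R1 : Set G) ≤ X := centralizer_le (Set.singleton_subset_iff.2 hr)
    have hX : X ≠ ⊤ := fun e => hr1 (FaithfulSMul.eq_of_smul_eq_smul (α := G ⧸ H) fun z => by
      obtain ⟨g, rfl⟩ := MulAction.exists_smul_eq G a z
      rw [one_smul, ← mul_smul, ← mem_centralizer_singleton_iff.1 (e ▸ mem_top g : g ∈ X), mul_smul,
        mem_stabilizer_iff.1 (hTa (mem_inf.1 hr).1)])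
    have hfull : Covers W X a := fun t ht hta => by
      obtain ⟨s, hs, hrest⟩ := hlift t ht hta
      exact ⟨s, hCX hs, hrest⟩
    exact hF.fpf_slice IH hab hV hX (hCX htbR) htba (h.eight_of_covers hfull) hv
      (mem_centralizer_singleton_iff.2 hc.eq.symm)
  -- the swapper centralizes `R1`
  have huR : ∀ r ∈ R1, Commute u r := by
    obtain ⟨s0, hs0, hs0a⟩ := h.exists_inv_at a
    obtain ⟨s, hsR, hs, hsa, -⟩ := hlift s0 hs0 hs0a
    set X := normalizer (R1 : Set G)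
    have huX : u ∈ X := mem_normalizer_of_le fun r hr => by
      have h1 := h.conj_mem_Ux (g := u) (mem_inf.1 hr).2
      rw [hua] at h1
      rw [hR1b]
      exact mem_inf.2 ⟨(mem_normalizer_iff.1 huN r).1 (mem_inf.1 hr).1, h1⟩
    obtain ⟨g, hg, hgu⟩ := h.isConj_in ⟨tb, SETwoClosed.centralizer_le_normalizer _ htbR, htba⟩
      (SETwoClosed.centralizer_le_normalizer _ hsR) hs hsa huX hu
    intro r hr
    have h1 : g⁻¹ * r * g ∈ R1 := by simpa using (mem_normalizer_iff.1 (inv_mem hg) r).1 hr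
    have h2 : Commute s (g⁻¹ * r * g) := (show Commute (g⁻¹ * r * g) s from
      mem_centralizer_iff.1 hsR _ h1).symm
    have h3 := h2.map (MulAut.conj g).toMonoidHom
    simp only [MulEquiv.coe_toMonoidHom, MulAut.conj_apply] at h3
    rwa [hgu, show g * (g⁻¹ * r * g) * g⁻¹ = r by group] at h3
  -- an element of order `p` outside
  obtain ⟨-, c, hc, hcU, hcu⟩ := hF.exists_inverted hab hT hu hua huN
  obtain ⟨i, hiU, hip⟩ := exists_pow_last (p := p) hcU
    ((exists_pow_eq_one_of_mem hT.2.1 hc).imp fun _ hk => by rw [hk]; exact one_mem _)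
  set y := c ^ i
  have hyT : y ∈ T := pow_mem hc i
  have hyp : y ^ p = 1 := by
    have hm : y ^ p ∈ R1 := mem_inf.2 ⟨pow_mem hyT p, hip⟩
    have h1 : u * y ^ p * u⁻¹ = (y ^ p)⁻¹ := by
      rw [← conj_pow, ← conj_pow, hcu, inv_pow, inv_pow]
    rw [(huR _ hm).eq, mul_inv_cancel_right] at h1
    exact eq_one_of_eq_inv h1 (SECore.odd_orderOf_of_mem (hF.par.odd_card hR1p) hm)
  obtain ⟨z, hz, hzp, hz1, hzc⟩ := hF.exists_central hab hT hR1
  have hyz : y ∉ zpowers z := fun e => hiU (mem_inf.1 (zpowers_le.2 hz e)).2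
  obtain ⟨l, V, hV, hVne⟩ := hF.exists_normalSub hW a
  have hlp : l ≠ p := fun e => hVne (hF.eq_bot_of_p IH hab (e ▸ hV))
  have hA' : zpowers y ⊔ zpowers z ≤ T := sup_le (zpowers_le.2 hyT) (zpowers_le.2 (mem_inf.1 hz).1)
  have hall : ∀ r ∈ zpowers y ⊔ zpowers z, r ≠ 1 → ∀ v ∈ V, Commute r v → v = 1 := by
    intro r hr hr1 v hv hrv
    by_cases hrU : r ∈ Ux W a
    · exact hfpf hV r (mem_inf.2 ⟨hA' hr, hrU⟩) hr1 v hv hrv
    · exact hF.fpf_elt IH hab hV (mem_stabilizer_iff.1 (hTa (hA' hr)))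
        (exists_pow_eq_one_of_mem hT.2.1 (hA' hr)) hrU hv hrv
  have h1 := le_centralizer_of_pair hF.par.prime hV.prime hlp hV.isPGroup hyp hyz hzp hz1
    (hzc y hyT).symm (hV.normal (hTa hyT)) (hV.normal (hTa (mem_inf.1 hz).1)) fun r hr hr1 v hv hrv => by
      rw [hall r hr hr1 v hv hrv]; exact Commute.one_right z
  refine hVne (eq_bot_iff.2 fun v hv => mem_bot.2 ?_)
  exact hall z (mem_sup_right (mem_zpowers z)) hz1 v hv (mem_centralizer_singleton_iff.1 (h1 hv)).symm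

/-- Without absorption an element of order `p` of `T` lies outside `Ux W a`. -/
theorem Facts.exists_order_p (hW : W ≠ ⊥) (hA : ¬ Absorb p a) :
    ∃ y ∈ T, y ^ p = 1 ∧ y ∉ Ux W a := by
  classical
  have h := hF.par.hyp
  haveI := hF.fact
  set P1 := T ⊓ Kx W a with hP1def
  have hP1b : P1 = T ⊓ Kx W b := hF.syl_K a b T hab hT hA
  have hP1p : IsPGroup p ↥P1 := hT.2.1.to_le inf_le_left
  have hTa : T ≤ stabilizer G a := hT.1.trans inf_le_left
  have hTP : T ≤ normalizer (P1 : Set G) := fun r hr => mem_normalizer_of_le fun e he => mem_inf.2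
    ⟨mul_mem (mul_mem hr (mem_inf.1 he).1) (inv_mem hr), h.Kx_normal (hTa hr) (mem_inf.1 he).2⟩
  obtain ⟨u, hu, hua, hub, huT⟩ := hF.par.exists_swap_syl hab hT
  have huN : u ∈ normalizer (T : Set G) := mem_normalizer_of_cj huT
  obtain ⟨-, c, hc, hcU, hcu⟩ := hF.exists_inverted hab hT hu hua huN
  obtain ⟨i, hiU, hip⟩ := exists_pow_last (p := p) hcU
    ((exists_pow_eq_one_of_mem hT.2.1 hc).imp fun _ hk => by rw [hk]; exact one_mem _)
  set c' := c ^ i
  have hc'T : c' ∈ T := pow_mem hc i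
  set m := c' ^ p
  have hmT : m ∈ T := pow_mem hc'T p
  have hmu : u * m * u⁻¹ = m⁻¹ := by
    simp only [m, c']
    rw [← conj_pow, ← conj_pow, hcu, inv_pow, inv_pow]
  -- the last power lies in the kernel
  have hm : m ∈ P1 := by
    have hTne : T ≠ ⊥ := fun e => hF.par.not_le_Ux hab hT (e ▸ bot_le)
    set X0 := normalizer (Cfsg.centerThompsonOf p T : Set G)
    have hX0 : X0 ≠ ⊤ := normalizer_ne_top ((zj_le T).trans hTa) (zj_ne_bot hT.2.1 hTne)
    have hTX0 : T ≤ X0 := le_normalizer.trans (normalizer_le_zj T)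
    have huX0 : u ∈ X0 := normalizer_le_zj T huN
    have hcov : ∀ g ∈ stabilizer G a, ∃ k ∈ Kx W a, ∃ r ∈ X0, k * r = g := fun g hg => by
      obtain ⟨o, ho, r, hr, hor⟩ := zj_cover hF.par.five_le (h.isSolvable_stab a) (hF.syl_stab hab hT) hg
      exact ⟨o, h.pPrimeCore_le hA ho, r, (mem_inf.1 hr).2, hor⟩
    have hmov : ∃ g ∈ X0, g • a ≠ a := ⟨u, huX0, by rw [hua]; exact hab.symm⟩
    haveI : (Cfsg.oddCore ↥X0).Normal := PLocal.Cores.pPrimeCore_normal'
    have h1 := (h.slice_U IH hX0 hmov (fun t ht hta => h.cover_full hcov ht hta) (mem_orbit_self a)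
      ⟨⟨u, huX0⟩, hua⟩ hab (hTX0 hmT) hip (mem_inf.1 (hT.1 hmT)).2).2 u huX0 hu hua
    have h2 : m * m ∈ Kx W a := by
      have h3 := (h.slice_cover IH hX0 hmov hcov (one_mem X0)).ge h1
      have h4 : u * m⁻¹ * u⁻¹ = m := by
        rw [← conj_inv, hmu, inv_inv]
      rw [one_smul] at h3
      rw [show m * m = m * u * m⁻¹ * u⁻¹ by
        conv_lhs => arg 2; rw [← h4]
        group]
      exact (mem_inf.1 h3).2
    obtain ⟨k, hk⟩ := exists_pow_eq_self_of_coprime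
      (Nat.coprime_two_left.2 (SECore.odd_orderOf_of_mem (hF.par.odd_card hT.2.1) hmT))
    exact mem_inf.2 ⟨hmT, hk ▸ pow_mem (by rwa [pow_two]) k⟩
  -- representatives of the classes normalizing `P1`
  set X := normalizer (P1 : Set G)
  have hfull : Covers W X a := fun t ht hta => h.cover_full (fun g hg => by
    obtain ⟨k, hk, r, hr, hkr⟩ := hF.frattini hab hT hg
    exact ⟨k, hk, r, (mem_inf.1 hr).2, hkr⟩) ht hta
  obtain ⟨E1, hE1, hE1el, hE1card, hE1cov⟩ := h.exists_reps hF.par hfull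
  set Y := X ⊓ Ex W a
  have hYn : X ⊓ stabilizer G a ≤ normalizer (Y : Set G) := fun g hg => mem_normalizer_of_le fun e he =>
    mem_inf.2 ⟨mul_mem (mul_mem (mem_inf.1 hg).1 (mem_inf.1 he).1) (inv_mem (mem_inf.1 hg).1),
      h.Ex_normal (mem_inf.1 hg).2 (mem_inf.1 he).2⟩
  set Q := zpowers c'
  have hQ : ∀ g ∈ Q, g ∈ X ⊓ stabilizer G a := fun g hg =>
    mem_inf.2 ⟨hTP (zpowers_le.2 hc'T hg), hTa (zpowers_le.2 hc'T hg)⟩
  have hcjE : ∀ g ∈ X ⊓ stabilizer G a, ∃ k ∈ Kx W a ⊓ X, cj k E1 = cj g E1 := fun g hg => by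
    haveI : Fact (Nat.Prime 2) := ⟨Nat.prime_two⟩
    obtain ⟨d, hd, hdg⟩ := hE1.conj (hE1.of_card (isPGroup_cj hE1.2.1 g) (by
      rintro _ ⟨e, he, rfl⟩
      exact (mem_normalizer_iff.1 (hYn hg) e).1 (hE1.1 he)) (le_of_eq (card_cj _ _).symm))
    obtain ⟨s, hs, hsd⟩ := hE1cov d hd
    refine ⟨d * s⁻¹, mem_inf.2 ⟨?_, mul_mem (mem_inf.1 hd).1 (inv_mem (mem_inf.1 (hE1.1 hs)).1)⟩, ?_⟩
    · rw [show d * s⁻¹ = s * (s⁻¹ * d) * s⁻¹ by group]
      exact h.Kx_normal (mem_stabilizer_iff.1 (h.Ex_le a (mem_inf.1 (hE1.1 hs)).2)) hsd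
    · rw [← cj_cj, cj_eq_self (inv_mem (le_normalizer hs)), hdg]
  obtain ⟨k, hk, hkQ⟩ := exists_normalized_conj hF.par.prime (Q := Q) (K := Kx W a ⊓ X) (R := P1 ⊔ E1)
    (L := P1) (hT.2.1.to_le (zpowers_le.2 hc'T))
    (fun g hg => mem_normalizer_of_le fun e he => mem_inf.2
      ⟨h.Kx_normal (mem_inf.1 (hQ g hg)).2 (mem_inf.1 he).1,
        mul_mem (mul_mem (mem_inf.1 (hQ g hg)).1 (mem_inf.1 he).2) (inv_mem (mem_inf.1 (hQ g hg)).1)⟩)
    (fun g hg => by
      obtain ⟨k, hk, hkg⟩ := hcjE g (hQ g hg)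
      refine ⟨k, hk, ?_⟩
      show (P1 ⊔ E1).map _ = (P1 ⊔ E1).map _
      rw [Subgroup.map_sup, Subgroup.map_sup]
      exact congrArg₂ (· ⊔ ·) ((cj_eq_self (mem_inf.1 hk).2).trans (cj_eq_self (mem_inf.1 (hQ g hg)).1).symm)
        hkg)
    ((le_sup_left : P1 ≤ P1 ⊔ E1).trans le_normalizer) (by
      have hP := hF.syl_Kx hab hT
      intro hd
      have h1 : p ^ ((Nat.card ↥(Kx W a)).factorization p + 1) ∣ Nat.card ↥(Kx W a) := by
        have hle : P1 ≤ Kx W a ⊓ X := le_inf inf_le_right le_normalizer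
        refine dvd_trans ?_ (card_dvd_of_le (inf_le_left : Kx W a ⊓ X ≤ Kx W a))
        rw [pow_succ, ← hP.card_eq, ← card_mul_index (P1.subgroupOf (Kx W a ⊓ X)),
          Nat.card_congr (subgroupOfEquivOfLe hle).toEquiv]
        exact mul_dvd_mul_left _ hd
      exact Nat.pow_succ_factorization_not_dvd Nat.card_pos.ne' hF.par.prime h1)
  have hkX : k ∈ X := (mem_inf.1 hk).2
  have hka : k ∈ stabilizer G a := h.Kx_le a (mem_inf.1 hk).1
  set E0 := cj k E1
  have hE0 : IsSyl 2 E0 Y := hE1.of_card (isPGroup_cj hE1.2.1 k) (by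
    rintro _ ⟨e, he, rfl⟩
    exact (mem_normalizer_iff.1 (hYn (mem_inf.2 ⟨hkX, hka⟩)) e).1 (hE1.1 he)) (le_of_eq (card_cj _ _).symm)
  have hE0el : Cfsg.IsElementaryAbelian 2 E0 := by
    refine ⟨⟨⟨?_⟩⟩, ?_⟩
    · rintro ⟨_, x, hx, rfl⟩ ⟨_, y, hy, rfl⟩
      refine Subtype.ext ?_
      exact ((show Commute x y from congrArg Subtype.val
        (hE1el.1.is_comm.comm (⟨x, hx⟩ : ↥E1) ⟨y, hy⟩)).map (MulAut.conj k).toMonoidHom).eq
    · rintro _ ⟨x, hx, rfl⟩
      rw [← map_pow, hE1el.2 x hx, map_one]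
  have hE0card : Nat.card ↥E0 = 2 ^ n := (card_cj _ _).trans hE1card
  have hc'J : c' ∈ normalizer ((P1 ⊔ E0 : Subgroup G) : Set G) := by
    have h1 := hkQ (mem_zpowers c')
    rwa [show cj k (P1 ⊔ E1) = P1 ⊔ E0 from (Subgroup.map_sup _ _ _).trans
      (congrArg (· ⊔ E0) (cj_eq_self hkX))] at h1
  have hE0n : E0 ≤ X := hE0.1.trans inf_le_left
  have hE0a : E0 ≤ stabilizer G a := hE0.1.trans (inf_le_right.trans (h.Ex_le a))
  -- a Frattini argument in `P1 ⊔ E0`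
  obtain ⟨g, hgT, hgE, hgc⟩ : ∃ g ∈ T, g ∈ normalizer (E0 : Set G) ∧ g * c'⁻¹ ∈ P1 := by
    haveI : Fact (Nat.Prime 2) := ⟨Nat.prime_two⟩
    have hJY : P1 ⊔ E0 ≤ Y := sup_le (le_inf le_normalizer (inf_le_right.trans (h.Kx_le_Ex a))) hE0.1
    have hJ : IsSyl 2 E0 (P1 ⊔ E0) := ⟨le_sup_right, hE0.2.1,
      fun R hle hR hR2 => hE0.2.2 R hle (hR.trans hJY) hR2⟩
    obtain ⟨d, hd, hdc⟩ := hJ.conj (hJ.of_card (isPGroup_cj hE0.2.1 c') (by
      rintro _ ⟨e, he, rfl⟩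
      exact (mem_normalizer_iff.1 hc'J e).1 (mem_sup_right he)) (le_of_eq (card_cj _ _).symm))
    obtain ⟨x, hx, e, he, rfl⟩ := (Coprime.mem_sup_of_le_normalizer hE0n).1 hd
    refine ⟨x⁻¹ * c', mul_mem (inv_mem (mem_inf.1 hx).1) hc'T, mem_normalizer_of_cj ?_, ?_⟩
    · rw [← cj_cj, ← hdc, cj_cj, inv_mul_cancel_left, cj_eq_self (le_normalizer he)]
    · rw [mul_inv_cancel_right]; exact inv_mem hx
  have hP1U : ∀ r ∈ P1, r ∈ Ux W a := fun r hr => h.Kx_le_Ux a (mem_inf.1 hr).2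
  have hgU : g ∉ Ux W a := fun e => hiU (by
    have := mul_mem (inv_mem (hP1U _ hgc)) e
    rwa [mul_inv_rev, inv_inv, inv_mul_cancel_right] at this)
  have hgp : g ^ p ∈ P1 := by
    have h1 : ∀ i : ℕ, g ^ i * (c' ^ i)⁻¹ ∈ P1 := by
      intro i
      induction i with
      | zero => simp
      | succ i ih =>
        rw [show g ^ (i + 1) * (c' ^ (i + 1))⁻¹ = g * (g ^ i * (c' ^ i)⁻¹) * g⁻¹ * (g * c'⁻¹) by
          rw [pow_succ', pow_succ']; group]
        exact mul_mem ((mem_normalizer_iff.1 (hTP hgT) _).1 ih) hgc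
    have := mul_mem (h1 p) hm
    rwa [inv_mul_cancel_right] at this
  by_cases hcent : P1 ≤ centralizer (E0 : Set G)
  · -- the swapper centralizes `P1`
    refine ⟨c', hc'T, ?_, hiU⟩
    have huX : u ∈ X := mem_normalizer_of_le fun r hr => by
      have h1 := h.conj_mem_Kx (g := u) (mem_inf.1 hr).2
      rw [hua] at h1
      rw [hP1b]
      exact mem_inf.2 ⟨(mem_normalizer_iff.1 huN r).1 (mem_inf.1 hr).1, h1⟩
    obtain ⟨s, hsE, hs⟩ : ∃ s ∈ E0, orderOf s = 2 := by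
      obtain ⟨s, hs, -, -, hs2, -⟩ := exists_pair_of_four hE0el (by
        rw [hE0card]
        exact le_trans (by norm_num) (Nat.pow_le_pow_right two_pos hF.par.three_le))
      exact ⟨s, hs, hs2⟩
    obtain ⟨g0, hg0, hgu⟩ := h.isConj_in ⟨u, huX, by rw [hua]; exact hab.symm⟩ (hE0n hsE) hs
      (hE0a hsE) huX hu
    have h1 : g0⁻¹ * m * g0 ∈ P1 := by simpa using (mem_normalizer_iff.1 (inv_mem hg0) m).1 hm
    have h2 : Commute s (g0⁻¹ * m * g0) := mem_centralizer_iff.1 (hcent h1) s hsE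
    have h3 := h2.map (MulAut.conj g0).toMonoidHom
    simp only [MulEquiv.coe_toMonoidHom, MulAut.conj_apply] at h3
    rw [hgu, show g0 * (g0⁻¹ * m * g0) * g0⁻¹ = m by group] at h3
    rw [h3.eq, mul_inv_cancel_right] at hmu
    exact eq_one_of_eq_inv hmu (SECore.odd_orderOf_of_mem (hF.par.odd_card hP1p) hm)
  · refine ⟨g, hgT, hF.cent_eq_one hab hT IH hW hA hE0a hE0el hE0card hE0n hcent hgp ?_, hgU⟩
    exact fun e he => h.commute_of_normalizer hE0.2.1 hE0a (mem_inf.1 hgp).2 (pow_mem hgE p) he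

/-- Without absorption `T ⊓ Ux W a` is trivial. -/
theorem Facts.inf_Ux_not_absorb (hW : W ≠ ⊥) (hA : ¬ Absorb p a) : T ⊓ Ux W a = ⊥ := by
  classical
  by_contra hR1
  have h := hF.par.hyp
  haveI := hF.fact
  have hTa : T ≤ stabilizer G a := hT.1.trans inf_le_left
  obtain ⟨y, hyT, hyp, hyU⟩ := hF.exists_order_p hab hT IH hW hA
  obtain ⟨z, hz, hzp, hz1, hzc⟩ := hF.exists_central hab hT hR1
  have hyz : y ∉ zpowers z := fun e => hyU (mem_inf.1 (zpowers_le.2 hz e)).2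
  have hza : z • a = a := hTa (mem_inf.1 hz).1
  -- `z` centralizes the normal subgroups of prime power order
  have hzV : ∀ {l : ℕ} {V : Subgroup G}, NormalSub W l a V → V ≤ centralizer ({z} : Set G) := by
    intro l V hV
    by_cases hlp : l = p
    · subst hlp; rw [hF.eq_bot_of_p IH hab hV]; exact bot_le
    refine le_centralizer_of_pair hF.par.prime hV.prime hlp hV.isPGroup hyp hyz hzp hz1
      (hzc y hyT).symm (hV.normal (hTa hyT)) (hV.normal hza) fun r hr hr1 v hv hrv => ?_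
    have hrT : r ∈ T := sup_le (zpowers_le.2 hyT) (zpowers_le.2 (mem_inf.1 hz).1) hr
    by_cases hrU : r ∈ Ux W a
    · obtain ⟨_, ⟨i, rfl⟩, _, ⟨j, rfl⟩, rfl⟩ := (Coprime.mem_sup_of_le_normalizer (zpowers_le.2
        (SETwoClosed.centralizer_le_normalizer _ (mem_centralizer_iff.2 fun r hr => by
          obtain ⟨i, rfl⟩ := mem_zpowers_iff.1 hr
          exact ((hzc y hyT).symm.zpow_left i).eq)) : zpowers z ≤ normalizer (zpowers y : Set G))).1 hr
      have h1 : y ^ i = 1 := hF.zpowers_inf_Ux hab hT hyp hyU (by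
        have := mul_mem hrU (inv_mem (zpow_mem (mem_inf.1 hz).2 j))
        rwa [mul_inv_cancel_right] at this)
      simp only [h1, one_mul] at hr1 hrv
      have h2 : zpowers (z ^ j) = zpowers z := eq_of_le_of_card_ge (zpowers_le.2 (zpow_mem (mem_zpowers z) j))
        (by rw [Nat.card_zpowers, Nat.card_zpowers, orderOf_eq_prime hzp hz1, orderOf_eq_prime (by
          rw [← zpow_natCast, ← zpow_mul, mul_comm, zpow_mul, zpow_natCast, hzp, one_zpow]) hr1])
      obtain ⟨k, hk⟩ := mem_zpowers_iff.1 (h2.ge (mem_zpowers z))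
      exact hk ▸ hrv.zpow_left k
    · rw [hF.fpf_elt IH hab hV (mem_stabilizer_iff.1 (hTa hrT)) (exists_pow_eq_one_of_mem hT.2.1 hrT) hrU
        hv hrv]
      exact Commute.one_right z
  -- the elements of the stabilizer centralizing them
  set K := Kx W a
  set Cv := stabilizer G a ⊓ ⨅ l : {l : ℕ // l.Prime},
    centralizer (((Cfsg.pCore l.1 ↥K).map K.subtype : Subgroup G) : Set G)
  have hCvn : stabilizer G a ≤ normalizer (Cv : Set G) := fun g hg => mem_normalizer_of_le fun e he => by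
    obtain ⟨hea, hec⟩ := mem_inf.1 he
    refine mem_inf.2 ⟨mul_mem (mul_mem hg hea) (inv_mem hg), mem_iInf.2 fun l => mem_centralizer_iff.2
      fun v hv => ?_⟩
    have h1 : g⁻¹ * v * g ∈ (Cfsg.pCore l.1 ↥K).map K.subtype := by
      simpa using (mem_normalizer_iff.1 ((h.normalSub_pCore l.2 a).normal (inv_mem hg)) v).1 hv
    have h2 := mem_centralizer_iff.1 (mem_iInf.1 hec l) _ h1
    calc v * (g * e * g⁻¹) = g * ((g⁻¹ * v * g) * e) * g⁻¹ := by group
      _ = g * (e * (g⁻¹ * v * g)) * g⁻¹ := by rw [h2]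
      _ = g * e * g⁻¹ * v := by group
  have hzCv : z ∈ Cv := mem_inf.2 ⟨hza, mem_iInf.2 fun l => mem_centralizer_iff.2 fun v hv =>
    (mem_centralizer_singleton_iff.1 (hzV (h.normalSub_pCore l.2 a) hv)).symm.symm⟩
  by_cases hodd : Odd (Nat.card ↥Cv)
  · -- then `z` lies in the Fitting subgroup of the kernel
    have hzK : z ∈ K := h.oddNormal_le inf_le_left hodd hCvn hzCv
    haveI : Group.IsSolvable ↥K := Cfsg.Agent.S0205.result (h.odd_Kx a)
    set z' : ↥K := ⟨z, hzK⟩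
    have hzF : z' ∈ Cfsg.fittingSubgroup ↥K := by
      refine Cores.centralizer_fittingSubgroup_le (mem_centralizer_iff.2 fun f hf => ?_)
      have : Cfsg.fittingSubgroup ↥K ≤ centralizer ({z'} : Set ↥K) := by
        rw [Cores.fittingSubgroup_eq_iSup]
        refine iSup_le fun l f hf => mem_centralizer_singleton_iff.2 (Subtype.ext ?_)
        have hl := Nat.prime_of_mem_primeFactors l.2
        exact mem_centralizer_iff.1 (mem_iInf.1 (mem_inf.1 hzCv).2 ⟨_, hl⟩) _ ⟨f, hf, rfl⟩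
      exact mem_centralizer_singleton_iff.1 (this hf)
    have hzp' : IsPGroup p ↥(zpowers (⟨z', hzF⟩ : ↥(Cfsg.fittingSubgroup ↥K))) :=
      isPGroup_zpowers_of_pow ⟨1, Subtype.ext (Subtype.ext (by rw [pow_one]; exact hzp))⟩
    obtain ⟨P, hP⟩ := hzp'.exists_le_sylow
    have h1 := mem_map_of_mem (Cfsg.fittingSubgroup ↥K).subtype (hP (mem_zpowers _))
    rw [Cores.sylow_fitting_map P] at h1
    have h2 : z ∈ (Cfsg.pCore p ↥K).map K.subtype := ⟨z', h1, rfl⟩
    rw [hF.eq_bot_of_p IH hab (h.normalSub_pCore hF.par.prime a), mem_bot] at h2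
    exact hz1 h2
  -- so the involutions centralize the kernel
  rw [Nat.not_odd_iff_even] at hodd
  obtain ⟨t, ht, ht2⟩ := StronglyEmbedded.exists_involution_mem hodd
  have hinv : ∀ s : G, orderOf s = 2 → s • a = a → ∀ k ∈ K, Commute s k := by
    intro s hs hsa k hk
    obtain ⟨d, hd, hds⟩ := h.exists_conj_D hab ht2 (mem_stabilizer_iff.1 (mem_inf.1 ht).1) hs hsa
    have hsC : s ∈ Cv := hds ▸ (mem_normalizer_iff.1 (hCvn (mem_inf.1 hd).1) t).1 ht
    refine (mem_centralizer_iff.1 (le_centralizer_of_pCores (B := zpowers s) ?_ ?_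
      (Cfsg.Agent.S0205.result (h.odd_Kx a)) (fun l hl => zpowers_le.2 (mem_iInf.1 (mem_inf.1 hsC).2 ⟨l, hl⟩))
      (mem_zpowers s)) k hk).symm
    · exact zpowers_le.2 (h.stab_le_normalizer_Kx a (mem_stabilizer_iff.2 hsa))
    · rw [Nat.card_zpowers, hs]
      exact Nat.coprime_two_left.2 (h.odd_Kx a)
  -- hence they form a group
  set X := normalizer ((T ⊓ Kx W a : Subgroup G) : Set G)
  have hfull : Covers W X a := fun t ht hta => h.cover_full (fun g hg => by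
    obtain ⟨k, hk, r, hr, hkr⟩ := hF.frattini hab hT hg
    exact ⟨k, hk, r, (mem_inf.1 hr).2, hkr⟩) ht hta
  obtain ⟨E0, hE0, hE0el, hE0card, hE0cov⟩ := h.exists_reps hF.par hfull
  have hE0a : E0 ≤ stabilizer G a := hE0.1.trans (inf_le_right.trans (h.Ex_le a))
  have hmemE : ∀ s : G, orderOf s = 2 → s • a = a → s ∈ E0 := by
    intro s hs hsa
    obtain ⟨x, hxX, hx, hxa, hxs⟩ := hfull s hs hsa
    obtain ⟨e, he, hex⟩ := hE0cov x (mem_inf.2 ⟨hxX, h.mem_Ex_of_inv hx hxa⟩)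
    have hes : e⁻¹ * s ∈ K := by
      rw [show e⁻¹ * s = (e⁻¹ * x) * (x⁻¹ * s) by group]
      exact mul_mem hex hxs
    set k := e⁻¹ * s
    have hsek : s = e * k := (mul_inv_cancel_left e s).symm
    have hee : e * e = 1 := by rw [← pow_two]; exact hE0el.2 e he
    have hec : Commute e k := by
      refine hinv e (Basic.orderOf_two_iff.2 ⟨hee, fun e1 => h.inv_notMem_Kx hs (x := a) ?_⟩)
        (hE0a he) k hes
      rw [hsek, e1, one_mul]; exact hes
    have hkk : k * k = 1 := by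
      have := Basic.inv_sq_one hs
      rwa [hsek, ← pow_two, hec.mul_pow, pow_two, hee, one_mul, pow_two] at this
    rw [hsek, TwoEl.eq_one_of_odd (SETwoClosed.twoEl_of_sq hkk) (h.odd_orderOf hes), mul_one]
    exact he
  refine hA ⟨E0, hE0a, fun g hg => mem_normalizer_of_le fun e he => ?_, ?_, hmemE⟩
  · by_cases he1 : e = 1
    · rw [he1, mul_one, mul_inv_cancel]; exact one_mem _
    have hee : e * e = 1 := by rw [← pow_two]; exact hE0el.2 e he
    have h1 := conj_smul_fix (g := g) (mem_stabilizer_iff.1 (hE0a he))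
    rw [mem_stabilizer_iff.1 hg] at h1
    exact hmemE _ (by rw [Basic.orderOf_conj, Basic.orderOf_two_iff]; exact ⟨hee, he1⟩) h1
  · rw [hE0card]
    exact fun hd => hF.par.p_ne_two ((Nat.prime_dvd_prime_iff_eq hF.par.prime Nat.prime_two).1
      (hF.par.prime.dvd_of_dvd_pow hd))

/-- `T ⊓ Ux W a` is trivial. -/
theorem Facts.inf_Ux_eq_bot (hW : W ≠ ⊥) : T ⊓ Ux W a = ⊥ := by
  by_cases hA : Absorb p a
  · exact hF.inf_Ux_absorb hab hT IH hW hA
  · exact hF.inf_Ux_not_absorb hab hT IH hW hA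

end Cfsg.Agent.SECoreTwoClosed
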