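import Cfsg.Agent.Lib.SECoreTwoClosed.Core.Semireg

/-!
# The core lemma: a moving slice with two classes covers eight

With eight classes a proper subgroup that moves a point and contains two commuting involutions at it contains
all seven nontrivial classes: an element of the slice centralizing the torus cannot move a class of the plane, and
an element inverted by a swapper centralizes the torus.
-/

set_option autoImplicit false
set_option linter.style.haveILetI false
set_option linter.unusedSectionVars false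

namespace Cfsg.Agent.SECoreTwoClosed

open Subgroup MulAction
open Cfsg.Agent.Involutions
open Cfsg.Agent.SETwoClosed (cj mem_cj conj_mem_cj IsSyl exists_isSyl_ge exists_invariant_isSyl)

universe u

theorem exists_eq_zpow_mul {M : Type*} [Group M] [Finite M] {a b : M} (ha : Odd (orderOf a))
    (h : Commute (a * a) b) : Commute a b := by
  obtain ⟨m, hm⟩ := ha
  have h1 : a = ((a * a) ^ (m + 1)) := by
    rw [← pow_two, ← pow_mul, show 2 * (m + 1) = orderOf a + 1 by omega, pow_succ, pow_orderOf_eq_one, one_mul]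
  rw [h1]
  exact h.pow_left _

variable {G : Type u} [Group G] [Finite G] {H W : Subgroup G}

/-- The hypotheses at the point: an element of the torus and the quotient facts. -/
theorem Facts.torus {p : ℕ} (hF : Facts H W 3 p) {a c : G ⧸ H} (hac : a ≠ c) {T : Subgroup G}
    (hT : IsSyl p T (Dp a c)) [((Ux W a).subgroupOf (stabilizer G a)).Normal] :
    p = 7 ∧ ∃ r : ↥(stabilizer G a), (r : G) ∈ T ∧ (r : G) ∉ Ux W a ∧
      (∀ i : ℤ, (r : G) ^ i ∈ Ux W a → (p : ℤ) ∣ i) ∧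
      ∀ g : ↥(stabilizer G a), (∃ k : ℕ, (g : G) ^ p ^ k ∈ Ux W a) →
        QuotientGroup.mk' ((Ux W a).subgroupOf (stabilizer G a)) g ∈
          zpowers (QuotientGroup.mk' ((Ux W a).subgroupOf (stabilizer G a)) r) := by
  haveI := hF.par.fact
  have hp : p = 7 := (Nat.prime_dvd_prime_iff_eq hF.par.prime (by norm_num)).1 (by simpa using hF.par.dvd)
  refine ⟨hp, ?_⟩
  set S := stabilizer G a
  set π := QuotientGroup.mk' ((Ux W a).subgroupOf S)
  have hker : ∀ g : ↥S, π g = 1 ↔ (g : G) ∈ Ux W a := fun g => QuotientGroup.eq_one_iff g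
  have hTa : T ≤ S := hT.1.trans inf_le_left
  have hpart : pPart 3 p = p := by
    rw [pPart, show (2 : ℕ) ^ 3 - 1 = 7 from rfl, hp, Nat.Prime.factorization_self (by norm_num), pow_one]
  have hcard : Nat.card ↥((T.subgroupOf S).map π) = p := by
    rw [← relIndex_ker, QuotientGroup.ker_mk', relIndex_subgroupOf hTa, hF.par.index_sylow a c hac T hT, hpart]
  obtain ⟨r0, hr0, hr0U⟩ := SetLike.not_le_iff_exists.1 (hF.par.not_le_Ux hac hT)
  set r : ↥S := ⟨r0, hTa hr0⟩
  have hrne : π r ≠ 1 := fun e => hr0U ((hker r).1 e)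
  have hrmem : π r ∈ (T.subgroupOf S).map π := mem_map_of_mem π (show r ∈ T.subgroupOf S from hr0)
  have hord : orderOf (π r) = p := by
    have h1 : orderOf (π r) ∣ p := hcard ▸ Subgroup.orderOf_dvd_natCard _ hrmem
    exact (hF.par.prime.eq_one_or_self_of_dvd _ h1).resolve_left fun e => hrne (orderOf_eq_one_iff.1 e)
  have hz : zpowers (π r) = (T.subgroupOf S).map π :=
    eq_of_le_of_card_ge (zpowers_le.2 hrmem) (by rw [Nat.card_zpowers, hord, hcard])
  refine ⟨r, hr0, hr0U, fun i hi => ?_, fun g hg => ?_⟩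
  · rw [← hord]
    refine orderOf_dvd_iff_zpow_eq_one.2 ?_
    rw [← map_zpow, hker, SubgroupClass.coe_zpow]
    exact hi
  · obtain ⟨r', hr', hr'g⟩ := hF.par.cover a c hac T hT g (mem_stabilizer_iff.1 g.2) hg
    rw [hz]
    refine ⟨⟨r', hTa hr'⟩, hr', ?_⟩
    exact QuotientGroup.eq.2 (by rw [mem_subgroupOf]; exact hr'g)

set_option maxHeartbeats 1600000 in
/-- With eight classes, two commuting involutions at a point in a subgroup moving it give eight classes in it. -/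
theorem Facts.eight_of_moving {n p : ℕ} (hF : Facts H W n p) (hn : n = 3) {a : G ⧸ H} {X : Subgroup G}
    (hmov : ∃ g ∈ X, g • a ≠ a) {x y : G} (hxX : x ∈ X) (hyX : y ∈ X) (hx : orderOf x = 2)
    (hy : orderOf y = 2) (hxa : x • a = a) (hya : y • a = a) (hne : x * y ∉ Kx W a) :
    8 ≤ (Kx W a).relIndex (X ⊓ Ex W a) := by
  classical
  subst hn
  have h := hF.par.hyp
  haveI := hF.par.fact
  by_contra hsmall
  set S := stabilizer G a
  haveI hKn : ((Kx W a).subgroupOf S).Normal := ⟨fun e he g => h.Kx_normal (mem_stabilizer_iff.1 g.2) he⟩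
  haveI hUn : ((Ux W a).subgroupOf S).Normal := ⟨fun e he g => h.Ux_normal (mem_stabilizer_iff.1 g.2) he⟩
  set q := QuotientGroup.mk' ((Kx W a).subgroupOf S)
  set π := QuotientGroup.mk' ((Ux W a).subgroupOf S)
  have hqker : ∀ g : ↥S, q g = 1 ↔ (g : G) ∈ Kx W a := fun g => QuotientGroup.eq_one_iff g
  have hπker : ∀ g : ↥S, π g = 1 ↔ (g : G) ∈ Ux W a := fun g => QuotientGroup.eq_one_iff g
  -- the classes
  set Eb := ((Ex W a).subgroupOf S).map q with hEb
  set Pb := ((X ⊓ Ex W a).subgroupOf S).map q with hPb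
  have hEcard : Nat.card ↥Eb = 8 := by
    rw [hEb, ← relIndex_ker, QuotientGroup.ker_mk', relIndex_subgroupOf (h.Ex_le a), hF.par.card_E a]
    rfl
  have hEU : ∀ g : ↥S, (g : G) ∈ Ux W a → ∀ ε ∈ Eb, q g * ε * (q g)⁻¹ = ε := by
    rintro g hg _ ⟨e, he, rfl⟩
    refine mul_inv_eq_one.1 ?_
    rw [← map_inv, ← map_inv, ← map_mul, ← map_mul, ← map_mul, hqker]
    exact (h.mem_Ux.1 hg).2 e he
  set xs : ↥S := ⟨x, hxa⟩
  set ys : ↥S := ⟨y, hya⟩
  have hxne : q xs ≠ 1 := fun e => h.inv_notMem_Kx hx ((hqker xs).1 e)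
  have hyne : q ys ≠ 1 := fun e => h.inv_notMem_Kx hy ((hqker ys).1 e)
  have hqxy : q xs ≠ q ys := fun e => hne (by
    have h1 := QuotientGroup.eq.1 e
    rw [mem_subgroupOf] at h1
    have h2 : x⁻¹ * y ∈ Kx W a := h1
    rwa [Basic.inv_eq hx] at h2)
  have hxP : q xs ∈ Pb := mem_map_of_mem q
    (show xs ∈ (X ⊓ Ex W a).subgroupOf S from mem_inf.2 ⟨hxX, h.mem_Ex_of_inv hx hxa⟩)
  have hyP : q ys ∈ Pb := mem_map_of_mem q
    (show ys ∈ (X ⊓ Ex W a).subgroupOf S from mem_inf.2 ⟨hyX, h.mem_Ex_of_inv hy hya⟩)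
  have hPE : Pb ≤ Eb := map_mono fun e he => (mem_inf.1 he).2
  have hPcard : Nat.card ↥Pb ≤ 4 := by
    have h1 : Nat.card ↥Pb = (Kx W a).relIndex (X ⊓ Ex W a) := by
      rw [hPb, ← relIndex_ker, QuotientGroup.ker_mk',
        relIndex_subgroupOf ((inf_le_right : X ⊓ Ex W a ≤ _).trans (h.Ex_le a))]
    by_contra h4
    exact hsmall (h.eight_of_five (by omega))
  -- a swapper inside `X`
  set K := stabilizer ↥X a
  have hK : ∀ g : ↥X, g ∈ K ↔ (g : G) • a = a := fun g => Iff.rfl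
  have hse : Cfsg.IsStronglyEmbedded K := by
    refine StronglyEmbedded.of_conj (fun e => ?_) ?_ fun t ht ht2 g hg => ?_
    · obtain ⟨g, hg, hga⟩ := hmov
      exact hga ((hK ⟨g, hg⟩).1 (e ▸ mem_top _))
    · rw [even_iff_two_dvd]
      have h1 := orderOf_dvd_natCard (⟨⟨x, hxX⟩, (hK ⟨x, hxX⟩).2 hxa⟩ : ↥K)
      rwa [Subgroup.orderOf_mk, Subgroup.orderOf_mk, hx] at h1
    · have e1 : ((g : G) * t * (g : G)⁻¹) • ((g : G) • a) = (g : G) • a := conj_smul_fix ((hK t).1 ht)
      exact (hK g).2 (h.eq_of_fixed (by rw [Basic.orderOf_conj, Subgroup.orderOf_coe]; exact ht2) e1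
        ((hK _).1 hg))
  obtain ⟨u', hu'K, hu'⟩ := StronglyEmbedded.exists_involution_notMem hse
  set u : G := (u' : G)
  have hu : orderOf u = 2 := by rw [Subgroup.orderOf_coe, hu']
  set c := u • a
  have hac : a ≠ c := fun e => hu'K ((hK u').2 e.symm)
  have huc : u • c = a := by rw [smul_smul, Basic.inv_sq_one hu, one_smul]
  have hx' : orderOf (⟨x, hxX⟩ : ↥X) = 2 := by rw [Subgroup.orderOf_mk, hx]
  obtain ⟨d', ⟨hd'K, hd'2⟩, hd'xy⟩ := StronglyEmbedded.exists_conj_in_inter hse hu' hu'K hx'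
    ((hK _).2 hxa) (show orderOf (⟨y, hyX⟩ : ↥X) = 2 by rw [Subgroup.orderOf_mk, hy]) ((hK _).2 hya)
  set d : G := (d' : G)
  have hdX : d ∈ X := d'.2
  have hdxy : d * x * d⁻¹ = y := congrArg Subtype.val hd'xy
  have hdD : d ∈ Dp a c := by
    refine mem_inf.2 ⟨(hK d').1 hd'K, ?_⟩
    obtain ⟨k, hk, hkd⟩ := hd'2
    have h2 : d = u * (k : G) * u⁻¹ := (congrArg Subtype.val hkd).symm
    rw [h2]
    exact stab_conj (g := u) (x := a) ((hK k).1 hk)
  -- a Sylow subgroup normalized by the swapper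
  obtain ⟨T, -, hT, huT⟩ := exists_invariant_isSyl (p := p) (h.odd_D hac) (Basic.inv_sq_one hu)
    (cj_Dp hu rfl huc) IsPGroup.of_bot bot_le (map_bot _)
  obtain ⟨hp7, r, hrT, hrU, hrdvd, hgen⟩ := hF.torus hac hT
  -- the torus is transitive on the classes
  have hfix : ∀ (g : ↥S), π g ∈ zpowers (π r) → ∀ ε ∈ Eb, ε ≠ 1 → q g * ε * (q g)⁻¹ = ε →
      (g : G) ∈ Ux W a := by
    intro g hg ε hε hε1 hgε
    obtain ⟨e, he, rfl⟩ := hε
    by_contra hgU
    refine hε1 ((hqker e).2 (hF.par.fpf a g (mem_stabilizer_iff.1 g.2) ?_ hgU e he ?_))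
    · obtain ⟨i, hi⟩ := mem_zpowers_iff.1 hg
      obtain ⟨k, hk⟩ := hT.2.1 ⟨r, hrT⟩
      refine ⟨k, ?_⟩
      rw [← Subgroup.coe_pow, ← hπker, map_pow, ← hi, ← zpow_natCast, ← zpow_mul, mul_comm, zpow_mul,
        zpow_natCast, ← map_pow, show r ^ p ^ k = 1 from Subtype.ext (by
          rw [Subgroup.coe_pow, OneMemClass.coe_one]; exact congrArg Subtype.val hk), map_one, one_zpow]
    · refine (hqker (g * e * g⁻¹ * e⁻¹)).1 ?_
      rw [map_mul, map_mul, map_mul, map_inv, map_inv, hgε, mul_inv_cancel]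
  have hEn : ∀ (g : ↥S), ∀ ε ∈ Eb, q g * ε * (q g)⁻¹ ∈ Eb := by
    rintro g _ ⟨e, he, rfl⟩
    exact ⟨g * e * g⁻¹, h.Ex_normal (mem_stabilizer_iff.1 g.2) he, by rw [map_mul, map_mul, map_inv]⟩
  have htrans : ∀ ε ∈ Eb, ε ≠ 1 → ∀ δ ∈ Eb, δ ≠ 1 → ∃ i : ℤ, q (r ^ i) * ε * (q (r ^ i))⁻¹ = δ := by
    intro ε hε hε1 δ hδ hδ1
    let f : Fin 7 → {z : ↥Eb // z ≠ 1} := fun i =>
      ⟨⟨q (r ^ (i : ℤ)) * ε * (q (r ^ (i : ℤ)))⁻¹, hEn _ ε hε⟩, fun e => hε1 (by
        have h1 := congrArg Subtype.val e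
        simpa using h1)⟩
    have hinj : Function.Injective f := fun i j hij => by
      have h1 : q (r ^ (i : ℤ)) * ε * (q (r ^ (i : ℤ)))⁻¹ = q (r ^ (j : ℤ)) * ε * (q (r ^ (j : ℤ)))⁻¹ :=
        congrArg (fun z : {z : ↥Eb // z ≠ 1} => (z.1 : ↥S ⧸ (Kx W a).subgroupOf S)) hij
      have h2 : q (r ^ ((i : ℤ) - j)) * ε * (q (r ^ ((i : ℤ) - j)))⁻¹ = ε := by
        rw [map_zpow] at h1 ⊢
        rw [map_zpow] at h1
        rw [show (q r) ^ ((i : ℤ) - j) * ε * ((q r) ^ ((i : ℤ) - j))⁻¹ =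
          ((q r) ^ (j : ℤ))⁻¹ * ((q r) ^ (i : ℤ) * ε * ((q r) ^ (i : ℤ))⁻¹) * (q r) ^ (j : ℤ) by group, h1]
        group
      have h3 := hfix (r ^ ((i : ℤ) - j)) (by rw [map_zpow]; exact zpow_mem (mem_zpowers _) _) ε hε hε1 h2
      rw [SubgroupClass.coe_zpow] at h3
      have h4 := hrdvd _ h3
      rw [hp7] at h4
      have := i.isLt
      have := j.isLt
      exact Fin.ext (by omega)
    have hcard7 : Nat.card {z : ↥Eb // z ≠ 1} = 7 := by
      have h1 : ({(1 : ↥Eb)}ᶜ : Set ↥Eb).ncard = Nat.card ↥Eb - 1 := by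
        rw [Set.ncard_compl, Set.ncard_singleton]
      rw [← Nat.card_coe_set_eq, hEcard] at h1
      exact h1
    obtain ⟨i, hi⟩ := ((Nat.bijective_iff_injective_and_card f).2 ⟨hinj, by rw [Nat.card_fin, hcard7]⟩).2
      ⟨⟨δ, hδ⟩, fun e => hδ1 (congrArg Subtype.val e)⟩
    exact ⟨i, congrArg (fun z : {z : ↥Eb // z ≠ 1} => (z.1 : ↥S ⧸ (Kx W a).subgroupOf S)) hi⟩
  have hxE := hPE hxP
  have hyE := hPE hyP
  -- an element commuting with the torus that fixes a class
  have hB : ∀ g : ↥S, Commute (π g) (π r) → ∀ ε ∈ Eb, ε ≠ 1 → q g * ε * (q g)⁻¹ = ε →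
      (g : G) ∈ Ux W a := by
    intro g hg ε hε hε1 hgε
    refine h.mem_Ux_of_cent (mem_stabilizer_iff.1 g.2) fun t ht hta => ?_
    have hδ : q ⟨t, hta⟩ ∈ Eb :=
      mem_map_of_mem q (show (⟨t, hta⟩ : ↥S) ∈ (Ex W a).subgroupOf S from h.mem_Ex_of_inv ht hta)
    obtain ⟨i, hi⟩ := htrans ε hε hε1 _ hδ fun e => h.inv_notMem_Kx ht ((hqker _).1 e)
    set v : ↥S := g * r ^ i * g⁻¹ * (r ^ i)⁻¹
    have hv : (v : G) ∈ Ux W a := (hπker v).1 (by
      simp only [v]
      rw [map_mul, map_mul, map_mul, map_inv, map_inv, map_zpow, (hg.zpow_right i).eq]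
      group)
    have h1 : q g * q ⟨t, hta⟩ * (q g)⁻¹ = q ⟨t, hta⟩ := by
      rw [← hi, show q g * (q (r ^ i) * ε * (q (r ^ i))⁻¹) * (q g)⁻¹ =
        q v * (q (r ^ i) * (q g * ε * (q g)⁻¹) * (q (r ^ i))⁻¹) * (q v)⁻¹ by
          simp only [v, map_mul, map_inv]; group, hgε]
      exact hEU v hv _ (hEn _ ε hε)
    exact (hqker (g * ⟨t, hta⟩ * g⁻¹ * ⟨t, hta⟩⁻¹)).1 (by
      rw [map_mul, map_mul, map_mul, map_inv, map_inv, h1, mul_inv_cancel])
  have hcomm : ∀ g : ↥S, Commute (π g) (π r) → (g : G) ∈ h.Cx p a := fun g hg =>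
    ⟨mem_stabilizer_iff.1 g.2, fun w hw hwk => by
      obtain ⟨i, hi⟩ := mem_zpowers_iff.1 (hgen ⟨w, hw⟩ hwk)
      exact (hπker (g * ⟨w, hw⟩ * g⁻¹ * ⟨w, hw⟩⁻¹)).1 (by
        rw [map_mul, map_mul, map_mul, map_inv, map_inv, ← hi, (hg.zpow_right i).eq]
        rw [mul_inv_cancel_right]
        exact mul_inv_cancel _)⟩
  -- the stabilizer in `X` preserves the plane
  have hPn : ∀ g : ↥S, (g : G) ∈ X → ∀ ε ∈ Pb, q g * ε * (q g)⁻¹ ∈ Pb := by
    rintro g hg _ ⟨e, he, rfl⟩
    exact ⟨g * e * g⁻¹, mem_inf.2 ⟨mul_mem (mul_mem hg (mem_inf.1 he).1) (inv_mem hg),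
      h.Ex_normal (mem_stabilizer_iff.1 g.2) (mem_inf.1 he).2⟩, by rw [map_mul, map_mul, map_inv]⟩
  have hPthree : ∀ ε ∈ Pb, ε ≠ 1 → ε = q xs ∨ ε = q ys ∨ ε = q xs * q ys := by
    intro ε hε hε1
    by_contra hcon
    push Not at hcon
    let f : Fin 5 → ↥Pb := ![1, ⟨q xs, hxP⟩, ⟨q ys, hyP⟩, ⟨q xs * q ys, mul_mem hxP hyP⟩, ⟨ε, hε⟩]
    have hxy1 : q xs * q ys ≠ 1 := fun e => hne (by
      rw [← map_mul, hqker] at e; exact e)
    have hinj : Function.Injective f := by
      intro i j hij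
      have h1 := congrArg (Subtype.val) hij
      fin_cases i <;> fin_cases j <;>
        first
        | rfl
        | (simp [f] at h1; first
          | exact absurd h1 hxne | exact absurd h1.symm hxne | exact absurd h1 hyne | exact absurd h1.symm hyne
          | exact absurd h1 hqxy | exact absurd h1.symm hqxy | exact absurd h1 hε1 | exact absurd h1.symm hε1
          | exact absurd h1 hcon.1 | exact absurd h1.symm hcon.1 | exact absurd h1 hcon.2.1
          | exact absurd h1.symm hcon.2.1 | exact absurd h1 hcon.2.2 | exact absurd h1.symm hcon.2.2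
          | exact absurd h1 hxy1 | exact absurd h1.symm hxy1)
    have := Nat.card_le_card_of_injective f hinj
    rw [Nat.card_fin] at this
    omega
  -- an odd element of the slice fixing a class of the plane
  have hD : ∀ g : ↥S, (g : G) ∈ X → Odd (orderOf (g : G)) → q g * q xs * (q g)⁻¹ = q xs →
      (g : G) ∈ Ux W a := by
    intro g hg ho hgx
    have hgy : q g * q ys * (q g)⁻¹ = q ys := by
      have hne1 : q g * q ys * (q g)⁻¹ ≠ 1 := fun e => hyne (by
        rw [show q ys = (q g)⁻¹ * (q g * q ys * (q g)⁻¹) * q g by group, e]; group)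
      rcases hPthree _ (hPn g hg _ hyP) hne1 with e | e | e
      · exact absurd (mul_left_cancel (mul_right_cancel (e.trans hgx.symm))).symm hqxy
      · exact e
      · exfalso
        have hsq : q g * q g * q ys * (q g * q g)⁻¹ = q ys := by
          rw [show q g * q g * q ys * (q g * q g)⁻¹ = q g * (q g * q ys * (q g)⁻¹) * (q g)⁻¹ by group, e,
            show q g * (q xs * q ys) * (q g)⁻¹ = (q g * q xs * (q g)⁻¹) * (q g * q ys * (q g)⁻¹) by group,
            hgx, e, ← mul_assoc, ← map_mul, show xs * xs = 1 from Subtype.ext (Basic.inv_sq_one hx), map_one,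
            one_mul]
        have hoq : Odd (orderOf (q g)) := ho.of_dvd_nat
          ((orderOf_map_dvd q g).trans (dvd_of_eq (Subgroup.orderOf_coe g).symm))
        have hc := exists_eq_zpow_mul hoq (mul_inv_eq_iff_eq_mul.1 hsq : Commute (q g * q g) (q ys))
        rw [hc.eq, mul_inv_cancel_right] at e
        exact hxne (by simpa using e.symm)
    obtain ⟨i, hi⟩ := htrans _ hxE hxne _ hyE hyne
    refine hB g ?_ _ hxE hxne hgx
    -- the commutator with the element of the torus fixes a class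
    set v : ↥S := (r ^ i)⁻¹ * (g * r ^ i * g⁻¹)
    have hpw : π (g * r ^ i * g⁻¹) ∈ zpowers (π r) := by
      refine hgen _ ?_
      obtain ⟨k, hk⟩ := hT.2.1 ⟨r, hrT⟩
      refine ⟨k, ?_⟩
      rw [← Subgroup.coe_pow, ← hπker, map_pow, map_mul, map_mul, map_inv, conj_pow, map_zpow, ← zpow_natCast,
        ← zpow_mul, mul_comm, zpow_mul, zpow_natCast, ← map_pow, show r ^ p ^ k = 1 from Subtype.ext (by
          rw [Subgroup.coe_pow, OneMemClass.coe_one]; exact congrArg Subtype.val hk), map_one, one_zpow]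
      group
    have hv : (v : G) ∈ Ux W a := by
      refine hfix v ?_ _ hxE hxne ?_
      · simp only [v]
        rw [map_mul, map_inv, map_zpow]
        exact mul_mem (inv_mem (zpow_mem (mem_zpowers _) i)) hpw
      · have hgx' : (q g)⁻¹ * q xs * q g = q xs := by
          nth_rw 1 [← hgx]; group
        rw [show q v * q xs * (q v)⁻¹ = (q (r ^ i))⁻¹ * (q g * (q (r ^ i) *
            ((q g)⁻¹ * q xs * q g) * (q (r ^ i))⁻¹) * (q g)⁻¹) * q (r ^ i) by
          simp only [v, map_mul, map_inv]; group, hgx', hi, hgy, ← hi]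
        group
    have h1 : Commute (π g) (π r ^ i) := by
      have h2 := (hπker v).2 hv
      simp only [v, map_mul, map_inv, map_zpow] at h2
      exact mul_inv_eq_iff_eq_mul.1 (inv_mul_eq_one.1 h2).symm
    have hip : ¬ (p : ℤ) ∣ i := by
      intro hd
      obtain ⟨m, hm⟩ := hd
      refine hqxy ?_
      rw [← hi, hm]
      have hU : ((r ^ ((p : ℤ) * m) : ↥S) : G) ∈ Ux W a := by
        rw [SubgroupClass.coe_zpow, zpow_mul, zpow_natCast]
        refine zpow_mem ?_ m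
        rw [← Subgroup.coe_pow, ← hπker, map_pow, ← orderOf_dvd_iff_pow_eq_one]
        have h3 := Subgroup.orderOf_dvd_natCard ((T.subgroupOf S).map π)
          (mem_map_of_mem π (show r ∈ T.subgroupOf S from hrT))
        rwa [← relIndex_ker, QuotientGroup.ker_mk', relIndex_subgroupOf (hT.1.trans inf_le_left),
          hF.par.index_sylow a c hac T hT, pPart, show (2 : ℕ) ^ 3 - 1 = 7 from rfl, hp7,
          Nat.Prime.factorization_self (by norm_num), pow_one, ← hp7] at h3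
      exact (hEU _ hU _ hxE).symm
    have hpi : IsCoprime (p : ℤ) i := (Prime.coprime_iff_not_dvd (Nat.prime_iff_prime_int.1 hF.par.prime)).2 hip
    obtain ⟨s, t, hst⟩ := hpi
    have hrp : π r ^ (p : ℤ) = 1 := by
      rw [zpow_natCast, ← orderOf_dvd_iff_pow_eq_one]
      have h3 := Subgroup.orderOf_dvd_natCard ((T.subgroupOf S).map π)
        (mem_map_of_mem π (show r ∈ T.subgroupOf S from hrT))
      rwa [← relIndex_ker, QuotientGroup.ker_mk', relIndex_subgroupOf (hT.1.trans inf_le_left),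
        hF.par.index_sylow a c hac T hT, pPart, show (2 : ℕ) ^ 3 - 1 = 7 from rfl, hp7,
        Nat.Prime.factorization_self (by norm_num), pow_one, ← hp7] at h3
    have h5 : π r = (π r ^ i) ^ t := by
      conv_lhs => rw [← zpow_one (π r), ← hst, zpow_add, mul_comm s, zpow_mul, hrp, one_zpow, one_mul,
        mul_comm t, zpow_mul]
    rw [h5]
    exact h1.zpow_right t
  -- an element of the slice commuting with the torus
  have hC : ∀ g : ↥S, (g : G) ∈ X → Odd (orderOf (g : G)) → Commute (π g) (π r) → (g : G) ∈ Ux W a := by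
    intro g hg ho hgr
    obtain ⟨i, hi⟩ := htrans _ hxE hxne (q g * q xs * (q g)⁻¹) (hEn g _ hxE)
      fun e => hxne (by rw [show q xs = (q g)⁻¹ * (q g * q xs * (q g)⁻¹) * q g by group, e]; group)
    have hv : (((r ^ i)⁻¹ * g : ↥S) : G) ∈ Ux W a := by
      refine hB _ ?_ _ hxE hxne ?_
      · rw [map_mul, map_inv, map_zpow]
        exact (((Commute.refl (π r)).zpow_left i).inv_left).mul_left hgr
      · rw [map_mul, map_inv, show ((q (r ^ i))⁻¹ * q g) * q xs * ((q (r ^ i))⁻¹ * q g)⁻¹ =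
          (q (r ^ i))⁻¹ * (q g * q xs * (q g)⁻¹) * q (r ^ i) by group, ← hi]
        group
    have hπg : π g = π r ^ i := by
      have h2 := (hπker _).2 hv
      rw [map_mul, map_inv, map_zpow] at h2
      exact (inv_mul_eq_one.1 h2).symm
    -- three classes: a power of `g` below four fixes one
    let f : Fin 4 → {z : ↥Pb // z ≠ 1} := fun j =>
      ⟨⟨q (g ^ (j : ℕ)) * q xs * (q (g ^ (j : ℕ)))⁻¹, hPn _ (by rw [Subgroup.coe_pow]; exact pow_mem hg _) _ hxP⟩,
        fun e => hxne (by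
          have h1 := congrArg Subtype.val e
          simpa using h1)⟩
    have hcard3 : Nat.card {z : ↥Pb // z ≠ 1} ≤ 3 := by
      have h1 : ({(1 : ↥Pb)}ᶜ : Set ↥Pb).ncard = Nat.card ↥Pb - 1 := by
        rw [Set.ncard_compl, Set.ncard_singleton]
      rw [← Nat.card_coe_set_eq] at h1
      have h2 : Nat.card {z : ↥Pb // z ≠ 1} = Nat.card ↥Pb - 1 := h1
      omega
    obtain ⟨j, j', hjj, hne⟩ : ∃ j j' : Fin 4, j < j' ∧ f j = f j' := by
      by_contra hcon
      push Not at hcon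
      have := Nat.card_le_card_of_injective f fun j j' e => by
        rcases lt_trichotomy j j' with hl | hl | hl
        · exact absurd e (hcon j j' hl)
        · exact hl
        · exact absurd e.symm (hcon j' j hl)
      rw [Nat.card_fin] at this
      omega
    set m : ℕ := (j' : ℕ) - (j : ℕ)
    have hm : (j : ℕ) + m = (j' : ℕ) := by simp only [m]; omega
    have hmfix : q (g ^ m) * q xs * (q (g ^ m))⁻¹ = q xs := by
      have h1 : q (g ^ (j : ℕ)) * q xs * (q (g ^ (j : ℕ)))⁻¹ = q (g ^ (j' : ℕ)) * q xs * (q (g ^ (j' : ℕ)))⁻¹ :=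
        congrArg (fun z : {z : ↥Pb // z ≠ 1} => (z.1 : ↥S ⧸ (Kx W a).subgroupOf S)) hne
      rw [← hm, pow_add, map_mul] at h1
      rw [show q (g ^ (j : ℕ)) * q (g ^ m) * q xs * (q (g ^ (j : ℕ)) * q (g ^ m))⁻¹ =
        q (g ^ (j : ℕ)) * (q (g ^ m) * q xs * (q (g ^ m))⁻¹) * (q (g ^ (j : ℕ)))⁻¹ by group] at h1
      exact (mul_left_cancel (mul_right_cancel h1)).symm
    have hmU := hD (g ^ m) (by rw [Subgroup.coe_pow]; exact pow_mem hg _) (by
      rw [Subgroup.coe_pow]; exact ho.of_dvd_nat (orderOf_pow_dvd m)) hmfix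
    have hd := hrdvd (i * m) (by
      rw [← SubgroupClass.coe_zpow, ← hπker, map_zpow, zpow_mul, ← hπg, zpow_natCast, ← map_pow, hπker]
      exact hmU)
    rw [hp7] at hd
    refine (hπker g).1 ?_
    obtain ⟨z, hz⟩ : (7 : ℤ) ∣ i := by
      rcases Int.Prime.dvd_mul' (by norm_num : Nat.Prime 7) hd with h7 | h7
      · exact h7
      · exfalso
        have := j'.isLt
        have : (j : ℕ) < (j' : ℕ) := hjj
        omega
    rw [hπg, hz, zpow_mul]
    have hr7 : π r ^ (7 : ℤ) = 1 := by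
      have h3 := Subgroup.orderOf_dvd_natCard ((T.subgroupOf S).map π)
        (mem_map_of_mem π (show r ∈ T.subgroupOf S from hrT))
      rw [← relIndex_ker, QuotientGroup.ker_mk', relIndex_subgroupOf (hT.1.trans inf_le_left),
        hF.par.index_sylow a c hac T hT, pPart, show (2 : ℕ) ^ 3 - 1 = 7 from rfl, hp7,
        Nat.Prime.factorization_self (by norm_num), pow_one] at h3
      exact_mod_cast orderOf_dvd_iff_pow_eq_one.1 h3
    rw [hr7, one_zpow]
  -- an element inverted by the swapper commutes with the torus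
  set DX := X ⊓ Dp a c
  have hinvj : ∀ j ∈ DX, u * j * u⁻¹ = j⁻¹ → j ∈ h.Cx p a := by
    intro j hj hju
    obtain ⟨hja, hjc⟩ := mem_inf.1 (mem_inf.1 hj).2
    set js : ↥S := ⟨j, hja⟩
    have hrc : (r : G) • c = c := (mem_inf.1 (hT.1 hrT)).2
    obtain ⟨kr, hkr⟩ := hT.2.1 ⟨r, hrT⟩
    have hrpow : (r : G) ^ p ^ kr = 1 := congrArg Subtype.val hkr
    obtain ⟨k, hk⟩ := mem_zpowers_iff.1 (hgen (js * r * js⁻¹) ⟨kr, by
      rw [show ((js * r * js⁻¹ : ↥S) : G) = j * r * j⁻¹ from rfl, conj_pow, hrpow]; simp⟩)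
    set e : G := ((r : G) ^ k)⁻¹ * (j * r * j⁻¹)
    have he : e ∈ Ux W a := (hπker ((r ^ k)⁻¹ * (js * r * js⁻¹))).1 (by
      rw [map_mul _ (r ^ k)⁻¹, map_inv, map_zpow, hk, inv_mul_cancel])
    have hjr : j * r * j⁻¹ ∈ Dp a c :=
      mul_mem (mul_mem (mem_inf.1 hj).2 (hT.1 hrT)) (inv_mem (mem_inf.1 hj).2)
    have heD : e ∈ Dp a c := mul_mem (inv_mem (zpow_mem (hT.1 hrT) k)) hjr
    have hec : e ∈ Ux W c := by
      set Sc := stabilizer G c
      haveI : ((Ux W c).subgroupOf Sc).Normal := ⟨fun e' he' g => h.Ux_normal (mem_stabilizer_iff.1 g.2) he'⟩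
      set πc := QuotientGroup.mk' ((Ux W c).subgroupOf Sc)
      set w : ↥Sc := ⟨j * r * j⁻¹, (mem_inf.1 hjr).2⟩
      set rc : ↥Sc := ⟨r, hrc⟩
      have hwp : w ^ p ^ kr = 1 := Subtype.ext (by
        rw [Subgroup.coe_pow, show (w : G) = j * r * j⁻¹ from rfl, conj_pow, hrpow]; simp)
      have hcw : Commute (πc rc) (πc w) := by
        refine mul_inv_eq_iff_eq_mul.1 (mul_inv_eq_one.1 ?_)
        rw [← map_inv, ← map_inv, ← map_mul, ← map_mul, ← map_mul]
        exact (QuotientGroup.eq_one_iff _).2 (hF.par.commute c r (j * r * j⁻¹) hrc (mem_inf.1 hjr).2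
          ⟨kr, by rw [hrpow]; exact one_mem _⟩ ⟨kr, by rw [conj_pow, hrpow]; simp⟩)
      have hpe : (e : G) ^ p ^ kr ∈ Ux W c := by
        have h1 : πc (((rc ^ k)⁻¹ * w) ^ p ^ kr) = 1 := by
          rw [map_pow, map_mul, map_inv, map_zpow, (hcw.zpow_left k).inv_left.mul_pow, inv_pow,
            ← zpow_natCast, ← zpow_mul, mul_comm, zpow_mul, zpow_natCast, ← map_pow πc rc, ← map_pow πc w, hwp,
            show rc ^ p ^ kr = 1 from Subtype.ext (by rw [Subgroup.coe_pow]; exact hrpow), map_one, one_zpow,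
            inv_one, one_mul]
        exact ((QuotientGroup.eq_one_iff (N := (Ux W c).subgroupOf Sc) (((rc ^ k)⁻¹ * w) ^ p ^ kr)).1 h1)
      refine SETwoClosed.mem_of_pow_mem hF.par.prime hpe fun w' hw' hw'p => ?_
      have hZp : IsPGroup p ↥(zpowers w') := by
        obtain ⟨m, hm⟩ := hw'p
        intro z
        obtain ⟨i, hi⟩ := mem_zpowers_iff.1 z.2
        refine ⟨m, Subtype.ext ?_⟩
        rw [Subgroup.coe_pow, ← hi, OneMemClass.coe_one, ← zpow_natCast, ← zpow_mul, mul_comm, zpow_mul,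
          zpow_natCast, hm, one_zpow]
      obtain ⟨T', hwT', hT'⟩ := exists_isSyl_ge hZp (zpowers_le.2 (zpowers_le.2 heD hw'))
      have h1 : w' ∈ T' ⊓ Ux W a := mem_inf.2 ⟨hwT' (mem_zpowers _), zpowers_le.2 he hw'⟩
      rw [hF.syl_U a c T' hac hT'] at h1
      exact (mem_inf.1 h1).2
    have hue : u * e * u⁻¹ ∈ Ux W a := by
      have h1 := h.conj_mem_Ux (g := u) hec
      rwa [huc] at h1
    set r1 : ↥S := ⟨u * r * u⁻¹, by
      have h1 := stab_conj (g := u) (x := c) (show (r : G) ∈ stabilizer G c from hrc)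
      rwa [huc] at h1⟩
    have hr1T : (r1 : G) ∈ T := huT ▸ conj_mem_cj hrT
    obtain ⟨s, hs⟩ := mem_zpowers_iff.1 (hgen r1 ⟨kr, by
      rw [show (r1 : G) = u * r * u⁻¹ from rfl, conj_pow, hrpow]; simp⟩)
    have hr1U : π r1 ≠ 1 := fun e' => by
      have h1 := h.conj_mem_Ux (g := u) ((hπker r1).1 e')
      rw [show u * (r1 : G) * u⁻¹ = r by
        rw [show (r1 : G) = u * r * u⁻¹ from rfl, Basic.inv_eq hu,
          show u * (u * r * u) * u = (u * u) * r * (u * u) by group, Basic.inv_sq_one hu, one_mul, mul_one]] at h1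
      have h2 : (r : G) ∈ T ⊓ Ux W c := mem_inf.2 ⟨hrT, h1⟩
      rw [← hF.syl_U a c T hac hT] at h2
      exact hrU (mem_inf.1 h2).2
    -- transport by the swapper
    have h1 : (π js)⁻¹ * π r1 * π js = π r1 ^ k := by
      have e1 : ((r1 ^ k : ↥S) : G) * (u * e * u⁻¹) = ((js⁻¹ * r1 * js : ↥S) : G) := by
        rw [SubgroupClass.coe_zpow, Subgroup.coe_mul, Subgroup.coe_mul, Subgroup.coe_inv,
          show (r1 : G) = u * r * u⁻¹ from rfl, show (js : G) = j from rfl, conj_zpow]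
        simp only [e]
        rw [show j⁻¹ * (u * r * u⁻¹) * j = (u * j * u⁻¹) * (u * r * u⁻¹) * (u * j * u⁻¹)⁻¹ by
          rw [hju, inv_inv]]
        group
      rw [← map_inv, ← map_mul, ← map_mul, ← map_zpow]
      refine (QuotientGroup.eq.2 ?_).symm
      rw [mem_subgroupOf, Subgroup.coe_mul, Subgroup.coe_inv, ← e1, inv_mul_cancel_left]
      exact hue
    have hk' : π js * π r * (π js)⁻¹ = π r ^ k := by
      rw [hk, map_mul, map_mul, map_inv]
    have hcomm2 : Commute (π js * π js) (π r1) := by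
      refine mul_inv_eq_iff_eq_mul.1 ?_
      have hJ : π js * π r1 * (π js)⁻¹ = π r1 ^ k := by
        rw [← hs, ← conj_zpow, hk', ← zpow_mul, mul_comm, zpow_mul]
      calc π js * π js * π r1 * (π js * π js)⁻¹ = π js * (π r1 ^ k) * (π js)⁻¹ := by rw [← hJ]; group
        _ = π js * ((π js)⁻¹ * π r1 * π js) * (π js)⁻¹ := by rw [h1]
        _ = π r1 := by group
    have hoj : Odd (orderOf (π js)) := (h.odd_of_fix_two hac hja hjc).of_dvd_nat
      ((orderOf_map_dvd π js).trans (dvd_of_eq (Subgroup.orderOf_mk j hja)))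
    have hcj := exists_eq_zpow_mul hoj hcomm2
    refine hcomm js ?_
    -- `π r` is a power of `π r1`
    have hp1 : π r ^ (p : ℤ) = 1 := by
      rw [zpow_natCast, ← orderOf_dvd_iff_pow_eq_one]
      have h3 := Subgroup.orderOf_dvd_natCard ((T.subgroupOf S).map π)
        (mem_map_of_mem π (show r ∈ T.subgroupOf S from hrT))
      rwa [← relIndex_ker, QuotientGroup.ker_mk', relIndex_subgroupOf (hT.1.trans inf_le_left),
        hF.par.index_sylow a c hac T hT, pPart, show (2 : ℕ) ^ 3 - 1 = 7 from rfl, hp7,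
        Nat.Prime.factorization_self (by norm_num), pow_one, ← hp7] at h3
    have hsp : ¬ (p : ℤ) ∣ s := by
      rintro ⟨m, hm⟩
      exact hr1U (by rw [← hs, hm, zpow_mul, hp1, one_zpow])
    obtain ⟨α, β, hst⟩ := (Prime.coprime_iff_not_dvd (Nat.prime_iff_prime_int.1 hF.par.prime)).2 hsp
    have h5 : π r = π r1 ^ β := by
      rw [← hs, ← zpow_mul]
      conv_lhs => rw [← zpow_one (π r), ← hst, zpow_add, mul_comm α, zpow_mul, hp1, one_zpow, one_mul,
        mul_comm β]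
    rw [h5]
    exact hcj.zpow_right β
  -- an element of `X` centralized by the swapper lies in the centralizer of the torus
  obtain ⟨m, hm⟩ := isConj_iff.1 (StronglyEmbedded.isConj_involutions hse hx' hu')
  have hmu : (m : G) * x * (m : G)⁻¹ = u := congrArg Subtype.val hm
  set f := (m : G) • a
  have huf : u • f = f := hmu ▸ conj_smul_fix hxa
  have hfa : f ≠ a := fun e => hac (show a = c from (show u • a = a by rw [e] at huf; exact huf).symm)
  have hfix2 : ∀ z ∈ DX, u * z = z * u → z ∈ h.Cx p a := by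
    intro z hz hzu
    obtain ⟨hzX, hzD⟩ := mem_inf.1 hz
    have hzf : z • f = f := h.smul_of_commute hu huf hzu.symm
    have hz'a : ((m : G)⁻¹ * z * m) • a = a := by rw [mul_smul, mul_smul, hzf, inv_smul_smul]
    have hz'U : (m : G)⁻¹ * z * m ∈ Ux W a := by
      refine hD ⟨_, hz'a⟩ (mul_mem (mul_mem (inv_mem m.2) hzX) m.2) ?_ ?_
      · show Odd (orderOf ((m : G)⁻¹ * z * m))
        rw [show (m : G)⁻¹ * z * m = (m : G)⁻¹ * z * (m : G)⁻¹⁻¹ by rw [inv_inv], Basic.orderOf_conj]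
        exact h.odd_of_fix_two hac (mem_inf.1 hzD).1 (mem_inf.1 hzD).2
      · refine mul_inv_eq_iff_eq_mul.2 ?_
        rw [← map_mul, ← map_mul]
        congr 1
        refine Subtype.ext ?_
        show (m : G)⁻¹ * z * m * x = x * ((m : G)⁻¹ * z * m)
        calc (m : G)⁻¹ * z * m * x = (m : G)⁻¹ * (z * u) * m := by rw [← hmu]; group
          _ = (m : G)⁻¹ * (u * z) * m := by rw [hzu]
          _ = x * ((m : G)⁻¹ * z * m) := by rw [← hmu]; group
    have h1 := h.conj_mem_Cx (m := (m : G)) (h.Ux_le_Cx p a hz'U)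
    rw [show (m : G) * ((m : G)⁻¹ * z * m) * (m : G)⁻¹ = z by group] at h1
    exact hF.Cx_swap hfa h1 (mem_inf.1 hzD).1
  -- split `d`
  obtain ⟨hda, hdc⟩ := mem_inf.1 hdD
  set k := d⁻¹ * (u * d * u⁻¹)
  have hudD : u * d * u⁻¹ ∈ DX := by
    refine mem_inf.2 ⟨mul_mem (mul_mem u'.2 hdX) (inv_mem u'.2), mem_inf.2 ⟨?_, ?_⟩⟩
    · have h1 := stab_conj (g := u) hdc
      rwa [huc] at h1
    · exact stab_conj (g := u) hda
  have hkD : k ∈ DX := mul_mem (inv_mem (mem_inf.2 ⟨hdX, hdD⟩)) hudD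
  have hui : u⁻¹ = u := Basic.inv_eq hu
  have hku : u * k * u⁻¹ = k⁻¹ := by
    calc u * k * u⁻¹ = (u * d * u⁻¹)⁻¹ * ((u * u) * d * (u * u)⁻¹) := by simp only [k]; group
      _ = k⁻¹ := by rw [Basic.inv_sq_one hu]; simp only [k]; group
  obtain ⟨e, he⟩ := h.odd_of_fix_two hac (mem_inf.1 (mem_inf.1 hkD).2).1 (mem_inf.1 (mem_inf.1 hkD).2).2
  set k1 := k ^ (e + 1)
  have hk1 : k1 * k1 = k := by
    rw [← pow_add, show e + 1 + (e + 1) = orderOf k + 1 by omega, pow_succ, pow_orderOf_eq_one, one_mul]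
  have hk1u : u * k1 * u⁻¹ = k1⁻¹ := by rw [← conj_pow, hku, inv_pow]
  have hz : d * k1 ∈ DX := mul_mem (mem_inf.2 ⟨hdX, hdD⟩) (pow_mem hkD _)
  have hzu : u * (d * k1) = (d * k1) * u := by
    refine mul_inv_eq_iff_eq_mul.1 ?_
    calc u * (d * k1) * u⁻¹ = (u * d * u⁻¹) * (u * k1 * u⁻¹) := by group
      _ = d * (k * k1⁻¹) := by rw [hk1u]; simp only [k]; group
      _ = d * k1 := by
        nth_rw 1 [← hk1]
        rw [mul_inv_cancel_right]
  have hdC : d ∈ h.Cx p a := by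
    have h1 := mul_mem (hfix2 _ hz hzu) (inv_mem (hinvj k1 (pow_mem hkD _) hk1u))
    rwa [mul_inv_cancel_right] at h1
  have hdr : Commute (π ⟨d, hda⟩) (π r) := by
    refine mul_inv_eq_iff_eq_mul.1 (mul_inv_eq_one.1 ?_)
    rw [← map_inv, ← map_inv, ← map_mul, ← map_mul, ← map_mul, hπker]
    exact hdC.2 r (mem_stabilizer_iff.1 r.2) (hF.par.exists_pow hT.2.1 hrT a)
  have hdU := hC ⟨d, hda⟩ hdX (h.odd_of_fix_two hac hda hdc) hdr
  refine hqxy ?_
  have h1 := hEU ⟨d, hda⟩ hdU _ hxE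
  rw [← map_inv, ← map_mul, ← map_mul] at h1
  rw [← h1]
  exact congrArg q (Subtype.ext hdxy)

end Cfsg.Agent.SECoreTwoClosed
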