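import Cfsg.Agent.Lib.SECoreTwoClosed.Core.Slice
import Cfsg.Agent.Lib.SETwoClosed.Tail.Main

/-!
# The core lemma: the quotient of a covering proper subgroup by its odd core

Theorem T for this quotient gives the length of the orbit, and the facts about pairs of points in it say
that the elements of `X` in `Ux W a` fixing a second point `b` of the orbit lie in `Ux W b` and commute
modulo the core with the swappers in `X`.
-/

set_option autoImplicit false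
set_option linter.style.haveILetI false
set_option linter.unusedSectionVars false

namespace Cfsg.Agent.SECoreTwoClosed

open Subgroup MulAction
open Cfsg.Agent.Involutions
open Cfsg.Agent.SETwoClosed (TwoEl)
open Cfsg.Agent.SEAbelian (oc oc_le odd_oc le_normalizer_oc)

universe u

variable {G : Type u} [Group G] [Finite G] {H W : Subgroup G}

/-- Without odd core the action on the cosets is faithful. -/
theorem faithful_of_two_closed {Q : Type u} [Group Q] [Finite Q] {K : Subgroup Q} (h : SETwoClosed.Hyp K)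
    (hO : Cfsg.oddCore Q = ⊥) : FaithfulSMul Q (Q ⧸ K) := by
  refine ⟨fun {g g'} hgg => ?_⟩
  have hd : g⁻¹ * g' ∈ K.normalCore := by
    rw [normalCore_eq_ker, MonoidHom.mem_ker]
    refine Equiv.ext fun z => ?_
    show (g⁻¹ * g') • z = z
    rw [mul_smul, ← hgg z, inv_smul_smul]
  haveI := normalCore_normal K
  exact inv_mul_eq_one.1 (mem_bot.1 (hO ▸ PLocal.Cores.le_pPrimeCore (p := 2)
    (Nat.coprime_two_right.2 h.odd_normalCore) hd))

variable (h : THyp H W) (IH : IndHyp G) {X : Subgroup G} [hN : (Cfsg.oddCore ↥X).Normal] (hX : X ≠ ⊤)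
  {d : G ⧸ H} (hmov : ∃ x ∈ X, x • d ≠ d) (hfull : Covers W X d)

omit hN in
theorem mem_oddCore_iff {x : ↥X} : x ∈ Cfsg.oddCore ↥X ↔ (x : G) ∈ oc X :=
  ⟨fun hx => ⟨x, hx, rfl⟩, fun ⟨y, hy, e⟩ => Subtype.ext (a1 := y) (a2 := x) e ▸ hy⟩

/-- The stabilizer in the quotient. -/
noncomputable abbrev Kq (X : Subgroup G) [(Cfsg.oddCore ↥X).Normal] (d : G ⧸ H) :
    Subgroup (↥X ⧸ Cfsg.oddCore ↥X) :=
  (stabilizer ↥X d).map (QuotientGroup.mk' (Cfsg.oddCore ↥X))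

include h IH hX hmov hfull

theorem THyp.oddCore_le_stab : Cfsg.oddCore ↥X ≤ stabilizer ↥X d := fun x hx =>
  ((h.slice_core IH hX hmov (h.eight_of_covers hfull)).1 (mem_oddCore_iff.1 hx) : (x : G) • d = d)

theorem THyp.mk_eq_iff {x y : ↥X} :
    ((x : ↥X ⧸ Cfsg.oddCore ↥X) • SETwoClosed.base (Kq X d)) = (y : ↥X ⧸ Cfsg.oddCore ↥X) •
      SETwoClosed.base (Kq X d) ↔ (x : G) • d = (y : G) • d := by
  rw [← inv_smul_eq_iff, ← QuotientGroup.mk_inv, ← mul_smul, ← QuotientGroup.mk_mul,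
    SETwoClosed.smul_base_iff, SETwoClosed.mk_mem_map (h.oddCore_le_stab IH hX hmov hfull)]
  show ((y⁻¹ * x : ↥X) : G) • d = d ↔ _
  rw [Subgroup.coe_mul, Subgroup.coe_inv, mul_smul, inv_smul_eq_iff]

theorem THyp.mem_oddCore_of_Kx {x : ↥X} {g : G} (hg : g ∈ X) (hx : (x : G) ∈ Kx W (g • d)) :
    x ∈ Cfsg.oddCore ↥X :=
  mem_oddCore_iff.2 ((h.slice_full IH hX hmov hfull hg).1 (mem_inf.2 ⟨x.2, hx⟩))

theorem THyp.quot_hyp : SETwoClosed.Hyp (Kq X d) := by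
  set N := Cfsg.oddCore ↥X
  set K := stabilizer ↥X d
  set π := QuotientGroup.mk' N
  have hK : ∀ x : ↥X, x ∈ K ↔ (x : G) • d = d := fun x => Iff.rfl
  have hNK : N ≤ K := h.oddCore_le_stab IH hX hmov hfull
  have hodd : Odd (Nat.card ↥N) := Nat.coprime_two_right.1 PLocal.Cores.coprime_card_pPrimeCore
  have hmk : ∀ {g : ↥X}, π g ∈ K.map π ↔ g ∈ K := SETwoClosed.mk_mem_map hNK
  have hinv : ∀ x : ↥X, orderOf x = 2 → orderOf (π x) = 2 := fun x hx => by
    refine Basic.orderOf_two_iff.2 ⟨by rw [← map_mul, Basic.inv_sq_one hx, map_one], fun e => ?_⟩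
    have := SECore.odd_orderOf_of_mem hodd ((QuotientGroup.eq_one_iff x).1 e)
    rw [hx] at this
    exact absurd this (by decide)
  obtain ⟨A, hAX, hAd, hA, hA8⟩ := h.exists_elem (h.eight_of_covers hfull)
  obtain ⟨a, haA, b, hbA, ha, hb, hab, hc⟩ := exists_pair_of_elem hA hA8
  set a' : ↥X := ⟨a, hAX haA⟩
  set b' : ↥X := ⟨b, hAX hbA⟩
  have ha' : orderOf a' = 2 := by rw [Subgroup.orderOf_mk, ha]
  have hb' : orderOf b' = 2 := by rw [Subgroup.orderOf_mk, hb]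
  have hc' : Commute a' b' := Subtype.ext hc
  refine ⟨StronglyEmbedded.of_conj (fun e => ?_) ?_ (fun t ht ht2 g hg => ?_), fun x hx y hy hx2 hy2 => ?_,
      ⟨π a', hmk.2 ((hK _).2 (hAd haA)), π b', hmk.2 ((hK _).2 (hAd hbA)), hinv _ ha', hinv _ hb',
        fun e => hab ?_, hc'.map π⟩⟩
  · obtain ⟨x, hx, hxd⟩ := hmov
    exact hxd ((hK ⟨x, hx⟩).1 (hmk.1 (show π ⟨x, hx⟩ ∈ Kq X d by rw [e]; exact mem_top _)))
  · rw [even_iff_two_dvd, ← hinv _ ha']
    exact orderOf_coe (⟨π a', hmk.2 ((hK _).2 (hAd haA))⟩ : ↥(K.map π)) ▸ orderOf_dvd_natCard _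
  · obtain ⟨x, hx, -, rfl, hxsq⟩ :=
      SETwoClosed.exists_lift hNK hodd ht (SETwoClosed.twoEl_of_sq (Basic.inv_sq_one ht2))
    obtain ⟨g, rfl⟩ := QuotientGroup.mk_surjective g
    refine hmk.2 ((hK g).2 ?_)
    have hx2 : orderOf (x : G) = 2 := by
      rw [Subgroup.orderOf_coe]
      exact Basic.orderOf_two_iff.2 ⟨hxsq (Basic.inv_sq_one ht2), fun e => Basic.ne_one ht2 (by rw [e]; rfl)⟩
    have hgx : g * x * g⁻¹ ∈ K := hmk.1 (by rw [map_mul, map_mul, map_inv]; exact hg)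
    exact h.eq_of_fixed (by rw [Basic.orderOf_conj, hx2]) (conj_smul_fix ((hK x).1 hx)) ((hK _).1 hgx)
  · have hT : ∀ x : ↥X, x ∈ K → TwoEl x → (x : G) ∈ Tx W d := fun x hx hx2 =>
      h.mem_Tx.2 ⟨(hK x).1 hx, hx2.imp fun k hk => by
        rw [← Subgroup.coe_pow, hk, OneMemClass.coe_one]; exact one_mem _⟩
    obtain ⟨x', hx', hx'2, rfl, -⟩ := SETwoClosed.exists_lift hNK hodd hx hx2
    obtain ⟨y', hy', hy'2, rfl, -⟩ := SETwoClosed.exists_lift hNK hodd hy hy2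
    obtain ⟨-, k, hk⟩ := h.mem_Tx.1 (mul_mem (hT x' hx' hx'2) (hT y' hy' hy'2))
    refine ⟨k, ?_⟩
    rw [← QuotientGroup.mk_mul, ← QuotientGroup.mk_pow]
    exact (QuotientGroup.eq_one_iff _).2 (h.mem_oddCore_of_Kx IH hX hmov hfull (one_mem X)
      (by rw [one_smul]; exact hk))
  · have h1 : a'⁻¹ * b' ∈ N := QuotientGroup.eq.1 e
    have h2 : (a'⁻¹ * b') * (a'⁻¹ * b') = 1 := by
      rw [Basic.inv_eq ha', show a' * b' * (a' * b') = a' * (b' * a') * b' by group, ← hc'.eq,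
        show a' * (a' * b') * b' = (a' * a') * (b' * b') by group, Basic.inv_sq_one ha', Basic.inv_sq_one hb',
        one_mul]
    exact congrArg Subtype.val (inv_mul_eq_one.1 (TwoEl.eq_one_of_odd (SETwoClosed.twoEl_of_sq h2)
      (SECore.odd_orderOf_of_mem hodd h1)))

/-- `Ux W` at a point of the orbit and at its image. -/
theorem THyp.mk_mem_Ux {g e : ↥X} (he : (e : G) • (g : G) • d = (g : G) • d) :
    (e : ↥X ⧸ Cfsg.oddCore ↥X) ∈ SETwoClosed.Ux ((g : ↥X ⧸ Cfsg.oddCore ↥X) • SETwoClosed.base (Kq X d)) ↔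
      (e : G) ∈ Ux W ((g : G) • d) := by
  set N := Cfsg.oddCore ↥X
  have hq := h.quot_hyp IH hX hmov hfull
  have hodd : Odd (Nat.card ↥N) := Nat.coprime_two_right.1 PLocal.Cores.coprime_card_pPrimeCore
  have hpt : ∀ x : ↥X, (x : G) • (g : G) • d = (g : G) • d →
      (x : ↥X ⧸ N) • ((g : ↥X ⧸ N) • SETwoClosed.base (Kq X d)) =
        (g : ↥X ⧸ N) • SETwoClosed.base (Kq X d) := fun x hx => by
    rw [← mul_smul, ← QuotientGroup.mk_mul, h.mk_eq_iff IH hX hmov hfull, Subgroup.coe_mul, mul_smul, hx]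
  constructor
  · intro hU
    refine h.mem_Ux_of_cent he fun t ht htx => ?_
    obtain ⟨s, hsX, hs, hsd, hst⟩ := h.covers_smul hfull g.2 t ht htx
    have hsW : ((⟨s, hsX⟩ : ↥X) : ↥X ⧸ N) ∈ SETwoClosed.Wx ((g : ↥X ⧸ N) • SETwoClosed.base (Kq X d)) :=
      hq.mem_Wx.2 ⟨hpt _ hsd, by
        rw [← QuotientGroup.mk_mul, show (⟨s, hsX⟩ * ⟨s, hsX⟩ : ↥X) = 1 from Subtype.ext (Basic.inv_sq_one hs),
          QuotientGroup.mk_one]⟩
    have h1 : e * ⟨s, hsX⟩ * e⁻¹ * (⟨s, hsX⟩ : ↥X)⁻¹ ∈ N := by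
      rw [← QuotientGroup.eq_one_iff, QuotientGroup.mk_mul, QuotientGroup.mk_mul, QuotientGroup.mk_mul,
        QuotientGroup.mk_inv, QuotientGroup.mk_inv, ← (SETwoClosed.mem_Ux.1 hU).2 _ hsW,
        mul_inv_cancel_right, mul_inv_cancel]
    have hsT := h.mem_Tx_of_inv (Basic.inv_sq_one hs) hsd
    have h2 : (e : G) * s * (e : G)⁻¹ * s⁻¹ ∈ Kx W ((g : G) • d) :=
      h.odd_mem_Kx (mul_mem (h.Tx_normal he hsT) (inv_mem hsT))
        (SECore.odd_orderOf_of_mem (odd_oc X) (mem_oddCore_iff.1 h1 :))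
    rw [show (e : G) * t * (e : G)⁻¹ * t⁻¹ = ((e : G) * s * (e : G)⁻¹ * s⁻¹) *
      (s * (((e : G) * (s⁻¹ * t) * (e : G)⁻¹) * (s⁻¹ * t)⁻¹) * s⁻¹) by group]
    exact mul_mem h2 (h.Kx_normal hsd (mul_mem (h.Kx_normal he hst) (inv_mem hst)))
  · intro hU
    refine SETwoClosed.mem_Ux.2 ⟨hpt e he, fun w hw => ?_⟩
    obtain ⟨hw1, hw2⟩ := hq.mem_Wx.1 hw
    have hw' : (g : ↥X ⧸ N)⁻¹ * w * (g : ↥X ⧸ N) ∈ Kq X d :=
      SETwoClosed.smul_base_iff.1 (by rw [mul_smul, mul_smul, hw1, inv_smul_smul])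
    obtain ⟨s, hs, -, hsw, hssq⟩ := SETwoClosed.exists_lift (h.oddCore_le_stab IH hX hmov hfull) hodd hw'
      (SETwoClosed.twoEl_of_sq (by
        calc (g : ↥X ⧸ N)⁻¹ * w * g * ((g : ↥X ⧸ N)⁻¹ * w * g) = (g : ↥X ⧸ N)⁻¹ * (w * w) * g := by group
          _ = 1 := by rw [hw2, mul_one, inv_mul_cancel]))
    have hss : s * s = 1 := hssq (by
      calc (g : ↥X ⧸ N)⁻¹ * w * g * ((g : ↥X ⧸ N)⁻¹ * w * g) = (g : ↥X ⧸ N)⁻¹ * (w * w) * g := by group
        _ = 1 := by rw [hw2, mul_one, inv_mul_cancel])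
    set r : ↥X := g * s * g⁻¹
    have hrd : (r : G) • (g : G) • d = (g : G) • d := conj_smul_fix hs
    have hrr : (r : G) * r = 1 := by
      rw [← Subgroup.coe_mul, show r * r = g * (s * s) * g⁻¹ by simp only [r]; group, hss, mul_one,
        mul_inv_cancel, OneMemClass.coe_one]
    have hwr : w = (r : ↥X ⧸ N) := by
      simp only [r]
      rw [QuotientGroup.mk_mul, QuotientGroup.mk_mul, hsw, QuotientGroup.mk_inv]
      group
    have h1 : e * r * e⁻¹ * r⁻¹ ∈ N := h.mem_oddCore_of_Kx IH hX hmov hfull g.2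
      ((h.mem_Ux.1 hU).2 r (h.mem_Ex.2 ⟨hrd, by rw [hrr]; exact one_mem _⟩))
    rw [← QuotientGroup.eq_one_iff, QuotientGroup.mk_mul, mul_eq_one_iff_eq_inv, QuotientGroup.mk_inv,
      inv_inv, QuotientGroup.mk_mul, QuotientGroup.mk_mul, QuotientGroup.mk_inv, mul_inv_eq_iff_eq_mul] at h1
    rw [hwr, h1]

/-- In a covering proper subgroup `Ux W` of a point and a second point agree. -/
theorem THyp.slice_U {a b : G ⧸ H} (ha : a ∈ orbit ↥X d) (hb : b ∈ orbit ↥X d) (hab : a ≠ b) {e : G}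
    (heX : e ∈ X) (he : e ∈ Ux W a) (heb : e • b = b) :
    e ∈ Ux W b ∧ ∀ u ∈ X, orderOf u = 2 → u • a = b → e * u * e⁻¹ * u⁻¹ ∈ oc X := by
  set N := Cfsg.oddCore ↥X
  have hq := h.quot_hyp IH hX hmov hfull
  haveI := faithful_of_two_closed hq PLocal.Cores.pPrimeCore_quotient_pPrimeCore
  obtain ⟨m, q, hF⟩ := hq.exists_facts fun _ _ _ hK => hK.concl
  obtain ⟨g, rfl⟩ : ∃ g : ↥X, (g : G) • d = a := ha
  obtain ⟨k, rfl⟩ : ∃ k : ↥X, (k : G) • d = b := hb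
  set e' : ↥X := ⟨e, heX⟩
  have hea : (e' : G) • (g : G) • d = (g : G) • d := h.Ux_le _ he
  set x0 := (g : ↥X ⧸ N) • SETwoClosed.base (Kq X d)
  set y0 := (k : ↥X ⧸ N) • SETwoClosed.base (Kq X d)
  have hxy : x0 ≠ y0 := fun e1 => hab ((h.mk_eq_iff IH hX hmov hfull).1 e1)
  have h1 : (e' : ↥X ⧸ N) ∈ SETwoClosed.Ux x0 := (h.mk_mem_Ux IH hX hmov hfull hea).2 he
  have h2 : (e' : ↥X ⧸ N) • y0 = y0 := by
    rw [← mul_smul, ← QuotientGroup.mk_mul, h.mk_eq_iff IH hX hmov hfull, Subgroup.coe_mul, mul_smul]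
    exact heb
  have h3 : (e' : ↥X ⧸ N) ∈ SETwoClosed.Ux y0 := by
    have h4 : (e' : ↥X ⧸ N) ∈ SETwoClosed.Ux x0 ⊓ stabilizer (↥X ⧸ N) y0 := mem_inf.2 ⟨h1, h2⟩
    rw [hF.U_eq x0 y0 hxy] at h4
    exact (mem_inf.1 h4).1
  refine ⟨(h.mk_mem_Ux IH hX hmov hfull (e := e') heb).1 h3, fun u huX hu hua => ?_⟩
  set u' : ↥X := ⟨u, huX⟩
  have hodd : Odd (Nat.card ↥N) := Nat.coprime_two_right.1 PLocal.Cores.coprime_card_pPrimeCore
  have hu' : orderOf (u' : ↥X ⧸ N) = 2 := by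
    have hu2 : u' * u' = 1 := Subtype.ext (Basic.inv_sq_one hu)
    refine Basic.orderOf_two_iff.2 ⟨by rw [← QuotientGroup.mk_mul, hu2, QuotientGroup.mk_one], fun e1 => ?_⟩
    have := SECore.odd_orderOf_of_mem hodd ((QuotientGroup.eq_one_iff u').1 e1)
    rw [Subgroup.orderOf_mk, hu] at this
    exact absurd this (by decide)
  have hux : (u' : ↥X ⧸ N) • x0 = y0 := by
    rw [← mul_smul, ← QuotientGroup.mk_mul, h.mk_eq_iff IH hX hmov hfull, Subgroup.coe_mul, mul_smul]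
    exact hua
  have h4 := hq.commute_swap hxy hu' hux h1 h3
  have h5 : e' * u' * e'⁻¹ * u'⁻¹ ∈ N := by
    rw [← QuotientGroup.eq_one_iff, QuotientGroup.mk_mul, QuotientGroup.mk_mul, QuotientGroup.mk_mul,
      QuotientGroup.mk_inv, QuotientGroup.mk_inv, h4.eq]
    group
  exact mem_oddCore_iff.1 h5

omit hN in
/-- The orbit of a point moved by a covering proper subgroup. -/
theorem THyp.orbit_modEq {n p : ℕ} (hP : Par H W n p) : (orbit ↥X d).ncard ≡ 2 [MOD p] := by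
  classical
  haveI : (Cfsg.oddCore ↥X).Normal := PLocal.Cores.pPrimeCore_normal'
  set N := Cfsg.oddCore ↥X
  set K := stabilizer ↥X d
  set π := QuotientGroup.mk' N
  have hq := h.quot_hyp IH hX hmov hfull
  have hNK : N ≤ K := h.oddCore_le_stab IH hX hmov hfull
  have hodd : Odd (Nat.card ↥N) := Nat.coprime_two_right.1 PLocal.Cores.coprime_card_pPrimeCore
  obtain ⟨i, hi⟩ := hq.card_points
  -- the involutions modulo the core
  have hW : Nat.card ↥(SETwoClosed.Wx (SETwoClosed.base (Kq X d))) = 2 ^ n := by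
    have h2 : SETwoClosed.Wx (SETwoClosed.base (Kq X d)) = ((X ⊓ Ex W d).subgroupOf X).map π := by
      ext q
      rw [hq.mem_Wx, SETwoClosed.smul_base_iff]
      constructor
      · rintro ⟨hq, hq2⟩
        obtain ⟨x, hx, -, rfl, hxsq⟩ := SETwoClosed.exists_lift hNK hodd hq (SETwoClosed.twoEl_of_sq hq2)
        refine ⟨x, mem_inf.2 ⟨x.2, h.mem_Ex.2 ⟨hx, ?_⟩⟩, rfl⟩
        rw [show X.subtype x * X.subtype x = ((x * x : ↥X) : G) from rfl, hxsq hq2, OneMemClass.coe_one]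
        exact one_mem _
      · rintro ⟨x, hx, rfl⟩
        obtain ⟨hxd, hxsq⟩ := h.mem_Ex.1 (mem_inf.1 hx).2
        exact ⟨(SETwoClosed.mk_mem_map hNK).2 hxd, by
          rw [← map_mul]
          exact (QuotientGroup.eq_one_iff _).2
            (h.mem_oddCore_of_Kx IH hX hmov hfull (one_mem X) (by rw [one_smul]; exact hxsq))⟩
    have h3 : oc X ⊓ (X ⊓ Ex W d) = Kx W d ⊓ (X ⊓ Ex W d) := by
      ext e
      simp only [mem_inf]
      constructor
      · rintro ⟨he, heX, heE⟩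
        exact ⟨h.odd_mem_Kx (h.Ex_le_Tx d heE) (SECore.odd_orderOf_of_mem (odd_oc X) he), heX, heE⟩
      · rintro ⟨he, heX, heE⟩
        exact ⟨(h.slice_full IH hX hmov hfull (one_mem X)).1 (mem_inf.2 ⟨heX, by rwa [one_smul]⟩), heX, heE⟩
    rw [h2, ← relIndex_ker, QuotientGroup.ker_mk',
      show N = (oc X).subgroupOf X from Subgroup.ext fun x => mem_oddCore_iff,
      relIndex_subgroupOf inf_le_left, ← inf_relIndex_right, h3, inf_relIndex_right,
      h.relIndex_of_covers hfull, hP.card_E]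
  have horb : (orbit ↥X d).ncard = Nat.card ((↥X ⧸ N) ⧸ Kq X d) := by
    rw [← Nat.card_coe_set_eq, Nat.card_congr (orbitEquivQuotientStabilizer ↥X d)]
    exact (index_map_eq (H := K) (f := π) (QuotientGroup.mk'_surjective N)
      (by rw [QuotientGroup.ker_mk']; exact hNK)).symm
  rw [horb, hi, hW]
  have h1 : 2 ^ n ≡ 1 [MOD p] := ((Nat.modEq_iff_dvd' Nat.one_le_two_pow).2 hP.dvd).symm
  simpa using (h1.pow i).add_right 1

end Cfsg.Agent.SECoreTwoClosed
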