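import Cfsg.Agent.Lib.SECoreTwoClosed.Core.PairsBasic

/-!
# The core lemma: pairs with a largest Sylow subgroup

For a pair of points whose two-point stabilizer has a largest Sylow `p`-subgroup `T`, the subgroup `T` is
Sylow in the group, fixes just the two points, and meets their kernels equally.
-/

set_option autoImplicit false
set_option linter.style.haveILetI false
set_option linter.unusedSectionVars false

namespace Cfsg.Agent.SECoreTwoClosed

open Subgroup MulAction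
open Cfsg.Agent.Involutions
open Cfsg.Agent.SETwoClosed (cj mem_cj conj_mem_cj cj_cj card_cj isPGroup_cj IsSyl exists_isSyl
  exists_isSyl_ge exists_mem_normalizer mem_normalizer_of_cj ncard_fixed_modEq smul_mem_orbit)

universe u

variable {G : Type u} [Group G] [Finite G] {H W : Subgroup G}

theorem THyp.mem_Ux_smul (h : THyp H W) {g : G} {x : G ⧸ H} {e : G} :
    e ∈ Ux W (g • x) ↔ g⁻¹ * e * g ∈ Ux W x :=
  ⟨fun he => by simpa using h.conj_mem_Ux (g := g⁻¹) he,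
    fun he => by simpa [mul_assoc] using h.conj_mem_Ux (g := g) he⟩

theorem normalizer_ne_top [FaithfulSMul G (G ⧸ H)] {K : Subgroup G} {x : G ⧸ H}
    (hK : K ≤ stabilizer G x) (hK1 : K ≠ ⊥) : normalizer (K : Set G) ≠ ⊤ := by
  intro e
  refine hK1 (eq_bot_iff.2 fun k hk => mem_bot.2 (FaithfulSMul.eq_of_smul_eq_smul (α := G ⧸ H) fun z => ?_))
  obtain ⟨g, rfl⟩ := MulAction.exists_smul_eq G x z
  rw [one_smul]
  exact smul_fix_of_normalizer (g := g) (e ▸ mem_top g) hK hk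

variable {n p : ℕ} (hP : Par H W n p) {x y : G ⧸ H} (hxy : x ≠ y) {T : Subgroup G}
  (hT : IsSyl p T (Dp x y))
  (hmax : ∀ x' y' : G ⧸ H, x' ≠ y' → ∀ T' : Subgroup G, IsSyl p T' (Dp x' y') → Nat.card ↥T' ≤ Nat.card ↥T)
include hP hxy hT hmax

theorem Par.max_isSyl {a b : G ⧸ H} (hab : a ≠ b) (ha : T ≤ stabilizer G a) (hb : T ≤ stabilizer G b) :
    IsSyl p T (Dp a b) := by
  haveI := hP.fact
  obtain ⟨R, hTR, hR⟩ := exists_isSyl_ge hT.2.1 (le_inf ha hb)
  rwa [eq_of_le_of_card_ge hTR (hmax a b hab R hR)]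

theorem Par.max_not_le {z : G ⧸ H} (hz : T ≤ stabilizer G z) : ¬ T ≤ Ux W z := by
  by_cases hzx : z = x
  · rw [hzx]; exact hP.not_le_Ux hxy hT
  · exact hP.not_le_Ux hzx (hP.max_isSyl hxy hT hmax hzx hz (hT.1.trans inf_le_left))

/-- No involution normalizing `T` fixes a fixed point. -/
theorem Par.max_no_fix {t : G} (htn : t ∈ normalizer (T : Set G)) (ht : orderOf t = 2) {z : G ⧸ H}
    (hz : T ≤ stabilizer G z) : t • z ≠ z := fun htz =>
  hP.max_not_le hxy hT hmax hz (hP.le_Ux_of_inv hT.2.1 hz ht htn htz)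

theorem Par.max_rankOne : SECore.RankOne (normalizer (T : Set G)) := by
  intro a ha b hb ha2 hb2 hab
  by_contra hne
  obtain ⟨f, hf⟩ := hP.hyp.exists_fixed (H := H) ha2
  exact hP.max_no_fix hxy hT hmax ha ha2
    (hP.hyp.le_stab_of_four (hP.odd_card hT.2.1) ha hb ha2 hb2 hab hne hf) hf

theorem Par.max_fix {z : G ⧸ H} (hz : T ≤ stabilizer G z) : z = x ∨ z = y := by
  by_contra hcon
  push Not at hcon
  have hTx : T ≤ stabilizer G x := hT.1.trans inf_le_left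
  have hTy : T ≤ stabilizer G y := hT.1.trans inf_le_right
  refine hcon.1 ((hP.max_rankOne hxy hT hmax).no_triangle {a : G ⧸ H | T ≤ stabilizer G a}
    (fun a ha t htn ht => hP.max_no_fix hxy hT hmax htn ht ha)
    (fun a ha b hb hab => ?_) hz hTy hTx hcon.2 hxy.symm)
  obtain ⟨u, hu, hua, -, huT⟩ := hP.exists_swap_syl hab (hP.max_isSyl hxy hT hmax hab ha hb)
  exact ⟨u, mem_normalizer_of_cj huT, hu, hua⟩

theorem Par.max_sylow {Q : Subgroup G} (hQ : IsPGroup p ↥Q) : Nat.card ↥Q ≤ Nat.card ↥T := by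
  haveI := hP.fact
  refine IsSyl.card_le (D := ⊤) ⟨le_top, hT.2.1, fun P hle _ hPp => ?_⟩ hQ le_top
  by_contra hne
  obtain ⟨g, hg, hgT, hgn⟩ := exists_mem_normalizer hPp (lt_of_le_of_ne hle (Ne.symm hne))
  have hfix : g • x = x ∧ g • y = y := by
    have h1 := hP.max_fix hxy hT hmax (smul_fix_of_normalizer hgn (hT.1.trans inf_le_left))
    have h2 := hP.max_fix hxy hT hmax (smul_fix_of_normalizer hgn (hT.1.trans inf_le_right))
    rcases h1 with h1 | h1
    · refine ⟨h1, h2.resolve_left fun h2 => hxy ?_⟩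
      exact (MulAction.injective g) (h1.trans h2.symm)
    · exfalso
      have h2' : g • y = x := h2.resolve_right fun h2 => hxy (MulAction.injective g (h1.trans h2.symm))
      obtain ⟨k, hk⟩ := hP.odd_card (hPp.to_le (zpowers_le.2 hg))
      rw [Nat.card_zpowers] at hk
      have h3 : g ^ 2 ∈ stabilizer G x := by rw [mem_stabilizer_iff, pow_two, mul_smul, h1, h2']
      have h4 : g ^ (2 * (k + 1)) = g := by
        rw [show 2 * (k + 1) = orderOf g + 1 by omega, pow_succ, pow_orderOf_eq_one, one_mul]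
      have h5 : g • x = x := by
        rw [← h4, pow_mul]
        exact mem_stabilizer_iff.1 (pow_mem h3 _)
      exact hxy (h5.symm.trans h1)
  exact hgT (hT.2.2 (T ⊔ zpowers g) le_sup_left
    (sup_le hT.1 (zpowers_le.2 (mem_inf.2 hfix))) (hPp.to_le (sup_le hle (zpowers_le.2 hg))) ▸
      mem_sup_right (mem_zpowers g))

theorem Par.max_conj {a b : G ⧸ H} (hab : a ≠ b) {S : Subgroup G} (hS : IsSyl p S (Dp a b))
    (hcard : Nat.card ↥T ≤ Nat.card ↥S) :
    ∃ g : G, cj g T = S ∧ g • x = a ∧ g • y = b := by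
  haveI := hP.fact
  have hTG : IsSyl p T ⊤ := ⟨le_top, hT.2.1, fun P hle _ hPp =>
    (eq_of_le_of_card_ge hle (hP.max_sylow hxy hT hmax hPp)).symm⟩
  obtain ⟨g, -, hg⟩ := hTG.conj (hTG.of_card hS.2.1 le_top hcard)
  have hS' : ∀ c : G ⧸ H, S ≤ stabilizer G c → g⁻¹ • c = x ∨ g⁻¹ • c = y := fun c hc => by
    refine hP.max_fix hxy hT hmax fun t ht => ?_
    have := stab_conj (g := g⁻¹) (hc (hg ▸ conj_mem_cj ht))
    rwa [show g⁻¹ * (g * t * g⁻¹) * g⁻¹⁻¹ = t by group] at this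
  obtain ⟨u, hu, hux, huy, huT⟩ := hP.exists_swap_syl hxy hT
  rcases hS' a (hS.1.trans inf_le_left) with h1 | h1 <;> rcases hS' b (hS.1.trans inf_le_right) with h2 | h2
  · exact absurd (MulAction.injective g⁻¹ (h1.trans h2.symm)) hab
  · exact ⟨g, hg, by rw [← h1, smul_inv_smul], by rw [← h2, smul_inv_smul]⟩
  · refine ⟨g * u, by rw [← cj_cj, huT, hg], ?_, ?_⟩
    · rw [mul_smul, hux, ← h1, smul_inv_smul]
    · rw [mul_smul, huy, ← h2, smul_inv_smul]
  · exact absurd (MulAction.injective g⁻¹ (h1.trans h2.symm)) hab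

/-- Without absorption the normalizer of `Z(J(T))` covers the stabilizer modulo the kernel. -/
theorem Par.max_cover [FaithfulSMul G (G ⧸ H)] (hA : ¬ Absorb p x) :
    ∃ X : Subgroup G, X ≠ ⊤ ∧ T ≤ X ∧ (∀ g ∈ stabilizer G x, ∃ k ∈ Kx W x, ∃ m ∈ X, k * m = g) ∧
      ∃ u ∈ X, orderOf u = 2 ∧ u • x = y ∧ u • y = x := by
  haveI := hP.fact
  have h := hP.hyp
  have hTne : T ≠ ⊥ := fun e => hP.not_le_Ux hxy hT (e ▸ bot_le)
  have hTx : T ≤ stabilizer G x := hT.1.trans inf_le_left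
  have hTS : IsSyl p T (stabilizer G x) := ⟨hTx, hT.2.1, fun Q hle _ hQ =>
    (eq_of_le_of_card_ge hle (hP.max_sylow hxy hT hmax hQ)).symm⟩
  obtain ⟨u, hu, hux, huy, huT⟩ := hP.exists_swap_syl hxy hT
  refine ⟨normalizer (Cfsg.centerThompsonOf p T : Set G),
    normalizer_ne_top ((zj_le T).trans hTx) (zj_ne_bot hT.2.1 hTne), le_normalizer.trans (normalizer_le_zj T),
    fun g hg => ?_, u, normalizer_le_zj T (mem_normalizer_of_cj huT), hu, hux, huy⟩
  obtain ⟨o, ho, m, hm, hom⟩ := zj_cover hP.five_le (h.isSolvable_stab x) hTS hg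
  exact ⟨o, h.pPrimeCore_le hA ho, m, (mem_inf.1 hm).2, hom⟩

/-- Without absorption the two kernels meet `T` in the same subgroup. -/
theorem Par.max_Kx [FaithfulSMul G (G ⧸ H)] (IH : IndHyp G) (hA : ¬ Absorb p x) :
    T ⊓ Kx W x = T ⊓ Kx W y := by
  have h := hP.hyp
  obtain ⟨X, hX, hTX, hcov, u, huX, hu, hux, -⟩ := hP.max_cover hxy hT hmax hA
  have hmov : ∃ g ∈ X, g • x ≠ x := ⟨u, huX, by rw [hux]; exact hxy.symm⟩
  have h1 := h.slice_cover IH hX hmov hcov (one_mem X)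
  have h2 := h.slice_cover IH hX hmov hcov huX
  rw [one_smul] at h1
  rw [hux, ← h1] at h2
  rw [← inf_eq_left.2 hTX, inf_assoc, inf_assoc, h2]

/-- The two groups `Ux W` meet `T` in the same subgroup. -/
theorem Par.max_U [FaithfulSMul G (G ⧸ H)] (IH : IndHyp G) : T ⊓ Ux W x = T ⊓ Ux W y := by
  classical
  haveI := hP.fact
  have h := hP.hyp
  by_cases hA : Absorb p x
  swap
  · obtain ⟨X, hX, hTX, hcov, u, huX, hu, hux, huy⟩ := hP.max_cover hxy hT hmax hA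
    haveI : (Cfsg.oddCore ↥X).Normal := PLocal.Cores.pPrimeCore_normal'
    have hmov : ∃ g ∈ X, g • x ≠ x := ⟨u, huX, by rw [hux]; exact hxy.symm⟩
    have hfull : Covers W X x := fun t ht htx => h.cover_full hcov ht htx
    have hyo : y ∈ orbit ↥X x := ⟨⟨u, huX⟩, hux⟩
    refine le_antisymm (fun e he => ?_) fun e he => ?_ <;> obtain ⟨heT, heU⟩ := mem_inf.1 he
    · exact mem_inf.2 ⟨heT, (h.slice_U IH hX hmov hfull (mem_orbit_self x) hyo hxy (hTX heT) heU
        (mem_inf.1 (hT.1 heT)).2).1⟩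
    · exact mem_inf.2 ⟨heT, (h.slice_U IH hX hmov hfull hyo (mem_orbit_self x) hxy.symm (hTX heT) heU
        (mem_inf.1 (hT.1 heT)).1).1⟩
  -- every involution centralizes a Sylow subgroup of a kernel
  obtain ⟨u, hu, hux, huy⟩ := h.exists_swap hxy
  obtain ⟨R, hR, huR, -, hRcard⟩ := hP.exists_invariant_syl hxy hu hux IsPGroup.of_bot bot_le
  obtain ⟨e, he, heT⟩ := hR.conj hT
  suffices hmain : R ⊓ Ux W x = R ⊓ Ux W y by
    have key : ∀ z : G ⧸ H, e • z = z → T ⊓ Ux W z = cj e (R ⊓ Ux W z) := by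
      intro z hz
      ext g
      rw [mem_cj, mem_inf, mem_inf, ← mem_cj (R := R), heT]
      refine and_congr_right fun _ => ⟨fun hg => ?_, fun hg => ?_⟩
      · simpa using h.Ux_normal (g := e⁻¹) (inv_smul_eq_iff.2 hz.symm) hg
      · simpa [mul_assoc] using h.Ux_normal hz hg
    rw [key x (mem_inf.1 he).1, key y (mem_inf.1 he).2, hmain]
  have hRT : Nat.card ↥R = Nat.card ↥T := by rw [← heT, card_cj]
  have hRmax : ∀ a b : G ⧸ H, a ≠ b → ∀ S0 : Subgroup G, IsSyl p S0 (Dp a b) →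
      Nat.card ↥S0 ≤ Nat.card ↥R := fun a b hab S0 hS0 => hRT ▸ hmax a b hab S0 hS0
  set Z := centralizer ({u} : Set G) ⊓ R with hZdef
  have hZu : ∀ z ∈ Z, Commute z u := fun z hz => mem_centralizer_singleton_iff.1 (mem_inf.1 hz).1
  obtain ⟨f, huf⟩ := h.exists_fixed (H := H) hu
  have hAf : Absorb p f := by
    obtain ⟨g, rfl⟩ := MulAction.exists_smul_eq G x f
    exact hA.smul g
  have hnum : p ^ (numInv H).factorization p = pPart n p := by
    rw [hP.numInv_eq hu huf, Nat.factorization_mul hP.sub_one_ne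
      ((Set.ncard_pos (Set.toFinite _)).2 (⟨u, hu, huf, by simp⟩ : (Sig W f u).Nonempty)).ne']
    rw [Finsupp.add_apply, Nat.factorization_eq_zero_of_not_dvd (hP.not_dvd_Sig hAf hu huf), add_zero]
    rfl
  rw [hnum] at hRcard
  have hpos := hP.one_lt_pPart
  by_cases hZ : Z = ⊥
  · rw [hZ, card_bot, mul_one] at hRcard
    have key : ∀ z : G ⧸ H, Nat.card ↥R = pPart n p * Nat.card ↥(R ⊓ Ux W z) → R ⊓ Ux W z = ⊥ := fun z hz => by
      rw [← card_eq_one]
      rw [hRcard] at hz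
      exact Nat.eq_of_mul_eq_mul_left (by omega : 0 < pPart n p) (by omega)
    rw [key x (hP.card_syl hxy hR), key y (hP.card_syl' hxy hR)]
  have hZf : ∀ z ∈ Z, z • f = f := fun z hz => h.smul_of_commute hu huf (hZu z hz)
  have hZK : Z ≤ Ux W f := fun z hz => hP.mem_Ux_of_fixes hR.2.1 (mem_inf.1 hz).2 (hZf z hz) hu huf (by
    rw [(hZu z hz).eq, mul_inv_cancel_right, mul_inv_cancel]; exact one_mem _)
  obtain ⟨N, hNle, hNn, hNp, hN⟩ := hAf
  have hRf : ∀ r ∈ R, r • f = f → r ∈ Z := fun r hr hrf => by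
    refine mem_inf.2 ⟨mem_centralizer_singleton_iff.2 ?_, hr⟩
    have h1 : r * u * r⁻¹ * u⁻¹ ∈ R ⊓ N := by
      refine mem_inf.2 ⟨?_, mul_mem ((mem_normalizer_iff.1 (hNn (mem_stabilizer_iff.2 hrf)) u).1 (hN u hu huf))
        (inv_mem (hN u hu huf))⟩
      rw [show r * u * r⁻¹ * u⁻¹ = r * (u * r⁻¹ * u⁻¹) by group]
      exact mul_mem hr ((mem_normalizer_iff.1 (mem_normalizer_of_cj huR) r⁻¹).1 (inv_mem hr))
    have h2 : R ⊓ N = ⊥ := PLocal.Cores.inf_eq_bot_of_isPGroup_of_coprime hR.2.1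
      ((Nat.Prime.coprime_iff_not_dvd hP.prime).2 hNp).symm
    rw [h2, mem_bot] at h1
    calc r * u = (r * u * r⁻¹ * u⁻¹) * (u * r) := by group
      _ = u * r := by rw [h1, one_mul]
  obtain ⟨g0, hg0R, hg0Z, hg0n⟩ := exists_mem_normalizer hR.2.1 (lt_of_le_of_ne inf_le_right
    fun e' => hP.swap_not_cent hxy hR hu hux (e' ▸ (inf_le_left : Z ≤ _)))
  set X := normalizer (Z : Set G)
  have hXne : X ≠ ⊤ := normalizer_ne_top (fun z hz => hZf z hz) hZ
  have hfull : ∀ t : G, orderOf t = 2 → t • f = f →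
      ∃ s ∈ X, orderOf s = 2 ∧ s • f = f ∧ s⁻¹ * t ∈ Kx W f := fun t ht htf => by
    obtain ⟨s, hs, hsf, hst, hsZ⟩ :=
      hP.exists_fixed_lift ⟨N, hNle, hNn, hNp, hN⟩ (hR.2.1.to_le inf_le_right) hZK ht htf
    exact ⟨s, SETwoClosed.centralizer_le_normalizer Z hsZ, hs, hsf, hst⟩
  have hmov : ∃ g ∈ X, g • f ≠ f := ⟨g0, hg0n, fun e' => hg0Z (hRf g0 hg0R e')⟩
  set Q := R ⊓ X
  obtain ⟨d, hd, hdQ⟩ : ∃ d ∈ orbit ↥X f, ∀ q ∈ Q, q • d = d := by
    have h1 := ncard_fixed_modEq (S := orbit ↥X f) (hR.2.1.to_le (inf_le_left : Q ≤ R))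
      fun q hq z hz => smul_mem_orbit (mem_inf.1 hq).2 hz
    have h2 := h1.symm.trans (@THyp.orbit_modEq _ _ _ _ _ h IH X hXne f hmov hfull n p hP)
    by_contra hcon
    have he : {z ∈ orbit ↥X f | ∀ q ∈ Q, q • z = z} = ∅ :=
      Set.eq_empty_of_forall_notMem fun z hz => hcon ⟨z, hz.1, hz.2⟩
    rw [he, Set.ncard_empty] at h2
    have h3 : p ∣ 2 := Nat.modEq_zero_iff_dvd.1 h2.symm
    exact hP.p_ne_two ((Nat.prime_dvd_prime_iff_eq hP.prime Nat.prime_two).1 h3)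
  have hdf : d ≠ f := fun e' => hg0Z (hRf g0 hg0R (e' ▸ hdQ g0 (mem_inf.2 ⟨hg0R, hg0n⟩)))
  have huX : u ∈ X := SETwoClosed.centralizer_le_normalizer Z
    (mem_centralizer_iff.2 fun z hz => (hZu z hz).eq)
  have hd' : u • d ∈ orbit ↥X f := smul_mem_orbit huX hd
  have hdd' : d ≠ u • d := fun e' => hdf (h.eq_of_fixed hu e'.symm huf)
  have hdQ' : ∀ q ∈ Q, q • (u • d) = u • d := by
    intro q hq
    have h1 : u * q * u⁻¹ ∈ Q := mem_inf.2 ⟨huR ▸ conj_mem_cj (mem_inf.1 hq).1,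
      mul_mem (mul_mem huX (mem_inf.1 hq).2) (inv_mem huX)⟩
    have h2 := hdQ _ h1
    rw [mul_smul, mul_smul, Basic.inv_eq hu] at h2
    refine MulAction.injective u ?_
    show u • q • u • d = u • u • d
    rw [h2, smul_smul, Basic.inv_sq_one hu, one_smul]
  have hZd : ∀ c ∈ orbit ↥X f, Z ≤ Ux W c := by
    rintro _ ⟨g, rfl⟩ z hz
    have h1 : (g : G)⁻¹ * z * g ∈ Z := by
      simpa using (mem_normalizer_iff.1 (inv_mem g.2) z).1 hz
    exact h.mem_Ux_smul.2 (hZK h1)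
  obtain ⟨S, hQS, hS'⟩ := exists_isSyl_ge (p := p) (hR.2.1.to_le (inf_le_left : Q ≤ R))
    (show Q ≤ Dp d (u • d) from fun q hq => mem_inf.2 ⟨hdQ q hq, hdQ' q hq⟩)
  have hZS : Z ≤ S := (le_inf inf_le_right le_normalizer).trans hQS
  have hle1 : Z ≤ S ⊓ Ux W d := le_inf hZS (hZd d hd)
  have hle2 : Z ≤ S ⊓ Ux W (u • d) := le_inf hZS (hZd _ hd')
  have hc1 := hP.card_syl hdd' hS'
  have hc2 := hP.card_syl' hdd' hS'
  have hmx := hmax _ _ hdd' S hS'
  rw [← hRT, hRcard] at hmx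
  have e1 : S ⊓ Ux W d = Z := (eq_of_le_of_card_ge hle1 (by
    rw [hc1] at hmx; exact Nat.le_of_mul_le_mul_left hmx (by omega))).symm
  have e2 : S ⊓ Ux W (u • d) = Z := (eq_of_le_of_card_ge hle2 (by
    rw [hc2] at hmx; exact Nat.le_of_mul_le_mul_left hmx (by omega))).symm
  have hcardS : Nat.card ↥R ≤ Nat.card ↥S := by rw [hRcard, hc1, e1]
  obtain ⟨g, hg, hgx, hgy⟩ := hP.max_conj hxy hR hRmax hdd' hS' hcardS
  have key : ∀ z : G ⧸ H, R ⊓ Ux W z = cj g⁻¹ (S ⊓ Ux W (g • z)) := by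
    intro z
    ext r
    rw [mem_cj, inv_inv, mem_inf, mem_inf, ← hg, mem_cj,
      show g⁻¹ * (g * r * g⁻¹) * g = r by group]
    refine and_congr_right fun _ => ⟨fun hr => h.conj_mem_Ux hr, fun hr => ?_⟩
    rw [h.mem_Ux_smul, show g⁻¹ * (g * r * g⁻¹) * g = r by group] at hr
    exact hr
  rw [key x, key y, hgx, hgy, e1, e2]

end Cfsg.Agent.SECoreTwoClosed
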