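import Cfsg.Agent.Lib.SECoreTwoClosed.Core.ZJ
import Cfsg.Agent.Lib.SECoreTwoClosed.Core.Orbit

/-!
# The core lemma: `p`-subgroups of two-point stabilizers, and the involutions congruent to one

`Sig W x t` is the set of involutions at `x` congruent to `t`; `Absorb W p x` says that a normal subgroup of
order prime to `p` of the stabilizer of `x` contains the involutions at `x`.
-/

set_option autoImplicit false
set_option linter.style.haveILetI false
set_option linter.unusedSectionVars false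

namespace Cfsg.Agent.SECoreTwoClosed

open Subgroup MulAction
open Cfsg.Agent.Involutions
open Cfsg.Agent.SETwoClosed (cj mem_cj conj_mem_cj cj_cj card_cj cj_eq_self isPGroup_cj IsSyl exists_isSyl
  exists_isSyl_ge exists_invariant_isSyl mem_normalizer_of_cj ncard_fixed_modEq centralizer_le_normalizer)

universe u

variable {G : Type u} [Group G] {H W : Subgroup G}

/-- The involutions at `x` congruent to `t`. -/
def Sig (W : Subgroup G) (x : G ⧸ H) (t : G) : Set G :=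
  {s : G | orderOf s = 2 ∧ s • x = x ∧ t⁻¹ * s ∈ Kx W x}

/-- A normal `p'`-subgroup of the stabilizer contains the involutions. -/
def Absorb (p : ℕ) (x : G ⧸ H) : Prop :=
  ∃ N : Subgroup G, N ≤ stabilizer G x ∧ stabilizer G x ≤ normalizer (N : Set G) ∧ ¬ p ∣ Nat.card ↥N ∧
    ∀ t : G, orderOf t = 2 → t • x = x → t ∈ N

variable [Finite G]

theorem THyp.exists_other (h : THyp H W) (x : G ⧸ H) : ∃ y : G ⧸ H, x ≠ y := h.exists_ne_point x

theorem Absorb.smul {p : ℕ} {x : G ⧸ H} (hA : Absorb p x) (g : G) : Absorb p (g • x) := by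
  obtain ⟨N, hNle, hNn, hNp, hN⟩ := hA
  refine ⟨cj g N, ?_, fun m hm => mem_normalizer_fintype fun e he => ?_, by rwa [card_cj],
    fun t ht htx => ?_⟩
  · rintro _ ⟨e, he, rfl⟩
    exact stab_conj (hNle he)
  · rw [SetLike.mem_coe, mem_cj] at he ⊢
    have hm' : g⁻¹ * m * g ∈ stabilizer G x := by
      rw [mem_stabilizer_iff, mul_smul, mul_smul, mem_stabilizer_iff.1 hm, inv_smul_smul]
    rw [show g⁻¹ * (m * e * m⁻¹) * g = (g⁻¹ * m * g) * (g⁻¹ * e * g) * (g⁻¹ * m * g)⁻¹ by group]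
    exact (mem_normalizer_iff.1 (hNn hm') _).1 he
  · rw [mem_cj]
    exact hN _ (by rw [show g⁻¹ * t * g = g⁻¹ * t * g⁻¹⁻¹ by rw [inv_inv], Basic.orderOf_conj, ht])
      (by rw [mul_smul, mul_smul, htx, inv_smul_smul])

/-- Without absorption the `p'`-core of the stabilizer lies in the kernel. -/
theorem THyp.pPrimeCore_le (h : THyp H W) {p : ℕ} [hp : Fact p.Prime] {x : G ⧸ H} (hA : ¬ Absorb p x) :
    (Cfsg.pPrimeCore p ↥(stabilizer G x)).map (stabilizer G x).subtype ≤ Kx W x := by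
  set S := stabilizer G x
  haveI : (Cfsg.pPrimeCore p ↥S).Normal := PLocal.Cores.pPrimeCore_normal'
  set N := (Cfsg.pPrimeCore p ↥S).map S.subtype with hN
  have hle : N ≤ S := map_subtype_le _
  have hn : S ≤ normalizer (N : Set G) := fun m hm => mem_normalizer_fintype fun e he => by
    obtain ⟨e', he', rfl⟩ := he
    exact ⟨_, PLocal.Cores.pPrimeCore_normal'.conj_mem e' he' ⟨m, hm⟩, rfl⟩
  refine h.oddNormal_le hle ?_ hn
  by_contra hodd
  rw [Nat.not_odd_iff_even] at hodd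
  obtain ⟨t, ht, ht2⟩ := StronglyEmbedded.exists_involution_mem hodd
  refine hA ⟨N, hle, hn, ?_, fun s hs hsx => ?_⟩
  · rw [hN, card_map_of_injective S.subtype_injective]
    exact PLocal.Cores.not_dvd_card_pPrimeCore hp.out.ne_one
  · obtain ⟨y, hxy⟩ := h.exists_other x
    obtain ⟨d, hd, hde⟩ := h.exists_conj_D hxy ht2 (mem_stabilizer_iff.1 (hle ht)) hs hsx
    rw [← hde]
    exact (mem_normalizer_iff.1 (hn (mem_inf.1 hd).1) t).1 ht

variable {n p : ℕ} (hP : Par H W n p)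
include hP

theorem Par.fact : Fact p.Prime := ⟨hP.prime⟩

theorem Par.three_le : 3 ≤ n := by
  have h1 := hP.hyp.eight_le_index (base H)
  rw [hP.card_E] at h1
  by_contra h2
  have : 2 ^ n ≤ 2 ^ 2 := Nat.pow_le_pow_right two_pos (by omega)
  omega

theorem Par.p_ne_two : p ≠ 2 := by
  rintro rfl
  have h1 : 2 ∣ 2 ^ n := dvd_pow_self 2 (by have := hP.two_le; omega)
  have h2 := hP.dvd
  have : 2 ^ n - 1 ≠ 0 := by
    have := Nat.one_lt_two_pow (show n ≠ 0 by have := hP.two_le; omega)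
    omega
  omega

theorem Par.five_le : 5 ≤ p := by
  have h1 := hP.three_le
  have h2 := hP.p_ne_two
  have h3 : p ≠ 3 := fun e => by have := hP.three e; omega
  have h4 := hP.prime.two_le
  have h5 : p ≠ 4 := fun e => absurd (e ▸ hP.prime) (by decide)
  omega

theorem Par.sub_one_ne : 2 ^ n - 1 ≠ 0 := by
  have := Nat.one_lt_two_pow (show n ≠ 0 by have := hP.two_le; omega)
  omega

theorem Par.one_lt_pPart : 1 < pPart n p :=
  Nat.one_lt_pow (hP.prime.factorization_pos_of_dvd hP.sub_one_ne hP.dvd).ne' hP.prime.one_lt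

theorem Par.odd_card {R : Subgroup G} (hR : IsPGroup p ↥R) : Odd (Nat.card ↥R) := by
  haveI := hP.fact
  obtain ⟨k, hk⟩ := IsPGroup.iff_card.1 hR
  rw [hk]
  exact (hP.prime.odd_of_ne_two hP.p_ne_two).pow

theorem Par.exists_pow {R : Subgroup G} (hR : IsPGroup p ↥R) {r : G} (hr : r ∈ R) (x : G ⧸ H) :
    ∃ k : ℕ, r ^ p ^ k ∈ Ux W x := by
  obtain ⟨k, hk⟩ := hR ⟨r, hr⟩
  refine ⟨k, ?_⟩
  rw [show r ^ p ^ k = 1 from congrArg Subtype.val hk]
  exact one_mem _

/-- A `p`-element fixing the class of an involution lies in `Ux W`. -/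
theorem Par.mem_Ux_of_fixes {R : Subgroup G} (hR : IsPGroup p ↥R) {r : G} (hr : r ∈ R) {x : G ⧸ H}
    (hrx : r • x = x) {t : G} (ht : orderOf t = 2) (htx : t • x = x)
    (hc : r * t * r⁻¹ * t⁻¹ ∈ Kx W x) : r ∈ Ux W x := by
  have h := hP.hyp
  by_contra hrU
  exact h.inv_notMem_Kx ht (hP.fpf x r hrx (hP.exists_pow hR hr x) hrU t (h.mem_Ex_of_inv ht htx) hc)

/-- A `p`-subgroup fixing a point and normalized by an involution fixing it lies in `Ux W`. -/
theorem Par.le_Ux_of_inv {R : Subgroup G} (hR : IsPGroup p ↥R) {x : G ⧸ H} (hRx : R ≤ stabilizer G x)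
    {t : G} (ht : orderOf t = 2) (htn : t ∈ normalizer (R : Set G)) (htx : t • x = x) :
    R ≤ Ux W x := by
  intro r hr
  have h := hP.hyp
  refine hP.mem_Ux_of_fixes hR hr (hRx hr) ht htx ?_
  have htT := h.mem_Tx_of_inv (Basic.inv_sq_one ht) htx
  refine h.odd_mem_Kx (mul_mem (h.Tx_normal (hRx hr) htT) (inv_mem htT)) ?_
  refine SECore.odd_orderOf_of_mem (hP.odd_card hR) ?_
  rw [show r * t * r⁻¹ * t⁻¹ = r * (t * r⁻¹ * t⁻¹) by group]
  exact mul_mem hr ((mem_normalizer_iff.1 htn r⁻¹).1 (inv_mem hr))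

omit hP in
/-- A subgroup of odd order normalized by a four group fixes its point. -/
theorem THyp.le_stab_of_four (h : THyp H W) {R : Subgroup G} (hR : Odd (Nat.card ↥R)) {a b : G}
    (ha : a ∈ normalizer (R : Set G)) (hb : b ∈ normalizer (R : Set G)) (ha2 : orderOf a = 2)
    (hb2 : orderOf b = 2) (hab : Commute a b) (hne : a ≠ b) {x : G ⧸ H} (hax : a • x = x) :
    R ≤ stabilizer G x := by
  have hbx : b • x = x := h.smul_of_commute ha2 hax hab.symm
  refine SECore.le_of_four hR (Basic.inv_sq_one ha2) (Basic.inv_sq_one hb2) hab ha hb fun r _ hr => ?_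
  rcases hr with hr | hr | hr
  · exact h.smul_of_commute ha2 hax hr
  · exact h.smul_of_commute hb2 hbx hr
  · refine h.smul_of_commute (t := a * b) (Basic.orderOf_two_iff.2 ⟨?_, fun e => hne ?_⟩) ?_ hr
    · rw [show a * b * (a * b) = a * (b * a) * b by group, ← hab.eq,
        show a * (a * b) * b = (a * a) * (b * b) by group, Basic.inv_sq_one ha2, Basic.inv_sq_one hb2, one_mul]
    · rw [← Basic.inv_eq hb2]; exact eq_inv_of_mul_eq_one_left e
    · rw [mul_smul, hbx, hax]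

/-- A Sylow subgroup of a two-point stabilizer induces the full `p`-part. -/
theorem Par.card_syl {x y : G ⧸ H} (hxy : x ≠ y) {T : Subgroup G} (hT : IsSyl p T (Dp x y)) :
    Nat.card ↥T = pPart n p * Nat.card ↥(T ⊓ Ux W x) := by
  rw [← hP.index_sylow x y hxy T hT, ← inf_relIndex_right, inf_comm (Ux W x) T]
  rw [relIndex, ← Nat.card_congr (subgroupOfEquivOfLe (inf_le_left : T ⊓ Ux W x ≤ T)).toEquiv,
    mul_comm, card_mul_index]

theorem Par.card_syl' {x y : G ⧸ H} (hxy : x ≠ y) {T : Subgroup G} (hT : IsSyl p T (Dp x y)) :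
    Nat.card ↥T = pPart n p * Nat.card ↥(T ⊓ Ux W y) :=
  hP.card_syl hxy.symm (by rwa [Dp, inf_comm])

/-- A Sylow subgroup of a two-point stabilizer is not inside `Ux W`. -/
theorem Par.not_le_Ux {x y : G ⧸ H} (hxy : x ≠ y) {T : Subgroup G} (hT : IsSyl p T (Dp x y)) :
    ¬ T ≤ Ux W x := fun hle => by
  have h1 := hP.card_syl hxy hT
  rw [inf_eq_left.2 hle] at h1
  have h2 := hP.one_lt_pPart
  have h3 := Nat.card_pos (α := ↥T)
  nlinarith

theorem Par.exists_swap_syl {x y : G ⧸ H} (hxy : x ≠ y) {T : Subgroup G} (hT : IsSyl p T (Dp x y)) :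
    ∃ u : G, orderOf u = 2 ∧ u • x = y ∧ u • y = x ∧ cj u T = T := by
  haveI := hP.fact
  obtain ⟨u, hu, hux, huy⟩ := hP.hyp.exists_swap hxy
  obtain ⟨R, -, hR, huR⟩ := exists_invariant_isSyl (p := p) (hP.hyp.odd_D hxy) (Basic.inv_sq_one hu)
    (cj_Dp hu hux huy) IsPGroup.of_bot bot_le (map_bot _)
  obtain ⟨d, hd, hdT⟩ := hR.conj hT
  have hdx : d⁻¹ • x = x := mem_stabilizer_iff.1 (inv_mem (mem_inf.1 hd).1)
  have hdy : d⁻¹ • y = y := mem_stabilizer_iff.1 (inv_mem (mem_inf.1 hd).2)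
  refine ⟨d * u * d⁻¹, by rw [Basic.orderOf_conj, hu], ?_, ?_, ?_⟩
  · rw [mul_smul, mul_smul, hdx, hux]; exact (mem_inf.1 hd).2
  · rw [mul_smul, mul_smul, hdy, huy]; exact (mem_inf.1 hd).1
  · rw [← hdT, cj_cj, show d * u * d⁻¹ * d = d * u by group, ← cj_cj, huR]

/-- A `p`-subgroup centralized by a swapper lies in an invariant Sylow subgroup. -/
theorem Par.exists_invariant_syl {x y : G ⧸ H} (hxy : x ≠ y) {u : G} (hu : orderOf u = 2)
    (hux : u • x = y) {P : Subgroup G} (hPp : IsPGroup p ↥P)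
    (hPle : P ≤ centralizer ({u} : Set G) ⊓ Dp x y) :
    ∃ T : Subgroup G, IsSyl p T (Dp x y) ∧ cj u T = T ∧ P ≤ centralizer ({u} : Set G) ⊓ T ∧
      Nat.card ↥T =
        p ^ (numInv H).factorization p * Nat.card ↥(centralizer ({u} : Set G) ⊓ T : Subgroup G) := by
  haveI := hP.fact
  have huy : u • y = x := by rw [← hux, smul_smul, Basic.inv_sq_one hu, one_smul]
  obtain ⟨P0, hPP0, hP0⟩ := exists_isSyl_ge hPp hPle
  have huP0 : cj u P0 = P0 := cj_eq_self (SETwoClosed.centralizer_le_normalizer P0 (mem_centralizer_iff.2 fun r hr =>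
    mem_centralizer_singleton_iff.1 (mem_inf.1 (hP0.1 hr)).1))
  obtain ⟨T, hP0T, hT, huT⟩ := exists_invariant_isSyl (p := p) (hP.hyp.odd_D hxy) (Basic.inv_sq_one hu)
    (cj_Dp hu hux huy) hP0.2.1 (hP0.1.trans inf_le_right) huP0
  have hC : centralizer ({u} : Set G) ⊓ T = P0 := hP0.2.2 _ (le_inf (hP0.1.trans inf_le_left) hP0T)
    (inf_le_inf_left _ hT.1) (hT.2.1.to_le inf_le_right)
  refine ⟨T, hT, huT, hC.symm ▸ hPP0, ?_⟩
  rw [hC, hT.card_eq, hP0.card_eq, ← pow_add]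
  congr 1
  have hD := hP.hyp.card_D hxy hu hux
  have hne : numInv H ≠ 0 := fun e => by
    rw [e, zero_mul] at hD
    exact Nat.card_pos.ne' hD
  rw [hD, Nat.factorization_mul hne Nat.card_pos.ne']
  rfl

/-- The number of involutions of `H` is `2 ^ n - 1` times the number congruent to one of them. -/
theorem Par.numInv_eq {x : G ⧸ H} {t : G} (ht : orderOf t = 2) (htx : t • x = x) :
    numInv H = (2 ^ n - 1) * (Sig W x t).ncard := by
  classical
  have h := hP.hyp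
  obtain ⟨y, hxy⟩ := h.exists_other x
  set S := stabilizer G x
  haveI hKn : ((Kx W x).subgroupOf S).Normal := ⟨fun e he g => h.Kx_normal (mem_stabilizer_iff.1 g.2) he⟩
  set f := QuotientGroup.mk' ((Kx W x).subgroupOf S)
  set E := ((Ex W x).subgroupOf S).map f
  have hEcard : Nat.card ↥E = 2 ^ n := by
    rw [← hP.card_E x, ← relIndex_subgroupOf (H := Kx W x) (h.Ex_le x)]
    conv_rhs => rw [← QuotientGroup.ker_mk' ((Kx W x).subgroupOf S), relIndex_ker]
  -- the involutions at `x`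
  let I := {s : G // orderOf s = 2 ∧ s • x = x}
  have hI : numInv H = Nat.card I := by
    obtain ⟨g, hg⟩ := exists_smul_base x
    refine Nat.card_congr
      { toFun := fun s => ⟨g * s.1 * g⁻¹, by rw [Basic.orderOf_conj, s.2.1],
          hg ▸ conj_smul_fix (smul_base_iff.2 s.2.2)⟩
        invFun := fun s => ⟨g⁻¹ * s.1 * g, by
          rw [show g⁻¹ * s.1 * g = g⁻¹ * s.1 * g⁻¹⁻¹ by rw [inv_inv], Basic.orderOf_conj, s.2.1],
          smul_base_iff.1 (by rw [mul_smul, mul_smul, hg, s.2.2, ← hg, inv_smul_smul])⟩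
        left_inv := fun s => Subtype.ext (show g⁻¹ * (g * s.1 * g⁻¹) * g = s.1 by group)
        right_inv := fun s => Subtype.ext (show g * (g⁻¹ * s.1 * g) * g⁻¹ = s.1 by group) }
  have hmk : ∀ a b : ↥S, f a = f b ↔ (a : G)⁻¹ * b ∈ Kx W x := fun a b => QuotientGroup.eq
  let C := {c : ↥E // c ≠ 1}
  let F : I → C := fun s => ⟨⟨f ⟨s.1, s.2.2⟩, ⟨s.1, s.2.2⟩, h.mem_Ex_of_inv s.2.1 s.2.2, rfl⟩, fun e =>
    h.inv_notMem_Kx s.2.1 ((QuotientGroup.eq_one_iff (⟨s.1, s.2.2⟩ : ↥S)).1 (congrArg Subtype.val e))⟩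
  have hfib : ∀ c : C, Nat.card {s : I // F s = c} = (Sig W x t).ncard := by
    rintro ⟨⟨_, e, he, rfl⟩, hc⟩
    have heK : (e : G) ∉ Kx W x := fun e' => hc (Subtype.ext ((QuotientGroup.eq_one_iff e).2 e'))
    obtain ⟨d, hd, hde⟩ := h.exists_conj_class hxy (h.mem_Ex_of_inv ht htx) (h.inv_notMem_Kx ht) he heK
    have hdx : d • x = x := (mem_inf.1 hd).1
    rw [Subgroup.coe_subtype] at hde
    rw [← Nat.card_coe_set_eq]
    refine Nat.card_congr
      { toFun := fun s => ⟨d⁻¹ * s.1.1 * d, by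
            rw [show d⁻¹ * s.1.1 * d = d⁻¹ * s.1.1 * d⁻¹⁻¹ by rw [inv_inv], Basic.orderOf_conj, s.1.2.1],
          by rw [mul_smul, mul_smul, hdx, s.1.2.2, inv_smul_eq_iff, hdx], ?_⟩
        invFun := fun s => ⟨⟨d * s.1 * d⁻¹, by rw [Basic.orderOf_conj, s.2.1],
          by rw [mul_smul, mul_smul, inv_smul_eq_iff.2 hdx.symm, s.2.2.1, hdx]⟩, Subtype.ext (Subtype.ext ?_)⟩
        left_inv := fun s => Subtype.ext (Subtype.ext (show d * (d⁻¹ * s.1.1 * d) * d⁻¹ = s.1.1 by group))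
        right_inv := fun s => Subtype.ext (show d⁻¹ * (d * s.1 * d⁻¹) * d = s.1 by group) }
    · have h1 : (s.1.1)⁻¹ * e ∈ Kx W x := (hmk ⟨s.1.1, s.1.2.2⟩ e).1 (congrArg (fun c : C => (c.1 : ↥S ⧸ (Kx W x).subgroupOf S)) s.2)
      have h2 := mul_mem (inv_mem hde) (inv_mem h1)
      rw [show ((e : G)⁻¹ * (d * t * d⁻¹))⁻¹ * (s.1.1⁻¹ * (e : G))⁻¹ = d * (t⁻¹ * (d⁻¹ * s.1.1 * d)) * d⁻¹ by group] at h2
      have h3 := h.Kx_normal (g := d⁻¹) (by rw [inv_smul_eq_iff, hdx]) h2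
      rwa [show d⁻¹ * (d * (t⁻¹ * (d⁻¹ * s.1.1 * d)) * d⁻¹) * d⁻¹⁻¹ = t⁻¹ * (d⁻¹ * s.1.1 * d) by group] at h3
    · show f ⟨d * s.1 * d⁻¹, _⟩ = f e
      refine ((hmk e ⟨d * s.1 * d⁻¹, _⟩).2 ?_).symm
      show (e : G)⁻¹ * (d * s.1 * d⁻¹) ∈ Kx W x
      rw [show (e : G)⁻¹ * (d * s.1 * d⁻¹) = ((e : G)⁻¹ * (d * t * d⁻¹)) * (d * (t⁻¹ * s.1) * d⁻¹) by group]
      exact mul_mem hde (h.Kx_normal hdx s.2.2.2)
  have : Fintype C := Fintype.ofFinite _
  rw [hI, ← Nat.card_congr (Equiv.sigmaFiberEquiv F), Nat.card_sigma]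
  simp only [hfib, Finset.sum_const, smul_eq_mul, Finset.card_univ]
  congr 1
  rw [← Nat.card_eq_fintype_card, ← hEcard]
  show Nat.card {c : ↥E // c ≠ 1} = _
  have h1 : ({(1 : ↥E)}ᶜ : Set ↥E).ncard = Nat.card ↥E - 1 := by
    rw [Set.ncard_compl, Set.ncard_singleton]
  rw [← Nat.card_coe_set_eq] at h1
  exact h1

theorem Par.pPart_dvd_numInv : pPart n p ∣ numInv H := by
  obtain ⟨t, ht, htx⟩ := hP.hyp.exists_inv_at (base H)
  rw [hP.numInv_eq ht htx]
  exact Dvd.dvd.mul_right (Nat.ordProj_dvd _ _) _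

theorem Par.numInv_pos : numInv H ≠ 0 := by
  obtain ⟨t, ht, htx⟩ := hP.hyp.exists_inv_at (base H)
  rw [hP.numInv_eq ht htx]
  refine mul_ne_zero hP.sub_one_ne ?_
  exact ((Set.ncard_pos (Set.toFinite _)).2 (⟨t, ht, htx, by simp⟩ : (Sig W (base H) t).Nonempty)).ne'

/-- A Sylow subgroup of a two-point stabilizer is not centralized by a swapper. -/
theorem Par.swap_not_cent {x y : G ⧸ H} (hxy : x ≠ y) {T : Subgroup G} (hT : IsSyl p T (Dp x y)) {u : G}
    (hu : orderOf u = 2) (hux : u • x = y) : ¬ T ≤ centralizer ({u} : Set G) := by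
  haveI := hP.fact
  intro hle
  obtain ⟨T', hT', -, hTle, hcard⟩ := hP.exists_invariant_syl hxy hu hux hT.2.1 (le_inf hle hT.1)
  have h1 := card_le_of_le hTle
  have h2 := hT.card_le hT'.2.1 hT'.1
  have h3 : 1 < p ^ (numInv H).factorization p := by
    refine Nat.one_lt_pow (hP.prime.factorization_pos_of_dvd hP.numInv_pos ?_).ne' hP.prime.one_lt
    obtain ⟨t, ht, htx⟩ := hP.hyp.exists_inv_at (base H)
    rw [hP.numInv_eq ht htx]
    exact hP.dvd.mul_right _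
  have h4 := Nat.card_pos (α := ↥(centralizer ({u} : Set G) ⊓ T' : Subgroup G))
  nlinarith

/-- With absorption the number of congruent involutions is prime to `p`. -/
theorem Par.not_dvd_Sig {x : G ⧸ H} (hA : Absorb p x) {t : G} (ht : orderOf t = 2) (htx : t • x = x) :
    ¬ p ∣ (Sig W x t).ncard := by
  classical
  have h := hP.hyp
  obtain ⟨N, hNle, hNn, hNp, hN⟩ := hA
  set B := N ⊓ Kx W x
  letI : MulAction ↥B G := MulAction.compHom G (ConjAct.toConjAct.toMonoidHom.comp B.subtype)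
  have hsmul : ∀ (c : ↥B) (s : G), c • s = (c : G) * s * (c : G)⁻¹ := fun c s => rfl
  have horb : orbit ↥B t = Sig W x t := by
    ext s
    constructor
    · rintro ⟨c, rfl⟩
      show (c : G) * t * (c : G)⁻¹ ∈ Sig W x t
      have hcx : (c : G) • x = x := mem_stabilizer_iff.1 (hNle (mem_inf.1 c.2).1)
      refine ⟨by rw [Basic.orderOf_conj, ht], by rw [mul_smul, mul_smul, inv_smul_eq_iff.2 hcx.symm, htx, hcx], ?_⟩
      rw [show t⁻¹ * ((c : G) * t * (c : G)⁻¹) = (t⁻¹ * (c : G) * t⁻¹⁻¹) * (c : G)⁻¹ by group]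
      exact mul_mem (h.Kx_normal (by rw [inv_smul_eq_iff, htx]) (mem_inf.1 c.2).2) (inv_mem (mem_inf.1 c.2).2)
    · rintro ⟨hs, hsx, hts⟩
      have hmem : t * s ∈ B := by
        refine mem_inf.2 ⟨mul_mem (hN t ht htx) (hN s hs hsx), ?_⟩
        rwa [Basic.inv_eq ht] at hts
      obtain ⟨d, hd, hds⟩ := Basic.exists_conj_of_odd ht hs (h.odd_orderOf (mem_inf.1 hmem).2)
      exact ⟨⟨d, zpowers_le.2 hmem hd⟩, hds⟩
  rw [← horb, ← Nat.card_coe_set_eq, Nat.card_congr (orbitEquivQuotientStabilizer ↥B t)]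
  intro hd
  exact hNp (hd.trans ((index_dvd_card _).trans (card_dvd_of_le inf_le_left)))

/-- A `p`-subgroup of `Ux W x` centralizes an involution in each class, if absorbed. -/
theorem Par.exists_fixed_lift {x : G ⧸ H} (hA : Absorb p x) {Z : Subgroup G} (hZ : IsPGroup p ↥Z)
    (hZK : Z ≤ Ux W x) {t : G} (ht : orderOf t = 2) (htx : t • x = x) :
    ∃ s : G, orderOf s = 2 ∧ s • x = x ∧ s⁻¹ * t ∈ Kx W x ∧ s ∈ centralizer (Z : Set G) := by
  haveI := hP.fact
  have h := hP.hyp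
  have hsmul : ∀ c s : G, ConjAct.toConjAct c • s = c * s * c⁻¹ := fun c s => ConjAct.toConjAct_smul c s
  have hinv : ∀ c ∈ Z, ∀ s ∈ Sig W x t, ConjAct.toConjAct c • s ∈ Sig W x t := by
    intro c hc s hs
    rw [hsmul]
    have hcx : c • x = x := mem_stabilizer_iff.1 (h.Ux_le x (hZK hc))
    refine ⟨by rw [Basic.orderOf_conj, hs.1], ?_, ?_⟩
    · exact (congrArg (fun y => (c * s * c⁻¹) • y) hcx).symm.trans ((conj_smul_fix hs.2.1).trans hcx)
    · rw [show t⁻¹ * (c * s * c⁻¹) = (t⁻¹ * s) * ((s⁻¹ * c * s⁻¹⁻¹) * c⁻¹) by group]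
      refine mul_mem hs.2.2 ?_
      rw [show s⁻¹ * c * s⁻¹⁻¹ * c⁻¹ = s⁻¹ * (c * s * c⁻¹ * s⁻¹) * s⁻¹⁻¹ by group]
      exact h.Kx_normal (inv_smul_eq_iff.2 hs.2.1.symm)
        ((h.mem_Ux.1 (hZK hc)).2 s (h.mem_Ex_of_inv hs.1 hs.2.1))
  haveI : Finite (ConjAct G) := ‹Finite G›
  have h1 := ncard_fixed_modEq (hZ.map (ConjAct.toConjAct : G ≃* ConjAct G).toMonoidHom)
    (S := Sig W x t) (by rintro _ ⟨c, hc, rfl⟩ s hs; exact hinv c hc s hs)
  obtain ⟨s, hs, hsfix⟩ : {s ∈ Sig W x t | ∀ c ∈ Z.map (ConjAct.toConjAct : G ≃* ConjAct G).toMonoidHom,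
      c • s = s}.Nonempty := by
    rw [Set.nonempty_iff_ne_empty]
    intro e
    rw [e, Set.ncard_empty] at h1
    exact hP.not_dvd_Sig hA ht htx (Nat.modEq_zero_iff_dvd.1 h1)
  refine ⟨s, hs.1, hs.2.1, ?_, mem_centralizer_iff.2 fun c hc => ?_⟩
  · simpa using inv_mem hs.2.2
  · exact mul_inv_eq_iff_eq_mul.1 ((hsmul c s).symm.trans (hsfix _ ⟨c, hc, rfl⟩))

end Cfsg.Agent.SECoreTwoClosed
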