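import Mathlib
import Cfsg.Agent.Lib.SECoreTwoClosed.Defs
import Cfsg.Agent.Lib.Involutions.StronglyEmbedded
import Cfsg.Agent.Lib.SECore.NoBadBasic
import Cfsg.Agent.Lib.SETwoClosed.Sylow
import Cfsg.Agent.Lib.SETwoClosed.Basic
import Cfsg.Agent.Lib.Cores.Basic

/-!
# The core lemma: points and the groups of a point

For a point `x` of `G ⧸ H`: `Kx W x` is the conjugate of `W` at `x`, `Tx W x` consists of the elements fixing
`x` that are 2-elements modulo `Kx W x`, `Ex W x` of those squaring into `Kx W x`, `Ux W x` of those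
fixing `x` and centralizing `Ex W x` modulo `Kx W x`.
-/

set_option autoImplicit false
set_option linter.style.haveILetI false
set_option linter.unusedSectionVars false

namespace Cfsg.Agent.SECoreTwoClosed

open Subgroup MulAction
open Cfsg.Agent.Involutions
open Cfsg.Agent.SETwoClosed (cj mem_cj conj_mem_cj cj_cj cj_one card_cj cj_eq_self)

universe u

variable {G : Type u} [Group G] {H W : Subgroup G}

/-- The base point. -/
abbrev base (H : Subgroup G) : G ⧸ H := ((1 : G) : G ⧸ H)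

/-- The conjugate of `W` at the point `x`. -/
noncomputable def Kx (W : Subgroup G) (x : G ⧸ H) : Subgroup G := cj x.out W

/-- Generated by the elements fixing `x` that are 2-elements modulo `Kx W x`. -/
noncomputable def Tx (W : Subgroup G) (x : G ⧸ H) : Subgroup G :=
  closure {e : G | e • x = x ∧ ∃ k : ℕ, e ^ 2 ^ k ∈ Kx W x}

/-- Generated by the elements fixing `x` with square in `Kx W x`. -/
noncomputable def Ex (W : Subgroup G) (x : G ⧸ H) : Subgroup G :=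
  closure {e : G | e • x = x ∧ e * e ∈ Kx W x}

/-- The elements fixing `x` that centralize `Ex W x` modulo `Kx W x`. -/
noncomputable def Ux (W : Subgroup G) (x : G ⧸ H) : Subgroup G where
  carrier := {g | g • x = x ∧ g ∈ normalizer (Kx W x : Set G) ∧
    ∀ e ∈ Ex W x, g * e * g⁻¹ * e⁻¹ ∈ Kx W x}
  one_mem' := ⟨one_smul _ _, one_mem _, fun e _ => by simp⟩
  mul_mem' := fun {a b} ha hb => ⟨by rw [mul_smul, hb.1, ha.1], mul_mem ha.2.1 hb.2.1, fun e he => by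
    rw [show a * b * e * (a * b)⁻¹ * e⁻¹ = a * (b * e * b⁻¹ * e⁻¹) * a⁻¹ * (a * e * a⁻¹ * e⁻¹) by group]
    exact mul_mem ((mem_normalizer_iff.1 ha.2.1 _).1 (hb.2.2 e he)) (ha.2.2 e he)⟩
  inv_mem' := fun {a} ha => ⟨inv_smul_eq_iff.2 ha.1.symm, inv_mem ha.2.1, fun e he => by
    rw [show a⁻¹ * e * a⁻¹⁻¹ * e⁻¹ = a⁻¹ * (a * e * a⁻¹ * e⁻¹)⁻¹ * a⁻¹⁻¹ by group]
    exact (mem_normalizer_iff.1 (inv_mem ha.2.1) _).1 (inv_mem (ha.2.2 e he))⟩

/-- The two-point stabilizer. -/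
abbrev Dp (x y : G ⧸ H) : Subgroup G := stabilizer G x ⊓ stabilizer G y

/-- The number of involutions in `H`. -/
noncomputable def numInv (H : Subgroup G) : ℕ := Nat.card {t : G // orderOf t = 2 ∧ t ∈ H}

/-- A strengthening of the hypothesis: `W` contains the odd normal subgroups of `H`. -/
structure THyp {G : Type u} [Group G] (H W : Subgroup G) : Prop extends Hyp H W where
  top : ∀ N : Subgroup G, N ≤ H → H ≤ normalizer (N : Set G) → Odd (Nat.card ↥N) → N ≤ W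

/-- The core lemma for all proper subgroups. -/
def IndHyp (G : Type u) [Group G] : Prop :=
  ∀ X : Subgroup G, X ≠ ⊤ → ∀ K W' : Subgroup ↥X, Hyp K W' → W' ≤ Cfsg.oddCore ↥X

theorem smul_base_iff {g : G} : g • base H = base H ↔ g ∈ H := by
  show ((g * 1 : G) : G ⧸ H) = _ ↔ _
  rw [mul_one, QuotientGroup.eq, mul_one, inv_mem_iff]

theorem stab_base : stabilizer G (base H) = H := stabilizer_quotient H

theorem exists_smul_base (x : G ⧸ H) : ∃ g : G, g • base H = x := MulAction.exists_smul_eq G _ _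

theorem out_smul_base (x : G ⧸ H) : x.out • base H = x := by
  show ((x.out * 1 : G) : G ⧸ H) = x
  rw [mul_one]
  exact Quotient.out_eq x

theorem conj_smul_fix {e g : G} {x : G ⧸ H} (he : e • x = x) : (g * e * g⁻¹) • (g • x) = g • x := by
  rw [mul_smul, inv_smul_smul, mul_smul, he]

theorem conj_smul_fix_iff {e g : G} {x : G ⧸ H} : (g * e * g⁻¹) • (g • x) = g • x ↔ e • x = x := by
  rw [mul_smul, inv_smul_smul, mul_smul]
  exact ⟨fun h => MulAction.injective g h, fun h => by rw [h]⟩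

theorem stab_conj {e g : G} {x : G ⧸ H} (he : e ∈ stabilizer G x) :
    g * e * g⁻¹ ∈ stabilizer G (g • x) := conj_smul_fix (mem_stabilizer_iff.1 he)

theorem smul_fix_of_normalizer {R : Subgroup G} {g : G} (hg : g ∈ normalizer (R : Set G)) {z : G ⧸ H}
    (hz : R ≤ stabilizer G z) : R ≤ stabilizer G (g • z) := fun r hr => by
  have h1 := (mem_normalizer_iff.1 (inv_mem hg) r).1 hr
  rw [inv_inv] at h1
  have h2 := stab_conj (g := g) (hz h1)
  rwa [show g * (g⁻¹ * r * g) * g⁻¹ = r by group] at h2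

variable (h : THyp H W)
include h

theorem THyp.cj_W {g : G} (hg : g ∈ H) : cj g W = W := cj_eq_self (h.normal hg)

theorem THyp.Kx_eq {x : G ⧸ H} {g : G} (hg : g • base H = x) : Kx W x = cj g W := by
  have h1 : g⁻¹ * x.out ∈ H := smul_base_iff.1 (by rw [mul_smul, out_smul_base, ← hg, inv_smul_smul])
  rw [Kx, show x.out = g * (g⁻¹ * x.out) by group, ← cj_cj, h.cj_W h1]

theorem THyp.Kx_base : Kx W (base H) = W := by
  rw [h.Kx_eq (g := 1) (one_smul _ _), cj_one]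

theorem THyp.Kx_smul (g : G) (x : G ⧸ H) : Kx W (g • x) = cj g (Kx W x) := by
  obtain ⟨k, hk⟩ := exists_smul_base x
  rw [h.Kx_eq hk, cj_cj, h.Kx_eq]
  rw [mul_smul, hk]

theorem THyp.mem_Kx_smul {g : G} {x : G ⧸ H} {e : G} : e ∈ Kx W (g • x) ↔ g⁻¹ * e * g ∈ Kx W x := by
  rw [h.Kx_smul, mem_cj]

theorem THyp.conj_mem_Kx {g : G} {x : G ⧸ H} {e : G} (he : e ∈ Kx W x) : g * e * g⁻¹ ∈ Kx W (g • x) := by
  rw [h.Kx_smul]; exact conj_mem_cj he

theorem THyp.Kx_normal {g : G} {x : G ⧸ H} (hg : g • x = x) {e : G} (he : e ∈ Kx W x) :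
    g * e * g⁻¹ ∈ Kx W x := by
  have := h.conj_mem_Kx (g := g) he
  rwa [hg] at this

theorem THyp.stab_le_normalizer_Kx (x : G ⧸ H) : stabilizer G x ≤ normalizer (Kx W x : Set G) :=
  fun g hg => mem_normalizer_iff.2 fun e => ⟨fun he => h.Kx_normal (mem_stabilizer_iff.1 hg) he,
    fun he => by simpa [mul_assoc] using h.Kx_normal (g := g⁻¹) (mem_stabilizer_iff.1 (inv_mem hg)) he⟩

theorem THyp.Kx_le (x : G ⧸ H) : Kx W x ≤ stabilizer G x := by
  obtain ⟨g, rfl⟩ := exists_smul_base x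
  rw [h.Kx_eq rfl]
  rintro _ ⟨e, he, rfl⟩
  exact stab_conj (smul_base_iff.2 (h.le he))

theorem THyp.card_Kx (x : G ⧸ H) : Nat.card ↥(Kx W x) = Nat.card ↥W := card_cj _ _

theorem THyp.odd_Kx (x : G ⧸ H) : Odd (Nat.card ↥(Kx W x)) := h.card_Kx x ▸ h.odd

theorem THyp.odd_orderOf [Finite G] {x : G ⧸ H} {e : G} (he : e ∈ Kx W x) : Odd (orderOf e) :=
  SECore.odd_orderOf_of_mem (h.odd_Kx x) he

theorem THyp.mem_Tx {x : G ⧸ H} {e : G} : e ∈ Tx W x ↔ e • x = x ∧ ∃ k : ℕ, e ^ 2 ^ k ∈ Kx W x := by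
  refine ⟨fun he => ?_, fun he => subset_closure he⟩
  induction he using closure_induction with
  | mem a ha => exact ha
  | one => exact ⟨one_smul _ _, 0, by simp⟩
  | inv a _ ha => exact ⟨inv_smul_eq_iff.2 ha.1.symm, ha.2.imp fun k hk => by
      rw [inv_pow]; exact inv_mem hk⟩
  | mul a b _ _ ha hb =>
    refine ⟨by rw [mul_smul, hb.1, ha.1], ?_⟩
    obtain ⟨g, rfl⟩ := exists_smul_base x
    have hK : ∀ c : G, c ∈ Kx W (g • base H) ↔ g⁻¹ * c * g ∈ W := fun c => by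
      rw [h.mem_Kx_smul, h.Kx_base]
    have hpow : ∀ (c : G) (j : ℕ), (g⁻¹ * c * g) ^ j = g⁻¹ * c ^ j * g := fun c j => by
      simpa using conj_pow (i := j) (a := g⁻¹) (b := c)
    have hfix : ∀ c : G, c • g • base H = g • base H → g⁻¹ * c * g ∈ H := fun c hc =>
      smul_base_iff.1 (by rw [mul_smul, mul_smul, hc, inv_smul_smul])
    obtain ⟨i, hi⟩ := ha.2
    obtain ⟨j, hj⟩ := hb.2
    obtain ⟨k, hk⟩ := h.closed _ (hfix a ha.1) _ (hfix b hb.1) ⟨i, by rw [hpow]; exact (hK _).1 hi⟩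
      ⟨j, by rw [hpow]; exact (hK _).1 hj⟩
    refine ⟨k, (hK _).2 ?_⟩
    rw [← hpow, show g⁻¹ * (a * b) * g = (g⁻¹ * a * g) * (g⁻¹ * b * g) by group]
    exact hk

theorem THyp.Tx_le (x : G ⧸ H) : Tx W x ≤ stabilizer G x := fun _ he => (h.mem_Tx.1 he).1

theorem THyp.Kx_le_Tx (x : G ⧸ H) : Kx W x ≤ Tx W x := fun e he =>
  h.mem_Tx.2 ⟨mem_stabilizer_iff.1 (h.Kx_le x he), 0, by simpa using he⟩

theorem THyp.conj_mem_Tx {g : G} {x : G ⧸ H} {e : G} (he : e ∈ Tx W x) :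
    g * e * g⁻¹ ∈ Tx W (g • x) := by
  obtain ⟨h1, k, hk⟩ := h.mem_Tx.1 he
  exact h.mem_Tx.2 ⟨conj_smul_fix h1, k, by rw [conj_pow]; exact h.conj_mem_Kx hk⟩

theorem THyp.Tx_normal {g : G} {x : G ⧸ H} (hg : g • x = x) {e : G} (he : e ∈ Tx W x) :
    g * e * g⁻¹ ∈ Tx W x := by
  have := h.conj_mem_Tx (g := g) he
  rwa [hg] at this

theorem THyp.mem_Tx_of_inv {x : G ⧸ H} {t : G} (ht : t * t = 1) (htx : t • x = x) : t ∈ Tx W x :=
  h.mem_Tx.2 ⟨htx, 1, by rw [pow_one, pow_two, ht]; exact one_mem _⟩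

variable [Finite G]

theorem THyp.odd_mem_Kx {x : G ⧸ H} {e : G} (he : e ∈ Tx W x) (ho : Odd (orderOf e)) : e ∈ Kx W x := by
  obtain ⟨-, k, hk⟩ := h.mem_Tx.1 he
  obtain ⟨m, hm⟩ := exists_pow_eq_self_of_coprime
    ((Nat.coprime_two_left.2 ho).pow_left k : Nat.Coprime (2 ^ k) (orderOf e))
  exact hm ▸ pow_mem hk m

theorem THyp.inv_notMem_Kx {x : G ⧸ H} {t : G} (ht : orderOf t = 2) : t ∉ Kx W x := fun e => by
  have := h.odd_orderOf e
  rw [ht] at this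
  exact absurd this (by decide)

theorem THyp.exists_ne_point (x : G ⧸ H) : ∃ y : G ⧸ H, x ≠ y := by
  obtain ⟨g, rfl⟩ := exists_smul_base x
  obtain ⟨u, hu, -⟩ := StronglyEmbedded.exists_involution_notMem h.se
  exact ⟨g • u • base H, fun e => hu (smul_base_iff.1 (MulAction.injective g e).symm)⟩

theorem THyp.eq_of_fixed {i : G} (hi : orderOf i = 2) {x y : G ⧸ H} (hx : i • x = x) (hy : i • y = y) :
    x = y :=
  (StronglyEmbedded.existsUnique_fixed h.se hi).unique hx hy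

theorem THyp.exists_fixed {i : G} (hi : orderOf i = 2) : ∃ x : G ⧸ H, i • x = x :=
  (StronglyEmbedded.existsUnique_fixed h.se hi).exists

theorem THyp.smul_of_commute {x : G ⧸ H} {t g : G} (ht : orderOf t = 2) (htx : t • x = x)
    (hg : Commute g t) : g • x = x :=
  h.eq_of_fixed ht (by rw [← mul_smul, ← hg.eq, mul_smul, htx]) htx

theorem THyp.odd_D {x y : G ⧸ H} (hxy : x ≠ y) : Odd (Nat.card ↥(Dp x y)) := by
  by_contra hodd
  rw [Nat.not_odd_iff_even] at hodd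
  obtain ⟨e, he, he2⟩ := StronglyEmbedded.exists_involution_mem hodd
  exact hxy (h.eq_of_fixed he2 (mem_inf.1 he).1 (mem_inf.1 he).2)

theorem THyp.odd_of_fix_two {x y : G ⧸ H} (hxy : x ≠ y) {d : G} (hx : d • x = x) (hy : d • y = y) :
    Odd (orderOf d) :=
  SECore.odd_orderOf_of_mem (h.odd_D hxy) (mem_inf.2 ⟨hx, hy⟩)

/-- An element of `Tx W x` fixing a second point lies in `Kx W x`. -/
theorem THyp.mem_Kx_of_fix {x y : G ⧸ H} (hxy : x ≠ y) {d : G} (hd : d ∈ Tx W x) (hy : d • y = y) :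
    d ∈ Kx W x :=
  h.odd_mem_Kx hd (h.odd_of_fix_two hxy (h.Tx_le x hd) hy)

theorem THyp.exists_swap {x y : G ⧸ H} (hxy : x ≠ y) :
    ∃ u : G, orderOf u = 2 ∧ u • x = y ∧ u • y = x := by
  have hcard := StronglyEmbedded.card_swap h.se x y hxy
  obtain ⟨t, htM, ht⟩ := StronglyEmbedded.exists_involution_mem h.se.2.1
  haveI : Nonempty {t : G // orderOf t = 2 ∧ t ∈ H} := ⟨⟨t, ht, htM⟩⟩
  obtain ⟨⟨u, hu, hux⟩⟩ : Nonempty {i : G // orderOf i = 2 ∧ i • x = y} :=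
    (Nat.card_pos_iff.1 (hcard ▸ Nat.card_pos)).1
  refine ⟨u, hu, hux, ?_⟩
  rw [← hux, smul_smul, Basic.inv_sq_one hu, one_smul]

omit h in
/-- The involution that swaps two points swaps their stabilizers. -/
theorem cj_Dp {u : G} {x y : G ⧸ H} (hu : orderOf u = 2) (hux : u • x = y) (huy : u • y = x) :
    cj u (Dp x y) = Dp x y := by
  have hui : u⁻¹ = u := Basic.inv_eq hu
  ext d
  rw [mem_cj, hui, mem_inf, mem_inf, mem_stabilizer_iff, mem_stabilizer_iff, mem_stabilizer_iff,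
    mem_stabilizer_iff, mul_smul, mul_smul, mul_smul, mul_smul, hux, huy]
  constructor
  · rintro ⟨h1, h2⟩
    refine ⟨MulAction.injective u ?_, MulAction.injective u ?_⟩ <;> simp only
    · rw [h2, hux]
    · rw [h1, huy]
  · rintro ⟨h1, h2⟩
    rw [h1, h2, hux, huy]
    exact ⟨rfl, rfl⟩

/-- The two-point stabilizer is transitive on the involutions fixing one of the points. -/
theorem THyp.exists_conj_D {x y : G ⧸ H} (hxy : x ≠ y) {e f : G} (he : orderOf e = 2) (hex : e • x = x)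
    (hf : orderOf f = 2) (hfx : f • x = x) : ∃ d ∈ Dp x y, d * e * d⁻¹ = f := by
  obtain ⟨g, rfl⟩ := exists_smul_base x
  obtain ⟨u, hu, hux, -⟩ := h.exists_swap (show base H ≠ g⁻¹ • y from fun e' => hxy (by rw [e', smul_inv_smul]))
  have huH : u ∉ H := fun e' => hxy (by rw [← smul_inv_smul g y, ← hux, smul_base_iff.2 e'])
  have key : ∀ w : G, orderOf w = 2 → w • g • base H = g • base H →
      orderOf (g⁻¹ * w * g) = 2 ∧ g⁻¹ * w * g ∈ H := fun w hw hwx =>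
    ⟨by rw [show g⁻¹ * w * g = g⁻¹ * w * g⁻¹⁻¹ by rw [inv_inv], Basic.orderOf_conj, hw],
      smul_base_iff.1 (by rw [mul_smul, mul_smul, hwx, inv_smul_smul])⟩
  obtain ⟨d, hd, hde⟩ := StronglyEmbedded.exists_conj_in_inter h.se hu huH (key e he hex).1 (key e he hex).2
    (key f hf hfx).1 (key f hf hfx).2
  refine ⟨g * d * g⁻¹, mem_inf.2 ⟨stab_conj (smul_base_iff.2 hd.1), ?_⟩, ?_⟩
  · obtain ⟨b, hb, rfl⟩ := hd.2
    have := stab_conj (g := g) (stab_conj (g := u) (x := base H) (smul_base_iff.2 hb : b ∈ stabilizer G (base H)))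
    rw [hux, smul_inv_smul] at this
    exact this
  · calc g * d * g⁻¹ * e * (g * d * g⁻¹)⁻¹ = g * (d * (g⁻¹ * e * g) * d⁻¹) * g⁻¹ := by group
      _ = f := by rw [hde]; group

/-- Two swappers of the same pair are conjugate under the two-point stabilizer. -/
theorem THyp.swap_isConj {x y : G ⧸ H} (hxy : x ≠ y) {u v : G} (hu : orderOf u = 2) (hux : u • x = y)
    (hv : orderOf v = 2) (hvx : v • x = y) : ∃ d ∈ Dp x y, d * u * d⁻¹ = v := by
  have huy : u • y = x := by rw [← hux, smul_smul, Basic.inv_sq_one hu, one_smul]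
  have hvy : v • y = x := by rw [← hvx, smul_smul, Basic.inv_sq_one hv, one_smul]
  have hD : u * v ∈ Dp x y := by
    refine mem_inf.2 ⟨?_, ?_⟩ <;> rw [mem_stabilizer_iff, mul_smul]
    · rw [hvx, huy]
    · rw [hvy, hux]
  obtain ⟨d, hd, hdv⟩ := Basic.exists_conj_of_odd hu hv
    (h.odd_of_fix_two hxy (mem_inf.1 hD).1 (mem_inf.1 hD).2)
  exact ⟨d, zpowers_le.2 hD hd, hdv⟩

/-- The centralizer of a swapper has index the number of involutions of `H`. -/
theorem THyp.card_D {x y : G ⧸ H} (hxy : x ≠ y) {u : G} (hu : orderOf u = 2) (hux : u • x = y) :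
    Nat.card ↥(Dp x y) = numInv H * Nat.card ↥(centralizer ({u} : Set G) ⊓ Dp x y : Subgroup G) := by
  classical
  set D := Dp x y with hD
  have huy : u • y = x := by rw [← hux, smul_smul, Basic.inv_sq_one hu, one_smul]
  let Sw := {i : G // orderOf i = 2 ∧ i • x = y}
  letI : MulAction ↥D Sw :=
    { smul := fun d i => ⟨d * i.1 * (d : G)⁻¹, by rw [Basic.orderOf_conj, i.2.1], by
        rw [mul_smul, mul_smul, mem_stabilizer_iff.1 (inv_mem (mem_inf.1 d.2).1), i.2.2]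
        exact (mem_inf.1 d.2).2⟩
      one_smul := fun i => Subtype.ext (show (1 : G) * i.1 * (1 : G)⁻¹ = i.1 by group)
      mul_smul := fun d e i => Subtype.ext (show ((d * e : ↥D) : G) * i.1 * ((d * e : ↥D) : G)⁻¹ =
        d * (e * i.1 * (e : G)⁻¹) * (d : G)⁻¹ by simp only [Subgroup.coe_mul]; group) }
  set u₀ : Sw := ⟨u, hu, hux⟩ with hu₀
  have horb : orbit ↥D u₀ = Set.univ := by
    refine Set.eq_univ_of_forall fun i => ?_
    obtain ⟨d, hd, e⟩ := h.swap_isConj hxy hu hux i.2.1 i.2.2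
    exact ⟨⟨d, hd⟩, Subtype.ext e⟩
  have hst : (stabilizer ↥D u₀).map D.subtype = centralizer ({u} : Set G) ⊓ D := by
    ext g
    constructor
    · rintro ⟨d, hd, rfl⟩
      refine mem_inf.2 ⟨mem_centralizer_singleton_iff.2 ?_, d.2⟩
      have e : (d : G) * u * (d : G)⁻¹ = u := congrArg Subtype.val hd
      exact mul_inv_eq_iff_eq_mul.1 e
    · rintro ⟨hg, hgD⟩
      refine ⟨⟨g, hgD⟩, Subtype.ext ?_, rfl⟩
      show g * u * g⁻¹ = u
      rw [mem_centralizer_singleton_iff.1 hg, mul_inv_cancel_right]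
  have h1 : Nat.card Sw = numInv H := StronglyEmbedded.card_swap h.se x y hxy
  have h2 := Nat.card_congr (MulAction.orbitEquivQuotientStabilizer ↥D u₀)
  rw [← hst, card_map_of_injective D.subtype_injective, ← h1,
    show Nat.card Sw = Nat.card (orbit ↥D u₀) by rw [horb]; exact (Nat.card_congr (Equiv.Set.univ Sw)).symm,
    h2, ← Subgroup.index, mul_comm, card_mul_index]

/-- The classes of involutions are central in the group of 2-elements modulo `Kx W x`. -/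
theorem THyp.Ex_central {x : G ⧸ H} {a e : G} (ha : a ∈ Tx W x) (hex : e • x = x)
    (he : e * e ∈ Kx W x) : a * e * a⁻¹ * e⁻¹ ∈ Kx W x := by
  set S := stabilizer G x
  have hax : a • x = x := mem_stabilizer_iff.1 (h.Tx_le x ha)
  by_cases heK : e ∈ Kx W x
  · exact mul_mem (h.Kx_normal hax heK) (inv_mem heK)
  haveI hN : ((Kx W x).subgroupOf S).Normal :=
    ⟨fun c hc g => h.Kx_normal (mem_stabilizer_iff.1 g.2) hc⟩
  set π := QuotientGroup.mk' ((Kx W x).subgroupOf S)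
  have hπ : ∀ c : ↥S, π c = 1 ↔ (c : G) ∈ Kx W x := fun c => QuotientGroup.eq_one_iff _
  set T := ((Tx W x).subgroupOf S).map π
  have hP : IsPGroup 2 ↥T := by
    rintro ⟨_, c, hc, rfl⟩
    obtain ⟨-, k, hk⟩ := h.mem_Tx.1 hc
    exact ⟨k, Subtype.ext ((map_pow π c _).symm.trans ((hπ _).2 (by rw [Subgroup.coe_pow]; exact hk)))⟩
  have heT : e ∈ Tx W x := h.mem_Tx.2 ⟨hex, 1, by rwa [pow_one, pow_two]⟩
  haveI : Fact (Nat.Prime 2) := ⟨Nat.prime_two⟩
  haveI : Nontrivial ↥T := ⟨⟨⟨π ⟨e, mem_stabilizer_iff.2 hex⟩, _, heT, rfl⟩, 1,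
    fun e' => heK ((hπ _).1 (congrArg Subtype.val e'))⟩⟩
  haveI := hP.center_nontrivial
  obtain ⟨⟨z, hz⟩, hz1⟩ := exists_ne (1 : ↥(center ↥T))
  -- a central element of order two modulo the kernel
  obtain ⟨k, hk⟩ : ∃ k : ℕ, orderOf (z ^ k) = 2 :=
    SETwoClosed.involution_of_twoEl (hP z) fun e' => hz1 (Subtype.ext e')
  obtain ⟨⟨_, c, hc, rfl⟩, hzc⟩ : {q : ↥T // q = z ^ k} := ⟨_, rfl⟩
  have hcK : (c : G) ∉ Kx W x := fun e' => Basic.ne_one hk (by rw [← hzc]; exact Subtype.ext ((hπ c).2 e'))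
  have hc2 : (c : G) * c ∈ Kx W x := by
    have h1 : π c * π c = 1 := by
      have := congrArg Subtype.val (Basic.inv_sq_one hk)
      rwa [← hzc] at this
    rwa [← map_mul, hπ] at h1
  -- an involution congruent to it and one congruent to `e`
  have key : ∀ e : G, e • x = x → e * e ∈ Kx W x → e ∉ Kx W x →
      ∃ t : G, orderOf t = 2 ∧ t • x = x ∧ t⁻¹ * e ∈ Kx W x := by
    intro e hex he hne
    obtain ⟨m, hm⟩ := h.odd_orderOf he
    refine ⟨e ^ (orderOf (e * e)), Basic.orderOf_two_iff.2 ⟨?_, fun e1 => hne ?_⟩, ?_, ?_⟩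
    · rw [← pow_add, ← two_mul, pow_mul, pow_two, pow_orderOf_eq_one]
    · rw [hm, pow_succ, pow_mul, pow_two] at e1
      rw [eq_inv_of_mul_eq_one_right e1]
      exact inv_mem (pow_mem he m)
    · exact mem_stabilizer_iff.1 (pow_mem (mem_stabilizer_iff.2 hex) _)
    · rw [hm, pow_succ, pow_mul, pow_two, mul_inv_rev, mul_assoc,
        ((Commute.refl e).mul_left (Commute.refl e)).pow_left m |>.inv_left.eq, inv_mul_cancel_left]
      exact inv_mem (pow_mem he m)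
  obtain ⟨r, hr, hrx, hrc⟩ := key c (mem_stabilizer_iff.1 c.2) hc2 hcK
  obtain ⟨t, ht, htx, hte⟩ := key e hex he heK
  obtain ⟨y, hxy⟩ := h.exists_ne_point x
  obtain ⟨d, hd, hdr⟩ := h.exists_conj_D hxy hr hrx ht htx
  have hdx : d • x = x := mem_stabilizer_iff.1 (mem_inf.1 hd).1
  set b : ↥S := ⟨d, hdx⟩
  have hπrc : π ⟨r, hrx⟩ = π c := QuotientGroup.eq.2 hrc
  have hπte : π ⟨t, htx⟩ = π ⟨e, mem_stabilizer_iff.2 hex⟩ := QuotientGroup.eq.2 hte
  have hcomm : π (b⁻¹ * ⟨a, hax⟩ * b) * π c = π c * π (b⁻¹ * ⟨a, hax⟩ * b) := by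
    have h1 : b⁻¹ * ⟨a, hax⟩ * b ∈ (Tx W x).subgroupOf S := by
      have := h.Tx_normal (g := d⁻¹) (inv_smul_eq_iff.2 hdx.symm) ha
      rw [mem_subgroupOf]
      simpa [b] using this
    have h2 : (⟨_, _, h1, rfl⟩ : ↥T) * z ^ k = z ^ k * ⟨_, _, h1, rfl⟩ :=
      ((show Commute _ z from mem_center_iff.1 hz _).pow_right k).eq
    rw [← hzc] at h2
    exact congrArg Subtype.val h2
  have h3 : π ⟨a, hax⟩ * π ⟨t, htx⟩ = π ⟨t, htx⟩ * π ⟨a, hax⟩ := by
    have e1 : π ⟨t, htx⟩ = π b * π c * (π b)⁻¹ := by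
      rw [← hπrc, ← map_inv, ← map_mul, ← map_mul]
      exact congrArg π (Subtype.ext hdr.symm)
    rw [map_mul, map_mul, map_inv] at hcomm
    rw [e1]
    calc π ⟨a, hax⟩ * (π b * π c * (π b)⁻¹) = π b * ((π b)⁻¹ * π ⟨a, hax⟩ * π b * π c) * (π b)⁻¹ := by group
      _ = π b * (π c * ((π b)⁻¹ * π ⟨a, hax⟩ * π b)) * (π b)⁻¹ := by rw [hcomm]
      _ = _ := by group
  rw [hπte] at h3
  have h4 : π (⟨a, hax⟩ * ⟨e, hex⟩ * ⟨a, hax⟩⁻¹ * ⟨e, hex⟩⁻¹) = 1 := by
    rw [map_mul, map_mul, map_mul, map_inv, map_inv, h3]; group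
  exact (hπ _).1 h4

theorem THyp.mem_Ex {x : G ⧸ H} {e : G} : e ∈ Ex W x ↔ e • x = x ∧ e * e ∈ Kx W x := by
  refine ⟨fun he => ?_, fun he => subset_closure he⟩
  induction he using closure_induction with
  | mem a ha => exact ha
  | one => exact ⟨one_smul _ _, by rw [one_mul]; exact one_mem _⟩
  | inv a _ ha => exact ⟨inv_smul_eq_iff.2 ha.1.symm, by rw [← mul_inv_rev]; exact inv_mem ha.2⟩
  | mul a b _ _ ha hb =>
    refine ⟨by rw [mul_smul, hb.1, ha.1], ?_⟩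
    have hT : ∀ c : G, c • x = x → c * c ∈ Kx W x → c ∈ Tx W x := fun c h1 h2 =>
      h.mem_Tx.2 ⟨h1, 1, by rwa [pow_one, pow_two]⟩
    have h3 := h.Ex_central (hT b hb.1 hb.2) ha.1 ha.2
    rw [show a * b * (a * b) = a * ((b * a * b⁻¹ * a⁻¹)) * a⁻¹ * ((a * a) * (b * b)) by group]
    exact mul_mem (h.Kx_normal ha.1 h3) (mul_mem ha.2 hb.2)

theorem THyp.Ex_le (x : G ⧸ H) : Ex W x ≤ stabilizer G x := fun _ he => (h.mem_Ex.1 he).1

theorem THyp.Ex_le_Tx (x : G ⧸ H) : Ex W x ≤ Tx W x := fun _ he =>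
  h.mem_Tx.2 ⟨(h.mem_Ex.1 he).1, 1, by rw [pow_one, pow_two]; exact (h.mem_Ex.1 he).2⟩

theorem THyp.Kx_le_Ex (x : G ⧸ H) : Kx W x ≤ Ex W x := fun e he =>
  h.mem_Ex.2 ⟨mem_stabilizer_iff.1 (h.Kx_le x he), mul_mem he he⟩

theorem THyp.mem_Ex_of_inv {x : G ⧸ H} {t : G} (ht : orderOf t = 2) (htx : t • x = x) : t ∈ Ex W x :=
  h.mem_Ex.2 ⟨htx, by rw [Basic.inv_sq_one ht]; exact one_mem _⟩

theorem THyp.conj_mem_Ex {g : G} {x : G ⧸ H} {e : G} (he : e ∈ Ex W x) :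
    g * e * g⁻¹ ∈ Ex W (g • x) := by
  obtain ⟨h1, h2⟩ := h.mem_Ex.1 he
  refine h.mem_Ex.2 ⟨conj_smul_fix h1, ?_⟩
  rw [show g * e * g⁻¹ * (g * e * g⁻¹) = g * (e * e) * g⁻¹ by group]
  exact h.conj_mem_Kx h2

theorem THyp.Ex_normal {g : G} {x : G ⧸ H} (hg : g • x = x) {e : G} (he : e ∈ Ex W x) :
    g * e * g⁻¹ ∈ Ex W x := by
  have := h.conj_mem_Ex (g := g) he
  rwa [hg] at this

/-- An element outside `Kx W x` whose square is inside is congruent to an involution, a power of it. -/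
theorem THyp.exists_invol {x : G ⧸ H} {e : G} (he : e ∈ Ex W x) (hne : e ∉ Kx W x) :
    ∃ t : G, orderOf t = 2 ∧ t • x = x ∧ t⁻¹ * e ∈ Kx W x ∧ t ∈ zpowers e := by
  obtain ⟨hex, he2⟩ := h.mem_Ex.1 he
  obtain ⟨m, hm⟩ := h.odd_orderOf he2
  refine ⟨e ^ (orderOf (e * e)), Basic.orderOf_two_iff.2 ⟨?_, fun e1 => hne ?_⟩, ?_, ?_,
    pow_mem (mem_zpowers e) _⟩
  · rw [← pow_add, ← two_mul, pow_mul, pow_two, pow_orderOf_eq_one]
  · rw [hm, pow_succ, pow_mul, pow_two] at e1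
    have h1 : e = ((e * e) ^ m)⁻¹ := eq_inv_of_mul_eq_one_right e1
    rw [h1]
    exact inv_mem (pow_mem he2 m)
  · exact mem_stabilizer_iff.1 (pow_mem (mem_stabilizer_iff.2 hex) _)
  · rw [hm, pow_succ, pow_mul, pow_two, mul_inv_rev, mul_assoc,
      ((Commute.refl e).mul_left (Commute.refl e)).pow_left m |>.inv_left.eq, inv_mul_cancel_left]
    exact inv_mem (pow_mem he2 m)

theorem THyp.mem_Ux {x : G ⧸ H} {g : G} :
    g ∈ Ux W x ↔ g • x = x ∧ ∀ e ∈ Ex W x, g * e * g⁻¹ * e⁻¹ ∈ Kx W x :=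
  ⟨fun hg => ⟨hg.1, hg.2.2⟩, fun hg => ⟨hg.1, h.stab_le_normalizer_Kx x hg.1, hg.2⟩⟩

theorem THyp.Ux_le (x : G ⧸ H) : Ux W x ≤ stabilizer G x := fun _ hg => hg.1

theorem THyp.Tx_le_Ux (x : G ⧸ H) : Tx W x ≤ Ux W x := fun g hg =>
  h.mem_Ux.2 ⟨mem_stabilizer_iff.1 (h.Tx_le x hg), fun _ he =>
    h.Ex_central hg (h.mem_Ex.1 he).1 (h.mem_Ex.1 he).2⟩

theorem THyp.Kx_le_Ux (x : G ⧸ H) : Kx W x ≤ Ux W x := (h.Kx_le_Tx x).trans (h.Tx_le_Ux x)

theorem THyp.conj_mem_Ux {g : G} {x : G ⧸ H} {e : G} (he : e ∈ Ux W x) :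
    g * e * g⁻¹ ∈ Ux W (g • x) := by
  obtain ⟨h1, h2⟩ := h.mem_Ux.1 he
  refine h.mem_Ux.2 ⟨conj_smul_fix h1, fun r hr => ?_⟩
  have hr' : g⁻¹ * r * g ∈ Ex W x := by
    simpa using h.conj_mem_Ex (g := g⁻¹) hr
  have := h.conj_mem_Kx (g := g) (h2 _ hr')
  rwa [show g * (e * (g⁻¹ * r * g) * e⁻¹ * (g⁻¹ * r * g)⁻¹) * g⁻¹ =
    g * e * g⁻¹ * r * (g * e * g⁻¹)⁻¹ * r⁻¹ by group] at this

theorem THyp.Ux_normal {g : G} {x : G ⧸ H} (hg : g • x = x) {e : G} (he : e ∈ Ux W x) :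
    g * e * g⁻¹ ∈ Ux W x := by
  have := h.conj_mem_Ux (g := g) he
  rwa [hg] at this

/-- An element centralizing the involutions at `x` modulo `Kx W x` lies in `Ux W x`. -/
theorem THyp.mem_Ux_of_cent {x : G ⧸ H} {y : G} (hy : y • x = x)
    (hc : ∀ t : G, orderOf t = 2 → t • x = x → y * t * y⁻¹ * t⁻¹ ∈ Kx W x) : y ∈ Ux W x := by
  refine h.mem_Ux.2 ⟨hy, fun e he => ?_⟩
  by_cases heK : e ∈ Kx W x
  · exact mul_mem (h.Kx_normal hy heK) (inv_mem heK)
  obtain ⟨t, ht, htx, hte, -⟩ := h.exists_invol he heK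
  rw [show y * e * y⁻¹ * e⁻¹ =
    (y * t * y⁻¹ * t⁻¹) * (t * ((y * (t⁻¹ * e) * y⁻¹) * (t⁻¹ * e)⁻¹) * t⁻¹) by group]
  exact mul_mem (hc t ht htx) (h.Kx_normal htx (mul_mem (h.Kx_normal hy hte) (inv_mem hte)))

/-- A normal subgroup of odd order of the stabilizer lies in `Kx W x`. -/
theorem THyp.oddNormal_le {x : G ⧸ H} {N : Subgroup G} (hN : N ≤ stabilizer G x) (ho : Odd (Nat.card ↥N))
    (hn : stabilizer G x ≤ normalizer (N : Set G)) : N ≤ Kx W x := by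
  obtain ⟨g, rfl⟩ := exists_smul_base x
  intro y hy
  rw [h.mem_Kx_smul, h.Kx_base]
  refine h.top (cj g⁻¹ N) ?_ (fun m hm => mem_normalizer_fintype fun e he => ?_) (by rwa [card_cj]) ?_
  · rintro _ ⟨e, he, rfl⟩
    have := stab_conj (g := g⁻¹) (hN he)
    rw [inv_smul_smul] at this
    exact smul_base_iff.1 (mem_stabilizer_iff.1 this)
  · rw [SetLike.mem_coe, mem_cj, inv_inv] at he ⊢
    have hm' := stab_conj (g := g) (x := base H) (smul_base_iff.2 hm : m ∈ stabilizer G (base H))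
    have := (mem_normalizer_iff.1 (hn hm') _).1 he
    rwa [show g * m * g⁻¹ * (g * e * g⁻¹) * (g * m * g⁻¹)⁻¹ = g * (m * e * m⁻¹) * g⁻¹ by group] at this
  · rw [mem_cj, inv_inv]
    rwa [show g * (g⁻¹ * y * g) * g⁻¹ = y by group]

/-- Two commuting involutions in `H`. -/
theorem THyp.four : ∃ a ∈ H, ∃ b ∈ H, orderOf a = 2 ∧ orderOf b = 2 ∧ a ≠ b ∧ Commute a b := by
  obtain ⟨A, hAH, hA, h8⟩ := h.eight
  haveI : IsMulCommutative ↥A := hA.1
  have h1 : ∀ a : ↥A, (a : G) ≠ 1 → orderOf (a : G) = 2 := fun a ha => by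
    rw [Basic.orderOf_two_iff]
    refine ⟨?_, ha⟩
    rw [← pow_two]
    exact hA.2 a a.2
  haveI : Nontrivial ↥A := Finite.one_lt_card_iff_nontrivial.1 (by omega)
  obtain ⟨a, ha⟩ := exists_ne (1 : ↥A)
  obtain ⟨b, hb1, hba⟩ : ∃ b : ↥A, b ≠ 1 ∧ b ≠ a := by
    by_contra hno
    push Not at hno
    have : Nat.card ↥A ≤ Nat.card (Fin 2) := Nat.card_le_card_of_surjective
      (fun i : Fin 2 => if i = 0 then (1 : ↥A) else a) fun b => by
        by_cases hb : b = 1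
        · exact ⟨0, by simp [hb]⟩
        · exact ⟨1, by simp [hno b hb]⟩
    rw [Nat.card_fin] at this
    omega
  refine ⟨a, hAH a.2, b, hAH b.2, h1 a (fun e => ha (Subtype.ext e)), h1 b (fun e => hb1 (Subtype.ext e)),
    fun e => hba (Subtype.ext e.symm), congrArg Subtype.val (IsMulCommutative.is_comm.comm a b)⟩

/-- Two commuting involutions at every point. -/
theorem THyp.exists_four (x : G ⧸ H) : ∃ a b : G, orderOf a = 2 ∧ orderOf b = 2 ∧ a • x = x ∧ b • x = x ∧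
    a ≠ b ∧ Commute a b ∧ a * b ∉ Kx W x := by
  obtain ⟨g, rfl⟩ := exists_smul_base x
  obtain ⟨a, ha, b, hb, ha2, hb2, hab, hc⟩ := h.four
  have habo : orderOf (a * b) = 2 := Basic.orderOf_two_iff.2 ⟨by
    rw [show a * b * (a * b) = a * (b * a) * b by group, ← hc.eq,
      show a * (a * b) * b = (a * a) * (b * b) by group, Basic.inv_sq_one ha2, Basic.inv_sq_one hb2,
      one_mul], fun e => hab (by rw [← Basic.inv_eq hb2]; exact eq_inv_of_mul_eq_one_left e)⟩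
  refine ⟨g * a * g⁻¹, g * b * g⁻¹, by rw [Basic.orderOf_conj, ha2], by rw [Basic.orderOf_conj, hb2],
    conj_smul_fix (smul_base_iff.2 ha), conj_smul_fix (smul_base_iff.2 hb),
    fun e => hab (mul_left_cancel (mul_right_cancel e)), (hc.map (MulAut.conj g).toMonoidHom), ?_⟩
  rw [show g * a * g⁻¹ * (g * b * g⁻¹) = g * (a * b) * g⁻¹ by group]
  exact h.inv_notMem_Kx (by rw [Basic.orderOf_conj, habo])

theorem THyp.exists_inv_at (x : G ⧸ H) : ∃ t : G, orderOf t = 2 ∧ t • x = x :=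
  let ⟨a, _, ha, _, hax, _⟩ := h.exists_four x
  ⟨a, ha, hax⟩

end Cfsg.Agent.SECoreTwoClosed
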