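import Cfsg.Agent.Lib.SECoreTwoClosed.Core.Two
import Cfsg.Agent.Lib.SETwoClosed.Kernel
import Cfsg.Agent.Lib.Coprime.Basic

/-!
# The core lemma: normal `ℓ`-subgroups of the kernel are semiregular

Step 5 of `notes/s1221-2closed-h29.md`: a normal `ℓ`-subgroup of the stabilizer of `a` inside `Kx W a` moves
every other point by each of its nonidentity elements.
-/

set_option autoImplicit false
set_option linter.style.haveILetI false
set_option linter.unusedSectionVars false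

namespace Cfsg.Agent.SECoreTwoClosed

open Subgroup MulAction
open Cfsg.Agent.Involutions
open Cfsg.Agent.SETwoClosed (cj mem_cj conj_mem_cj cj_cj card_cj isPGroup_cj IsSyl exists_isSyl
  exists_isSyl_ge exists_invariant_isSyl exists_mem_normalizer mem_normalizer_of_cj mem_normalizer_of_le)

universe u

variable {G : Type u} [Group G] [Finite G] {H W : Subgroup G}

/-- Any Sylow subgroup of a two-point stabilizer is normalized by a swapper. -/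
theorem THyp.exists_swap_syl (h : THyp H W) {l : ℕ} [Fact l.Prime] {x y : G ⧸ H} (hxy : x ≠ y)
    {T : Subgroup G} (hT : IsSyl l T (Dp x y)) :
    ∃ u : G, orderOf u = 2 ∧ u • x = y ∧ u • y = x ∧ u ∈ normalizer (T : Set G) := by
  obtain ⟨u, hu, hux, huy⟩ := h.exists_swap hxy
  obtain ⟨R, -, hR, huR⟩ := exists_invariant_isSyl (p := l) (h.odd_D hxy) (Basic.inv_sq_one hu)
    (cj_Dp hu hux huy) IsPGroup.of_bot bot_le (map_bot _)
  obtain ⟨d, hd, hdT⟩ := hR.conj hT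
  have hdx : d⁻¹ • x = x := mem_stabilizer_iff.1 (inv_mem (mem_inf.1 hd).1)
  have hdy : d⁻¹ • y = y := mem_stabilizer_iff.1 (inv_mem (mem_inf.1 hd).2)
  refine ⟨d * u * d⁻¹, by rw [Basic.orderOf_conj, hu], ?_, ?_, mem_normalizer_of_cj ?_⟩
  · rw [mul_smul, mul_smul, hdx, hux]; exact (mem_inf.1 hd).2
  · rw [mul_smul, mul_smul, hdy, huy]; exact (mem_inf.1 hd).1
  · rw [← hdT, cj_cj, show d * u * d⁻¹ * d = d * u by group, ← cj_cj, huR]

/-- A number of classes above four is at least eight. -/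
theorem THyp.eight_of_five (h : THyp H W) {X : Subgroup G} {d : G ⧸ H}
    (h5 : 5 ≤ (Kx W d).relIndex (X ⊓ Ex W d)) : 8 ≤ (Kx W d).relIndex (X ⊓ Ex W d) := by
  haveI : Fact (Nat.Prime 2) := ⟨Nat.prime_two⟩
  set Y := X ⊓ Ex W d
  haveI : ((Kx W d).subgroupOf Y).Normal := ⟨fun e he g =>
    h.Kx_normal (mem_stabilizer_iff.1 (h.Ex_le d (mem_inf.1 g.2).2)) he⟩
  obtain ⟨k, hk⟩ := (IsPGroup.iff_card (G := ↥Y ⧸ (Kx W d).subgroupOf Y) (p := 2)).1 fun q => by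
    obtain ⟨y, rfl⟩ := QuotientGroup.mk_surjective q
    refine ⟨1, ?_⟩
    rw [pow_one, pow_two, ← QuotientGroup.mk_mul, QuotientGroup.eq_one_iff, mem_subgroupOf]
    exact (h.mem_Ex.1 (mem_inf.1 y.2).2).2
  have hrk : (Kx W d).relIndex Y = 2 ^ k := by rw [relIndex, Subgroup.index, hk]
  rw [hrk] at h5 ⊢
  have h3 : 3 ≤ k := by
    by_contra h3
    have : 2 ^ k ≤ 2 ^ 2 := Nat.pow_le_pow_right two_pos (by omega)
    omega
  exact (Nat.pow_le_pow_right two_pos h3 : 2 ^ 3 ≤ 2 ^ k)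

/-- The elements of the stabilizer commuting with its `p`-elements modulo `Ux W x`. -/
def Cen (W : Subgroup G) (p : ℕ) (x : G ⧸ H) (g : G) : Prop :=
  g • x = x ∧ ∀ c : G, c • x = x → (∃ k : ℕ, c ^ p ^ k ∈ Ux W x) → g * c * g⁻¹ * c⁻¹ ∈ Ux W x

/-- The subgroup of these elements. -/
noncomputable def THyp.Cx (h : THyp H W) (p : ℕ) (x : G ⧸ H) : Subgroup G where
  carrier := {g | Cen W p x g}
  one_mem' := ⟨one_smul _ _, fun c _ _ => by simp⟩
  mul_mem' := fun {a b} ha hb => ⟨by rw [mul_smul, hb.1, ha.1], fun c hc hck => by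
    rw [show a * b * c * (a * b)⁻¹ * c⁻¹ = a * (b * c * b⁻¹ * c⁻¹) * a⁻¹ * (a * c * a⁻¹ * c⁻¹) by group]
    exact mul_mem (h.Ux_normal ha.1 (hb.2 c hc hck)) (ha.2 c hc hck)⟩
  inv_mem' := fun {a} ha => ⟨inv_smul_eq_iff.2 ha.1.symm, fun c hc hck => by
    rw [show a⁻¹ * c * a⁻¹⁻¹ * c⁻¹ = a⁻¹ * (a * c * a⁻¹ * c⁻¹)⁻¹ * a⁻¹⁻¹ by group]
    exact h.Ux_normal (inv_smul_eq_iff.2 ha.1.symm) (inv_mem (ha.2 c hc hck))⟩

theorem THyp.conj_mem_Cx (h : THyp H W) {p : ℕ} {x : G ⧸ H} {m g : G} (hg : g ∈ h.Cx p x) :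
    m * g * m⁻¹ ∈ h.Cx p (m • x) := by
  refine ⟨conj_smul_fix hg.1, fun c hc hck => ?_⟩
  have hc' : (m⁻¹ * c * m) • x = x := by rw [mul_smul, mul_smul, hc, inv_smul_smul]
  have h1 := h.conj_mem_Ux (g := m) (hg.2 _ hc' (hck.imp fun k hk => by
    rw [show m⁻¹ * c * m = m⁻¹ * c * m⁻¹⁻¹ by rw [inv_inv], conj_pow]
    simpa using h.conj_mem_Ux (g := m⁻¹) hk))
  rwa [show m * (g * (m⁻¹ * c * m) * g⁻¹ * (m⁻¹ * c * m)⁻¹) * m⁻¹ =
    m * g * m⁻¹ * c * (m * g * m⁻¹)⁻¹ * c⁻¹ by group] at h1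

theorem THyp.Ux_le_Cx (h : THyp H W) (p : ℕ) (x : G ⧸ H) : Ux W x ≤ h.Cx p x := fun g hg =>
  ⟨mem_stabilizer_iff.1 (h.Ux_le x hg), fun c hc _ => by
    rw [show g * c * g⁻¹ * c⁻¹ = g * (c * g⁻¹ * c⁻¹) by group]
    exact mul_mem hg (h.Ux_normal hc (inv_mem hg))⟩

theorem THyp.Kx_le_Cx (h : THyp H W) (p : ℕ) (x : G ⧸ H) : Kx W x ≤ h.Cx p x :=
  (h.Kx_le_Ux x).trans (h.Ux_le_Cx p x)

variable {n p : ℕ} (hF : Facts H W n p)
include hF

/-- In a two-point stabilizer the two centralizers agree. -/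
theorem Facts.Cx_swap {a b : G ⧸ H} (hab : a ≠ b) {g : G} (hg : g ∈ hF.par.hyp.Cx p a) (hgb : g • b = b) :
    g ∈ hF.par.hyp.Cx p b := by
  have h := hF.par.hyp
  haveI := hF.par.fact
  refine ⟨hgb, fun c hc hck => ?_⟩
  obtain ⟨T, hT⟩ := exists_isSyl (p := p) (Dp b a)
  obtain ⟨r, hr, hrc⟩ := hF.par.cover b a hab.symm T hT c hc hck
  have hrb : r • b = b := mem_stabilizer_iff.1 (mem_inf.1 (hT.1 hr)).1
  have hra : r • a = a := mem_stabilizer_iff.1 (mem_inf.1 (hT.1 hr)).2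
  rw [show g * c * g⁻¹ * c⁻¹ = g * r * g⁻¹ * r⁻¹ *
    (r * (g * (r⁻¹ * c) * g⁻¹ * (r⁻¹ * c)⁻¹) * r⁻¹) by group]
  refine mul_mem ?_ (h.Ux_normal hrb (mul_mem (h.Ux_normal hgb hrc) (inv_mem hrc)))
  -- the commutator with an element of `T`
  set w := g * r * g⁻¹ * r⁻¹
  have hwD : w ∈ Dp a b := by
    have h1 : g ∈ Dp a b := mem_inf.2 ⟨hg.1, hgb⟩
    have h2 : r ∈ Dp a b := mem_inf.2 ⟨hra, hrb⟩
    exact mul_mem (mul_mem (mul_mem h1 h2) (inv_mem h1)) (inv_mem h2)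
  have hwa : w ∈ Ux W a := hg.2 r hra (hF.par.exists_pow hT.2.1 hr a)
  obtain ⟨k, hk⟩ := hF.par.comm b g r hgb hrb (hF.par.exists_pow hT.2.1 hr b)
  refine SETwoClosed.mem_of_pow_mem hF.par.prime hk fun w' hw' hw'p => ?_
  have hw'D : w' ∈ Dp a b := zpowers_le.2 hwD hw'
  have hZp : IsPGroup p ↥(zpowers w') := by
    obtain ⟨j, hj⟩ := hw'p
    intro z
    obtain ⟨i, hi⟩ := mem_zpowers_iff.1 z.2
    refine ⟨j, Subtype.ext ?_⟩
    rw [Subgroup.coe_pow, ← hi, OneMemClass.coe_one, ← zpow_natCast, ← zpow_mul, mul_comm, zpow_mul,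
      zpow_natCast, hj, one_zpow]
  obtain ⟨T', hwT', hT'⟩ := exists_isSyl_ge hZp (zpowers_le.2 hw'D)
  have h1 : w' ∈ T' ⊓ Ux W a := mem_inf.2 ⟨hwT' (mem_zpowers _), zpowers_le.2 hwa hw'⟩
  rw [hF.syl_U a b T' hab hT'] at h1
  exact (mem_inf.1 h1).2

/-- Semiregularity. -/
theorem Facts.semireg [FaithfulSMul G (G ⧸ H)] (IH : IndHyp G) {l : ℕ} (hl : l.Prime) {a : G ⧸ H}
    {V : Subgroup G} (hV : IsPGroup l ↥V) (hVK : V ≤ Kx W a)
    (hVn : stabilizer G a ≤ normalizer (V : Set G)) {b : G ⧸ H} (hab : a ≠ b) {v0 : G} (hv0 : v0 ∈ V)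
    (hv0b : v0 • b = b) : v0 = 1 := by
  classical
  by_contra hv01
  have h := hF.par.hyp
  haveI := hF.par.fact
  haveI : Fact l.Prime := ⟨hl⟩
  have hVa : V ≤ stabilizer G a := hVK.trans (h.Kx_le a)
  -- `V` does not fix `b`
  have hVb : ¬ V ≤ stabilizer G b := by
    intro hle
    refine hv01 (FaithfulSMul.eq_of_smul_eq_smul (α := G ⧸ H) fun z => ?_)
    rw [one_smul]
    by_cases hza : z = a
    · rw [hza]; exact hVa hv0
    obtain ⟨g, hga, hgb⟩ := hF.trans2 a b a z hab (Ne.symm hza)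
    rw [← hgb]
    exact smul_fix_of_normalizer (hVn (mem_stabilizer_iff.2 hga)) hle hv0
  obtain ⟨T, hT⟩ := exists_isSyl (p := p) (Dp a b)
  -- the primes differ
  have hlp : l ≠ p := by
    rintro rfl
    have hTVp : IsPGroup l ↥(T ⊔ V) :=
      hT.2.1.to_sup_of_normal_right' hV ((hT.1.trans inf_le_left).trans hVn)
    have h1 : T = T ⊔ V := eq_of_le_of_card_ge le_sup_left (hF.sylow a b T _ hab hT hTVp)
    exact hVb ((le_sup_right.trans h1.ge).trans (hT.1.trans inf_le_right))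
  set L := Dp a b ⊓ h.Cx p a with hL
  have hv0D : v0 ∈ Dp a b := mem_inf.2 ⟨hVa hv0, hv0b⟩
  obtain ⟨P, hVP, hP⟩ := exists_isSyl_ge (p := l) (hV.to_le (inf_le_left : V ⊓ Dp a b ≤ V)) inf_le_right
  set P2 := P ⊓ h.Cx p a with hP2
  have hv0P2 : v0 ∈ P2 :=
    mem_inf.2 ⟨hVP (mem_inf.2 ⟨hv0, hv0D⟩), h.Kx_le_Cx p a (hVK hv0)⟩
  have hPa : P ≤ stabilizer G a := hP.1.trans inf_le_left
  have hPb : P ≤ stabilizer G b := hP.1.trans inf_le_right
  set Y := normalizer (P : Set G)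
  -- `P` is Sylow for every pair of its fixed points
  have hPsyl : ∀ v w : G ⧸ H, v ≠ w → P ≤ stabilizer G v → P ≤ stabilizer G w → IsSyl l P (Dp v w) := by
    intro v w hvw hv hw
    obtain ⟨g, hgv, hgw⟩ := hF.trans2 v w a b hvw hab
    obtain ⟨S, hS⟩ := exists_isSyl (p := l) (Dp v w)
    refine hS.of_card hP.2.1 (le_inf hv hw) ?_
    rw [← card_cj g S]
    refine hP.card_le (isPGroup_cj hS.2.1 g) ?_
    rintro _ ⟨s, hs, rfl⟩
    exact mem_inf.2 ⟨hgv ▸ stab_conj (mem_inf.1 (hS.1 hs)).1, hgw ▸ stab_conj (mem_inf.1 (hS.1 hs)).2⟩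
  -- an element of `V` normalizing `P` moves `b`
  obtain ⟨v, hvV, hvY, hvb⟩ : ∃ v ∈ V, v ∈ Y ∧ v • b ≠ b := by
    have hPn : P ≤ normalizer (V : Set G) := hPa.trans hVn
    have hQ : IsPGroup l ↥(P ⊔ V) := hP.2.1.to_sup_of_normal_right' hV hPn
    obtain ⟨g, hg, hgP, hgn⟩ := exists_mem_normalizer hQ (lt_of_le_of_ne le_sup_left
      fun e => hVb ((le_sup_right.trans e.ge).trans hPb))
    rw [sup_comm] at hg
    obtain ⟨v, hv, π, hπ, rfl⟩ := (Coprime.mem_sup_of_le_normalizer hPn).1 hg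
    refine ⟨v, hv, ?_, fun e => ?_⟩
    · have := mul_mem hgn (inv_mem (le_normalizer hπ))
      rwa [mul_inv_cancel_right] at this
    · have hvπ : v * π ∈ Dp a b := mul_mem (mem_inf.2 ⟨hVa hv, e⟩) (hP.1 hπ)
      exact hgP (hP.2.2 (P ⊔ zpowers (v * π)) le_sup_left (sup_le hP.1 (zpowers_le.2 hvπ))
        (hQ.to_le (sup_le le_sup_left (zpowers_le.2 (by
          rw [sup_comm]; exact mul_mem_sup hv hπ)))) ▸ mem_sup_right (mem_zpowers _))
  have hva : v • a = a := hVa hvV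
  -- an involution normalizing `P` fixes one of its points, hence one at `a`
  have hswap : ∀ v w : G ⧸ H, P ≤ stabilizer G v → P ≤ stabilizer G w → v ≠ w →
      ∃ u ∈ Y, orderOf u = 2 ∧ u • v = w := by
    intro v w hv hw hvw
    obtain ⟨u, hu, huv, -, huP⟩ := h.exists_swap_syl hvw (hPsyl v w hvw hv hw)
    exact ⟨u, huP, hu, huv⟩
  obtain ⟨z, hz, t, htY, ht, htz⟩ : ∃ z : G ⧸ H, P ≤ stabilizer G z ∧ ∃ t ∈ Y, orderOf t = 2 ∧ t • z = z := by
    by_contra hno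
    push Not at hno
    have hrank : SECore.RankOne Y := by
      intro i hi j hj hi2 hj2 hij
      by_contra hne
      obtain ⟨f, hf⟩ := h.exists_fixed (H := H) hi2
      have hodd : Odd (Nat.card ↥P) := (h.odd_D hab).of_dvd_nat (card_dvd_of_le hP.1)
      exact hno f (h.le_stab_of_four hodd hi hj hi2 hj2 hij hne hf) i hi hi2 hf
    have hvba : v • b ≠ a := fun e => hab (MulAction.injective v (e.trans hva.symm)).symm
    exact hvba (hrank.no_triangle {w : G ⧸ H | P ≤ stabilizer G w}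
      (fun w hw s hs hs2 => hno w hw s hs hs2) (fun x hx y hy hxy => hswap x y hx hy hxy)
      (smul_fix_of_normalizer hvY hPb) hPb hPa hvb (Ne.symm hab))
  obtain ⟨t', ht'Y, ht', ht'a⟩ : ∃ t' ∈ Y, orderOf t' = 2 ∧ t' • a = a := by
    by_cases hza : z = a
    · exact ⟨t, htY, ht, hza ▸ htz⟩
    obtain ⟨s, hs, hs2, hsz⟩ := hswap z a hz hPa hza
    exact ⟨s * t * s⁻¹, mul_mem (mul_mem hs htY) (inv_mem hs), by rw [Basic.orderOf_conj, ht],
      hsz ▸ conj_smul_fix htz⟩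
  set X := normalizer (P2 : Set G)
  have hCxz : ∀ w : G ⧸ H, P ≤ stabilizer G w → ∀ g ∈ P, (g ∈ h.Cx p a ↔ g ∈ h.Cx p w) := by
    intro w hw g hg
    by_cases hwa : w = a
    · rw [hwa]
    exact ⟨fun hgC => hF.Cx_swap (Ne.symm hwa) hgC (hw hg), fun hgC => hF.Cx_swap hwa hgC (hPa hg)⟩
  have hYX : Y ≤ X := fun m hm => mem_normalizer_of_le fun g hg => by
    obtain ⟨hgP, hgC⟩ := mem_inf.1 hg
    have hmgP : m * g * m⁻¹ ∈ P := (mem_normalizer_iff.1 hm g).1 hgP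
    exact mem_inf.2 ⟨hmgP, (hCxz _ (smul_fix_of_normalizer hm hPa) _ hmgP).2 (h.conj_mem_Cx hgC)⟩
  -- an element of `X` moving the class of `t'`
  obtain ⟨r0, hr0, hr0K⟩ := SetLike.not_le_iff_exists.1 (hF.par.not_le_Ux hab hT)
  have hr0a : r0 • a = a := mem_stabilizer_iff.1 (mem_inf.1 (hT.1 hr0)).1
  have hr0b : r0 • b = b := mem_stabilizer_iff.1 (mem_inf.1 (hT.1 hr0)).2
  set K0 := Dp a b ⊓ Ux W a ⊓ Ux W b with hK0
  set J := P2 ⊔ K0
  have hJL : J ≤ L := sup_le (inf_le_inf_right _ hP.1)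
    (fun g hg => mem_inf.2 ⟨(mem_inf.1 (mem_inf.1 hg).1).1, h.Ux_le_Cx p a (mem_inf.1 (mem_inf.1 hg).1).2⟩)
  have hP2L : ∀ Q : Subgroup G, P2 ≤ Q → Q ≤ L → IsPGroup l ↥Q → Q = P2 := by
    intro Q hle hQL hQ
    obtain ⟨Q', hQQ', hQ'⟩ := exists_isSyl_ge hQ (hQL.trans inf_le_left)
    obtain ⟨d, hd, hdQ⟩ := hP.conj hQ'
    refine (eq_of_le_of_card_ge hle ?_).symm
    rw [← card_cj d P2]
    refine card_le_of_le fun g hg => ?_
    have h1 : d⁻¹ * g * d ∈ P := by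
      rw [← mem_cj, hdQ]; exact hQQ' hg
    have h2 : d⁻¹ * g * d ∈ h.Cx p a := by
      have h3 := h.conj_mem_Cx (m := d⁻¹) (mem_inf.1 (hQL hg)).2
      rwa [inv_inv, inv_smul_eq_iff.2 (mem_stabilizer_iff.1 (mem_inf.1 hd).1).symm] at h3
    exact mem_cj.2 (mem_inf.2 ⟨h1, h2⟩)
  have hP2J : IsSyl l P2 J := ⟨le_sup_left, hP.2.1.to_le inf_le_left,
    fun Q hle hQJ hQ => hP2L Q hle (hQJ.trans hJL) hQ⟩
  have hcjJ : cj r0 P2 ≤ J := by
    rintro _ ⟨g, hg, rfl⟩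
    obtain ⟨hgP, hgC⟩ := mem_inf.1 hg
    show r0 * g * r0⁻¹ ∈ J
    rw [show r0 * g * r0⁻¹ = (g * r0 * g⁻¹ * r0⁻¹)⁻¹ * g by group]
    refine mul_mem (inv_mem (mem_sup_right ?_)) (mem_sup_left hg)
    have hD : g * r0 * g⁻¹ * r0⁻¹ ∈ Dp a b :=
      mul_mem (mul_mem (mul_mem (hP.1 hgP) (hT.1 hr0)) (inv_mem (hP.1 hgP))) (inv_mem (hT.1 hr0))
    exact mem_inf.2 ⟨mem_inf.2 ⟨hD, hgC.2 r0 hr0a (hF.par.exists_pow hT.2.1 hr0 a)⟩,
      (hF.Cx_swap hab hgC (hPb hgP)).2 r0 hr0b (hF.par.exists_pow hT.2.1 hr0 b)⟩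
  obtain ⟨j, hj, hjP⟩ := (hP2J.of_card (isPGroup_cj hP2J.2.1 r0) hcjJ (le_of_eq (card_cj _ _).symm)).conj hP2J
  have hP2K0 : P2 ≤ normalizer (K0 : Set G) := fun g hg => mem_normalizer_of_le fun e he => by
    have hgD := hP.1 (mem_inf.1 hg).1
    obtain ⟨⟨heD, hea⟩, heb⟩ := mem_inf.1 he |>.imp (fun e => mem_inf.1 e) id
    exact mem_inf.2 ⟨mem_inf.2 ⟨mul_mem (mul_mem hgD heD) (inv_mem hgD),
      h.Ux_normal (mem_inf.1 hgD).1 hea⟩, h.Ux_normal (mem_inf.1 hgD).2 heb⟩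
  rw [show J = K0 ⊔ P2 from sup_comm _ _] at hj
  obtain ⟨k, hk, π, hπ, hkπ⟩ := (Coprime.mem_sup_of_le_normalizer hP2K0).1 hj
  set r := π⁻¹ * k * π * r0 with hr
  have hk' : π⁻¹ * k * π ∈ K0 := by simpa using (mem_normalizer_iff.1 (hP2K0 (inv_mem hπ)) k).1 hk
  have hrX : r ∈ X := by
    have h1 : j * r0 ∈ X := mem_normalizer_of_cj (by rw [← cj_cj, hjP])
    have h2 := mul_mem (inv_mem (le_normalizer hπ : π ∈ X)) h1
    rwa [← hkπ, show π⁻¹ * (k * π * r0) = r by rw [hr]; group] at h2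
  have hra : r • a = a := by
    rw [hr, mul_smul, hr0a]; exact mem_stabilizer_iff.1 (h.Ux_le a (mem_inf.1 (mem_inf.1 hk').1).2)
  -- five classes of `X` at `a`
  have hk'U : π⁻¹ * k * π ∈ Ux W a := (mem_inf.1 (mem_inf.1 hk').1).2
  have hrr0 : ∀ j : ℕ, r ^ j * (r0 ^ j)⁻¹ ∈ Ux W a := by
    intro j
    induction j with
    | zero => simp
    | succ j ih =>
      have h1 : r * r0⁻¹ ∈ Ux W a := by rw [hr, mul_inv_cancel_right]; exact hk'U
      rw [show r ^ (j + 1) * (r0 ^ (j + 1))⁻¹ = r * (r ^ j * (r0 ^ j)⁻¹) * r⁻¹ * (r * r0⁻¹) by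
        rw [pow_succ', pow_succ']; group]
      exact mul_mem (h.Ux_normal hra ih) h1
  have hmove : ∀ m : ℕ, 0 < m → m < p → r ^ m * t' * (r ^ m)⁻¹ * t'⁻¹ ∉ Kx W a := by
    intro m hm0 hmp hcon
    obtain ⟨e, he⟩ := hT.2.1 ⟨r0, hr0⟩
    have he' : r0 ^ p ^ e = 1 := congrArg Subtype.val he
    refine h.inv_notMem_Kx ht' (hF.par.fpf a (r ^ m) (mem_stabilizer_iff.1 (pow_mem hra m)) ⟨e, ?_⟩
      (fun hrm => hr0K ?_) t' (h.mem_Ex_of_inv ht' ht'a) hcon)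
    · have h1 := hrr0 (m * p ^ e)
      rwa [show r0 ^ (m * p ^ e) = 1 by rw [mul_comm, pow_mul, he', one_pow], inv_one, mul_one, pow_mul] at h1
    · have h1 : r0 ^ m ∈ Ux W a := by
        have := mul_mem (inv_mem (hrr0 m)) hrm
        rwa [mul_inv_rev, inv_inv, inv_mul_cancel_right] at this
      obtain ⟨i, hi⟩ := exists_pow_eq_self_of_coprime (Nat.Coprime.coprime_dvd_right
        (orderOf_dvd_of_pow_eq_one he') (Nat.Coprime.pow_right e
          ((hF.par.prime.coprime_iff_not_dvd.2 fun hd => absurd (Nat.le_of_dvd hm0 hd) (by omega)).symm)))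
      exact hi ▸ pow_mem h1 i
  let f : Option (Fin 4) → G := fun o => o.elim 1 fun i => r ^ (i : ℕ) * t' * (r ^ (i : ℕ))⁻¹
  have hfne : ∀ i j : Fin 4, i < j → (f (some i))⁻¹ * f (some j) ∉ Kx W a := by
    intro i j hij hcon
    have := hF.par.five_le
    have hij' : (i : ℕ) < j := hij
    refine hmove (j - i) (by omega) (by have := j.2; omega) ?_
    have h1 : (r ^ (i : ℕ))⁻¹ * ((f (some i))⁻¹ * f (some j)) * (r ^ (i : ℕ))⁻¹⁻¹ ∈ Kx W a :=
      h.Kx_normal (mem_stabilizer_iff.1 (inv_mem (pow_mem hra _))) hcon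
    have h2 := h.Kx_normal ht'a h1
    simp only [f, Option.elim_some] at h2
    rw [show (j : ℕ) = i + (j - i) by omega, pow_add] at h2
    rwa [show t' * ((r ^ (i : ℕ))⁻¹ * ((r ^ (i : ℕ) * t' * (r ^ (i : ℕ))⁻¹)⁻¹ *
      (r ^ (i : ℕ) * r ^ ((j : ℕ) - i) * t' * (r ^ (i : ℕ) * r ^ ((j : ℕ) - i))⁻¹)) *
        (r ^ (i : ℕ))⁻¹⁻¹) * t'⁻¹ = r ^ ((j : ℕ) - i) * t' * (r ^ ((j : ℕ) - i))⁻¹ * t'⁻¹ by group] at h2
  have hfinv : ∀ i : Fin 4, orderOf (f (some i)) = 2 ∧ f (some i) • a = a := fun i =>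
    ⟨(Basic.orderOf_conj _ _).trans ht', by
      have h1 : r ^ (i : ℕ) • a = a := mem_stabilizer_iff.1 (pow_mem hra _)
      have := conj_smul_fix (g := r ^ (i : ℕ)) ht'a
      rwa [h1] at this⟩
  have h8 : 8 ≤ (Kx W a).relIndex (X ⊓ Ex W a) := by
    refine h.eight_of_five (le_trans (le_of_eq (by simp [Nat.card_eq_fintype_card]))
      (le_relIndex_of_incong f (fun o => ?_) fun o o' hoo => ?_))
    · rcases o with _ | i
      · exact one_mem _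
      · exact mem_inf.2 ⟨mul_mem (mul_mem (pow_mem hrX _) (hYX ht'Y)) (inv_mem (pow_mem hrX _)),
          h.mem_Ex_of_inv (hfinv i).1 (hfinv i).2⟩
    · rcases o with _ | i <;> rcases o' with _ | j
      · exact absurd rfl hoo
      · rw [show f none = 1 from rfl, inv_one, one_mul]; exact h.inv_notMem_Kx (hfinv j).1
      · rw [show f none = 1 from rfl, mul_one, inv_mem_iff]; exact h.inv_notMem_Kx (hfinv i).1
      · rcases lt_trichotomy i j with hl | hl | hl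
        · exact hfne i j hl
        · exact absurd (congrArg some hl) hoo
        · exact fun e => hfne j i hl (by simpa [mul_inv_rev] using inv_mem e)
  obtain ⟨u, hu, hu2, hua⟩ := hswap a b hPa hPb hab
  have hX : X ≠ ⊤ := normalizer_ne_top (inf_le_left.trans hPa)
    (fun e => hv01 (mem_bot.1 (e ▸ hv0P2)))
  have hfix := h.slice_fix IH hX ⟨u, hYX hu, by rw [hua]; exact hab.symm⟩ h8 (N := V ⊓ X) (le_inf inf_le_right (inf_le_left.trans hVa))
    ((h.odd_Kx a).of_dvd_nat (card_dvd_of_le (inf_le_left.trans hVK)))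
    (fun g hg => mem_normalizer_of_le fun e he => mem_inf.2
      ⟨(mem_normalizer_iff.1 (hVn (mem_inf.1 hg).2) e).1 (mem_inf.1 he).1,
        mul_mem (mul_mem (mem_inf.1 hg).1 (mem_inf.1 he).2) (inv_mem (mem_inf.1 hg).1)⟩) (hYX hu)
  rw [hua] at hfix
  exact hvb (mem_stabilizer_iff.1 (hfix (mem_inf.2 ⟨hvV, hYX hvY⟩)))

end Cfsg.Agent.SECoreTwoClosed
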