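import Cfsg.Agent.S0205
import Cfsg.Agent.Lib.SEAbelian.Orbit
import Cfsg.Agent.Lib.SECoreTwoClosed.Core.Par

/-!
# The core lemma: subgroups containing three commuting involutions at a point

By induction an odd normal subgroup of `X ⊓ stabilizer d` lies in the odd core of `X`, which fixes the whole
`X`-orbit of `d` and lies in `Ux W` of each of its points, when `X` covers `Ex W d` modulo `Kx W d`.
-/

set_option autoImplicit false
set_option linter.style.haveILetI false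
set_option linter.unusedSectionVars false

namespace Cfsg.Agent.SECoreTwoClosed

open Subgroup MulAction
open Cfsg.Agent.Involutions
open Cfsg.Agent.SETwoClosed (cj mem_cj conj_mem_cj TwoEl IsSyl exists_isSyl)
open Cfsg.Agent.SEAbelian (oc oc_le odd_oc le_normalizer_oc le_oc exists_twoEl)

universe u

variable {G : Type u} [Group G] [Finite G] {H W : Subgroup G}

/-- The point stabilizers are solvable. -/
theorem THyp.isSolvable_stab (h : THyp H W) (x : G ⧸ H) : Group.IsSolvable ↥(stabilizer G x) := by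
  set S := stabilizer G x
  haveI hKn : ((Kx W x).subgroupOf S).Normal := ⟨fun e he g => h.Kx_normal (mem_stabilizer_iff.1 g.2) he⟩
  haveI hTn : ((Tx W x).subgroupOf S).Normal := ⟨fun e he g => h.Tx_normal (mem_stabilizer_iff.1 g.2) he⟩
  set K' := (Kx W x).subgroupOf S
  set T' := (Tx W x).subgroupOf S
  -- the odd part
  have hq : Group.IsSolvable (↥S ⧸ T') := by
    refine Cfsg.Agent.S0205.result ?_
    by_contra hodd
    rw [Nat.not_odd_iff_even] at hodd
    haveI : Fact (Nat.Prime 2) := ⟨Nat.prime_two⟩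
    obtain ⟨q, hq2⟩ := exists_prime_orderOf_dvd_card' 2 (even_iff_two_dvd.1 hodd)
    obtain ⟨g, rfl⟩ := QuotientGroup.mk_surjective q
    obtain ⟨e, m, hm, hom⟩ := Nat.exists_eq_two_pow_mul_odd (orderOf_pos g).ne'
    have h1 : ((g : ↥S) : ↥S ⧸ T') ^ m = 1 := by
      rw [← QuotientGroup.mk_pow, QuotientGroup.eq_one_iff, mem_subgroupOf]
      refine h.mem_Tx.2 ⟨mem_stabilizer_iff.1 (g ^ m).2, e, ?_⟩
      rw [← Subgroup.coe_pow, ← pow_mul, mul_comm, ← hom, pow_orderOf_eq_one, OneMemClass.coe_one]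
      exact one_mem _
    rw [← orderOf_dvd_iff_pow_eq_one, hq2] at h1
    exact Nat.not_even_iff_odd.2 hm (even_iff_two_dvd.2 h1)
  -- the 2-part modulo the kernel
  haveI hK : Group.IsSolvable ↥K' := Cfsg.Agent.S0205.result (by
    rw [Nat.card_congr (subgroupOfEquivOfLe (h.Kx_le x)).toEquiv]; exact h.odd_Kx x)
  haveI : Fact (Nat.Prime 2) := ⟨Nat.prime_two⟩
  haveI hP : Group.IsSolvable ↥(T'.map (QuotientGroup.mk' K')) := by
    haveI := IsPGroup.isNilpotent (p := 2) (G := ↥(T'.map (QuotientGroup.mk' K'))) (by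
      rintro ⟨_, e, he, rfl⟩
      obtain ⟨k, hk⟩ := (h.mem_Tx.1 he).2
      exact ⟨k, Subtype.ext ((map_pow _ e _).symm.trans ((QuotientGroup.eq_one_iff _).2 hk))⟩)
    infer_instance
  haveI hT : Group.IsSolvable ↥T' := by
    refine Group.isSolvable_of_ker_le_range (inclusion (show K' ≤ T' from fun e he => h.Kx_le_Tx x he))
      ((QuotientGroup.mk' K').subgroupMap T') fun e he => ?_
    have h1 : ((e : ↥S) : ↥S ⧸ K') = 1 := congrArg Subtype.val (MonoidHom.mem_ker.1 he)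
    exact ⟨⟨e, (QuotientGroup.eq_one_iff _).1 h1⟩, rfl⟩
  exact Group.isSolvable_of_ker_le_range T'.subtype (QuotientGroup.mk' T')
    (by rw [QuotientGroup.ker_mk', range_subtype])

/-- Incongruent elements bound the index from below. -/
theorem le_relIndex_of_incong {ι : Type*} [Finite ι] {K Y : Subgroup G} (f : ι → G) (hf : ∀ i, f i ∈ Y)
    (hne : ∀ i j, i ≠ j → (f i)⁻¹ * f j ∉ K) : Nat.card ι ≤ K.relIndex Y := by
  rw [relIndex, Subgroup.index]
  refine Nat.card_le_card_of_injective (fun i => ((⟨f i, hf i⟩ : ↥Y) : ↥Y ⧸ K.subgroupOf Y)) fun i j e => ?_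
  by_contra hij
  have h1 := QuotientGroup.eq.1 e
  rw [mem_subgroupOf] at h1
  exact hne i j hij h1

/-- Two commuting involutions in an elementary abelian group of order at least eight. -/
theorem exists_pair_of_elem {A : Subgroup G} (hA : Cfsg.IsElementaryAbelian 2 A) (h8 : 8 ≤ Nat.card ↥A) :
    ∃ a ∈ A, ∃ b ∈ A, orderOf a = 2 ∧ orderOf b = 2 ∧ a ≠ b ∧ Commute a b := by
  haveI : IsMulCommutative ↥A := hA.1
  have h1 : ∀ a : ↥A, (a : G) ≠ 1 → orderOf (a : G) = 2 := fun a ha => by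
    rw [Basic.orderOf_two_iff]
    refine ⟨?_, ha⟩
    rw [← pow_two]
    exact hA.2 a a.2
  haveI : Nontrivial ↥A := Finite.one_lt_card_iff_nontrivial.1 (by omega)
  obtain ⟨a, ha⟩ := exists_ne (1 : ↥A)
  obtain ⟨b, hb1, hba⟩ : ∃ b : ↥A, b ≠ 1 ∧ b ≠ a := by
    by_contra hno
    push Not at hno
    have : Nat.card ↥A ≤ Nat.card (Fin 2) := Nat.card_le_card_of_surjective
      (fun i : Fin 2 => if i = 0 then (1 : ↥A) else a) fun b => by
        by_cases hb : b = 1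
        · exact ⟨0, by simp [hb]⟩
        · exact ⟨1, by simp [hno b hb]⟩
    rw [Nat.card_fin] at this
    omega
  exact ⟨a, a.2, b, b.2, h1 a (fun e => ha (Subtype.ext e)), h1 b (fun e => hb1 (Subtype.ext e)),
    fun e => hba (Subtype.ext e.symm), congrArg Subtype.val (IsMulCommutative.is_comm.comm a b)⟩

section

variable (h : THyp H W)
include h

/-- The index of the kernel in `Ex W x` is at least eight. -/
theorem THyp.eight_le_index (x : G ⧸ H) : 8 ≤ (Kx W x).relIndex (Ex W x) := by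
  obtain ⟨g, rfl⟩ := exists_smul_base x
  obtain ⟨A, hAH, hA, h8⟩ := h.eight
  refine h8.trans (le_relIndex_of_incong (ι := ↥A) (fun a => g * (a : G) * g⁻¹) (fun a => ?_) fun a b hab => ?_)
  · refine h.conj_mem_Ex (h.mem_Ex.2 ⟨smul_base_iff.2 (hAH a.2), ?_⟩)
    rw [← pow_two, hA.2 a a.2]; exact one_mem _
  · haveI : IsMulCommutative ↥A := hA.1
    have h1 : orderOf ((a : G)⁻¹ * b) = 2 := Basic.orderOf_two_iff.2 ⟨by
      rw [← pow_two]; exact hA.2 _ (mul_mem (inv_mem a.2) b.2), fun e => hab (Subtype.ext (inv_mul_eq_one.1 e))⟩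
    rw [show (g * (a : G) * g⁻¹)⁻¹ * (g * (b : G) * g⁻¹) = g * ((a : G)⁻¹ * b) * g⁻¹ by group]
    exact h.inv_notMem_Kx (by rw [Basic.orderOf_conj, h1])

/-- Elementary abelian subgroups of `X` at `d` of the order of its classes. -/
theorem THyp.exists_elem {X : Subgroup G} {d : G ⧸ H} (h8 : 8 ≤ (Kx W d).relIndex (X ⊓ Ex W d)) :
    ∃ A : Subgroup G, A ≤ X ∧ A ≤ stabilizer G d ∧ Cfsg.IsElementaryAbelian 2 A ∧ 8 ≤ Nat.card ↥A := by
  haveI : Fact (Nat.Prime 2) := ⟨Nat.prime_two⟩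
  set Y := X ⊓ Ex W d
  obtain ⟨S, hS⟩ := exists_isSyl (p := 2) Y
  have hsq : ∀ s ∈ S, s * s = 1 := by
    intro s hs
    obtain ⟨k, hk⟩ := hS.2.1 ⟨s, hs⟩
    have hk' : s ^ 2 ^ k = 1 := congrArg Subtype.val hk
    refine TwoEl.eq_one_of_odd ⟨k, ?_⟩ (h.odd_orderOf (h.mem_Ex.1 (mem_inf.1 (hS.1 hs)).2).2)
    rw [← pow_two, ← pow_mul, mul_comm, pow_mul, hk', one_pow]
  refine ⟨S, hS.1.trans inf_le_left, hS.1.trans (inf_le_right.trans (h.Ex_le d)),
    ⟨⟨⟨fun a b => Subtype.ext ?_⟩⟩, fun s hs => by rw [pow_two]; exact hsq s hs⟩, ?_⟩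
  · have hi : ∀ s ∈ S, s⁻¹ = s := fun s hs => inv_eq_of_mul_eq_one_right (hsq s hs)
    show (a : G) * b = b * a
    rw [← hi _ (mul_mem a.2 b.2), mul_inv_rev, hi _ a.2, hi _ b.2]
  · -- the order of `S`
    set K' := (Kx W d).subgroupOf Y
    haveI : K'.Normal := ⟨fun e he g =>
      h.Kx_normal (mem_stabilizer_iff.1 (h.Ex_le d (mem_inf.1 g.2).2)) he⟩
    obtain ⟨k, hk⟩ := (IsPGroup.iff_card (G := ↥Y ⧸ K') (p := 2)).1 fun q => by
      obtain ⟨y, rfl⟩ := QuotientGroup.mk_surjective q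
      refine ⟨1, ?_⟩
      rw [pow_one, pow_two, ← QuotientGroup.mk_mul, QuotientGroup.eq_one_iff, mem_subgroupOf]
      exact (h.mem_Ex.1 (mem_inf.1 y.2).2).2
    have hrk : (Kx W d).relIndex Y = 2 ^ k := by rw [relIndex, Subgroup.index, hk]
    rw [hrk] at h8
    refine h8.trans ?_
    rw [hS.card_eq]
    refine Nat.pow_le_pow_right two_pos ((Nat.Prime.pow_dvd_iff_le_factorization Nat.prime_two
      Nat.card_pos.ne').1 ?_)
    rw [← hk, ← Subgroup.index]
    exact index_dvd_card _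

/-- A subgroup covering the stabilizer modulo the kernel has an involution in each class. -/
theorem THyp.cover_full {x : G ⧸ H} {L : Subgroup G}
    (hcov : ∀ g ∈ stabilizer G x, ∃ k ∈ Kx W x, ∃ m ∈ L, k * m = g) {t : G} (ht : orderOf t = 2)
    (htx : t • x = x) : ∃ s ∈ L, orderOf s = 2 ∧ s • x = x ∧ s⁻¹ * t ∈ Kx W x := by
  obtain ⟨k, hk, m, hm, hkm⟩ := hcov t htx
  have hmeq : m = k⁻¹ * t := by rw [← hkm]; group
  have hmE : m ∈ Ex W x := hmeq ▸ mul_mem (inv_mem (h.Kx_le_Ex x hk)) (h.mem_Ex_of_inv ht htx)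
  have hmK : m ∉ Kx W x := fun e => h.inv_notMem_Kx ht (hkm ▸ mul_mem hk e)
  obtain ⟨s, hs, hsx, hsm, hsz⟩ := h.exists_invol hmE hmK
  refine ⟨s, zpowers_le.2 hm hsz, hs, hsx, ?_⟩
  rw [← hkm, show s⁻¹ * (k * m) = (s⁻¹ * k * s⁻¹⁻¹) * (s⁻¹ * m) by group]
  exact mul_mem (h.Kx_normal (inv_smul_eq_iff.2 hsx.symm) hk) hsm

end

/-- `X` covers the classes of involutions at `d`. -/
def Covers (W : Subgroup G) (X : Subgroup G) (d : G ⧸ H) : Prop :=
  ∀ t : G, orderOf t = 2 → t • d = d → ∃ s ∈ X, orderOf s = 2 ∧ s • d = d ∧ s⁻¹ * t ∈ Kx W d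

variable (h : THyp H W)
include h

theorem THyp.relIndex_of_covers {X : Subgroup G} {d : G ⧸ H} (hfull : Covers W X d) :
    (Kx W d).relIndex (X ⊓ Ex W d) = (Kx W d).relIndex (Ex W d) := by
  set S := stabilizer G d
  haveI : ((Kx W d).subgroupOf S).Normal := ⟨fun e he g => h.Kx_normal (mem_stabilizer_iff.1 g.2) he⟩
  set f := QuotientGroup.mk' ((Kx W d).subgroupOf S)
  rw [← relIndex_subgroupOf (H := Kx W d) (h.Ex_le d),
    ← relIndex_subgroupOf (H := Kx W d) ((inf_le_right : X ⊓ Ex W d ≤ _).trans (h.Ex_le d)),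
    ← QuotientGroup.ker_mk' ((Kx W d).subgroupOf S), relIndex_ker, relIndex_ker]
  congr 2
  refine le_antisymm (map_mono fun e he => (mem_inf.1 he).2) ?_
  rintro _ ⟨e, he, rfl⟩
  by_cases heK : (e : G) ∈ Kx W d
  · refine ⟨1, one_mem _, ?_⟩
    rw [map_one]
    exact ((QuotientGroup.eq_one_iff e).2 (mem_subgroupOf.2 heK)).symm
  obtain ⟨t, ht, htd, hte, -⟩ := h.exists_invol he heK
  obtain ⟨s, hsX, hs, hsd, hst⟩ := hfull t ht htd
  refine ⟨⟨s, mem_stabilizer_iff.2 hsd⟩, mem_inf.2 ⟨hsX, h.mem_Ex_of_inv hs hsd⟩, QuotientGroup.eq.2 ?_⟩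
  rw [mem_subgroupOf]
  show s⁻¹ * (e : G) ∈ Kx W d
  rw [show s⁻¹ * (e : G) = (s⁻¹ * t) * (t⁻¹ * e) by group]
  exact mul_mem hst hte

theorem THyp.eight_of_covers {X : Subgroup G} {d : G ⧸ H} (hfull : Covers W X d) :
    8 ≤ (Kx W d).relIndex (X ⊓ Ex W d) := (h.eight_le_index d).trans (h.relIndex_of_covers hfull).ge

/-- Covering passes along the orbit. -/
theorem THyp.covers_smul {X : Subgroup G} {d : G ⧸ H} (hfull : Covers W X d) {x : G} (hx : x ∈ X) :
    Covers W X (x • d) := by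
  intro t ht htx
  have htd : (x⁻¹ * t * x) • d = d := by rw [mul_smul, mul_smul, htx, inv_smul_smul]
  obtain ⟨s, hs, hs2, hsd, hst⟩ := hfull (x⁻¹ * t * x) (by
    rw [show x⁻¹ * t * x = x⁻¹ * t * x⁻¹⁻¹ by rw [inv_inv], Basic.orderOf_conj, ht]) htd
  refine ⟨x * s * x⁻¹, mul_mem (mul_mem hx hs) (inv_mem hx), by rw [Basic.orderOf_conj, hs2],
    conj_smul_fix hsd, ?_⟩
  rw [h.mem_Kx_smul, show x⁻¹ * ((x * s * x⁻¹)⁻¹ * t) * x = s⁻¹ * (x⁻¹ * t * x) by group]
  exact hst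

variable (IH : IndHyp G)
include IH

/-- By induction the odd normal subgroups of the stabilizer of `d` in `X` fix the orbit of `d`. -/
theorem THyp.slice_core {X : Subgroup G} (hX : X ≠ ⊤) {d : G ⧸ H} (hmov : ∃ x ∈ X, x • d ≠ d)
    (h8 : 8 ≤ (Kx W d).relIndex (X ⊓ Ex W d)) :
    oc X ≤ stabilizer G d ∧
    ∀ N : Subgroup G, N ≤ X ⊓ stabilizer G d → Odd (Nat.card ↥N) →
      X ⊓ stabilizer G d ≤ normalizer (N : Set G) → N ≤ oc X := by
  obtain ⟨A, hAX, hAd, hA, hA8⟩ := h.exists_elem h8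
  obtain ⟨a, haA, b, hbA, ha, hb, hab, hc⟩ := exists_pair_of_elem hA hA8
  have haX := hAX haA
  have hbX := hAX hbA
  have had : a • d = d := hAd haA
  have hbd : b • d = d := hAd hbA
  set K := stabilizer ↥X d
  have hK : ∀ x : ↥X, x ∈ K ↔ (x : G) • d = d := fun x => Iff.rfl
  have h2 : ∀ x : ↥X, orderOf x = 2 ↔ orderOf (x : G) = 2 := fun x => by rw [Subgroup.orderOf_coe]
  have hse : Cfsg.IsStronglyEmbedded K := by
    refine StronglyEmbedded.of_conj (fun e => ?_) ?_ fun t ht ht2 g hg => ?_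
    · obtain ⟨x, hx, hxd⟩ := hmov
      exact hxd ((hK ⟨x, hx⟩).1 (e ▸ mem_top _))
    · rw [even_iff_two_dvd]
      have h1 := orderOf_dvd_natCard (⟨⟨a, haX⟩, (hK ⟨a, haX⟩).2 had⟩ : ↥K)
      rwa [Subgroup.orderOf_mk, Subgroup.orderOf_mk, ha] at h1
    · have e1 : ((g : G) * t * (g : G)⁻¹) • ((g : G) • d) = (g : G) • d := conj_smul_fix ((hK t).1 ht)
      exact (hK g).2 (h.eq_of_fixed (by rw [Basic.orderOf_conj]; exact (h2 t).1 ht2) e1 ((hK _).1 hg))
  set W0 : Subgroup ↥X := (Kx W d).subgroupOf X ⊓ K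
  have hW0 : W0 ≤ oc K := by
    refine le_oc inf_le_right ?_ fun g hg => mem_normalizer_fintype fun e he =>
      mem_inf.2 ⟨h.Kx_normal ((hK g).1 hg) (mem_inf.1 he).1,
        mul_mem (mul_mem hg (mem_inf.1 he).2) (inv_mem hg)⟩
    rw [← card_map_of_injective X.subtype_injective]
    refine (h.odd_Kx d).of_dvd_nat (card_dvd_of_le ?_)
    rintro _ ⟨e, he, rfl⟩
    exact he.1
  haveI : (Cfsg.oddCore ↥K).Normal := PLocal.Cores.pPrimeCore_normal'
  have hmem : ∀ x : ↥K, (x : ↥X) ∈ oc K ↔ x ∈ Cfsg.oddCore ↥K := fun x =>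
    ⟨fun ⟨y, hy, e⟩ => Subtype.ext (a1 := y) (a2 := x) e ▸ hy, fun hx => ⟨x, hx, rfl⟩⟩
  have hT : ∀ z : ↥K, TwoEl z → ((z : ↥X) : G) ∈ Tx W d := fun z hz2 =>
    h.mem_Tx.2 ⟨(hK _).1 z.2, hz2.imp fun k hk => by
      rw [← Subgroup.coe_pow, ← Subgroup.coe_pow, hk, OneMemClass.coe_one, OneMemClass.coe_one]
      exact one_mem _⟩
  have hyp : Hyp K (oc K) := by
    refine ⟨hse, oc_le K, le_normalizer_oc K, odd_oc K, fun x hx y hy hxk hyk => ?_,
      A.subgroupOf X, fun e he => (hK e).2 (hAd he), ⟨⟨⟨fun x y => Subtype.ext (Subtype.ext ?_)⟩⟩,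
        fun x hx => Subtype.ext ?_⟩, hA8.trans (Nat.card_congr (subgroupOfEquivOfLe hAX).toEquiv).ge⟩
    · obtain ⟨x', -, hx2, hxx⟩ := exists_twoEl (N := Cfsg.oddCore ↥K) (x := ⟨x, hx⟩)
        (hxk.imp fun i hi => (hmem _).1 hi)
      obtain ⟨y', -, hy2, hyy⟩ := exists_twoEl (N := Cfsg.oddCore ↥K) (x := ⟨y, hy⟩)
        (hyk.imp fun i hi => (hmem _).1 hi)
      obtain ⟨-, k, hk⟩ := h.mem_Tx.1 (mul_mem (hT x' hx2) (hT y' hy2))
      have h1 : ((x' * y' : ↥K) : ↥X) ^ 2 ^ k ∈ oc K := hW0 (mem_inf.2 ⟨hk, pow_mem (x' * y').2 _⟩)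
      refine ⟨k, (hmem ((⟨x, hx⟩ * ⟨y, hy⟩) ^ 2 ^ k)).2 ?_⟩
      rw [← QuotientGroup.eq_one_iff, QuotientGroup.mk_pow, QuotientGroup.mk_mul,
        ← QuotientGroup.eq.2 hxx, ← QuotientGroup.eq.2 hyy, ← QuotientGroup.mk_mul,
        ← QuotientGroup.mk_pow, QuotientGroup.eq_one_iff, ← hmem]
      exact h1
    · show ((x : ↥X) : G) * (y : ↥X) = (y : ↥X) * (x : ↥X)
      exact congrArg Subtype.val (hA.1.is_comm.comm (⟨_, x.2⟩ : ↥A) ⟨_, y.2⟩)
    · exact hA.2 _ hx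
  have hle := IH X hX K (oc K) hyp
  constructor
  · refine SECore.le_of_four (odd_oc X) (Basic.inv_sq_one ha) (Basic.inv_sq_one hb) hc
      (le_normalizer_oc X haX) (le_normalizer_oc X hbX) fun y _ hy => ?_
    rcases hy with hy | hy | hy
    · exact h.smul_of_commute ha had hy
    · exact h.smul_of_commute hb hbd hy
    · refine h.smul_of_commute (t := a * b) (Basic.orderOf_two_iff.2 ⟨?_, fun e => hab ?_⟩) ?_ hy
      · rw [show a * b * (a * b) = a * (b * a) * b by group, ← hc.eq,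
          show a * (a * b) * b = (a * a) * (b * b) by group, Basic.inv_sq_one ha, Basic.inv_sq_one hb, one_mul]
      · rw [← Basic.inv_eq hb]; exact eq_inv_of_mul_eq_one_left e
      · rw [mul_smul, hbd, had]
  · intro N hN hodd hn e he
    have h1 : N.subgroupOf X ≤ oc K := by
      refine le_oc (fun x hx => (hK x).2 (mem_inf.1 (hN hx)).2) ?_ fun g hg =>
        mem_normalizer_fintype fun x hx => (mem_normalizer_iff.1 (hn (mem_inf.2 ⟨g.2, (hK g).1 hg⟩)) x).1 hx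
      rwa [Nat.card_congr (subgroupOfEquivOfLe (hN.trans inf_le_left)).toEquiv]
    exact ⟨⟨e, (mem_inf.1 (hN he)).1⟩, hle (h1 he), rfl⟩

/-- An odd normal subgroup of the stabilizer of `d` in `X` fixes the orbit of `d`. -/
theorem THyp.slice_fix {X : Subgroup G} (hX : X ≠ ⊤) {d : G ⧸ H} (hmov : ∃ x ∈ X, x • d ≠ d)
    (h8 : 8 ≤ (Kx W d).relIndex (X ⊓ Ex W d)) {N : Subgroup G} (hN : N ≤ X ⊓ stabilizer G d)
    (hodd : Odd (Nat.card ↥N)) (hn : X ⊓ stabilizer G d ≤ normalizer (N : Set G)) {x : G} (hx : x ∈ X) :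
    N ≤ stabilizer G (x • d) := by
  obtain ⟨hO, hle⟩ := h.slice_core IH hX hmov h8
  exact (hle N hN hodd hn).trans (smul_fix_of_normalizer (le_normalizer_oc X hx) hO)

/-- The odd core lies between the kernel and `Ux W` of each point of the orbit. -/
theorem THyp.slice_full {X : Subgroup G} (hX : X ≠ ⊤) {d : G ⧸ H} (hmov : ∃ x ∈ X, x • d ≠ d)
    (hfull : Covers W X d) {x : G} (hx : x ∈ X) :
    X ⊓ Kx W (x • d) ≤ oc X ∧ oc X ≤ Ux W (x • d) := by
  obtain ⟨hO, hle⟩ := h.slice_core IH hX hmov (h.eight_of_covers hfull)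
  have heq : X ⊓ Kx W d ≤ oc X := hle _ (inf_le_inf_left _ (h.Kx_le d))
      ((h.odd_Kx d).of_dvd_nat (card_dvd_of_le inf_le_right)) fun g hg => mem_normalizer_fintype fun e he =>
      mem_inf.2 ⟨mul_mem (mul_mem (mem_inf.1 hg).1 (mem_inf.1 he).1) (inv_mem (mem_inf.1 hg).1),
        h.Kx_normal (mem_inf.1 hg).2 (mem_inf.1 he).2⟩
  have hU : oc X ≤ Ux W d := fun y hy => by
    refine h.mem_Ux_of_cent (hO hy) fun i hi hid => ?_
    obtain ⟨j, hjX, hj, hjd, hji⟩ := hfull i hi hid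
    have hjT := h.mem_Tx_of_inv (Basic.inv_sq_one hj) hjd
    have h1 : y * j * y⁻¹ * j⁻¹ ∈ Kx W d := by
      refine h.odd_mem_Kx (mul_mem (h.Tx_normal (hO hy) hjT) (inv_mem hjT)) ?_
      refine SECore.odd_orderOf_of_mem (odd_oc X) ?_
      rw [show y * j * y⁻¹ * j⁻¹ = y * (j * y⁻¹ * j⁻¹) by group]
      exact mul_mem hy ((mem_normalizer_iff.1 (le_normalizer_oc X hjX) _).1 (inv_mem hy))
    rw [show y * i * y⁻¹ * i⁻¹ =
      (y * j * y⁻¹ * j⁻¹) * (j * ((y * (j⁻¹ * i) * y⁻¹) * (j⁻¹ * i)⁻¹) * j⁻¹) by group]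
    exact mul_mem h1 (h.Kx_normal hjd (mul_mem (h.Kx_normal (hO hy) hji) (inv_mem hji)))
  constructor <;> intro e he
  · obtain ⟨heX, heK⟩ := mem_inf.1 he
    have h1 := heq (mem_inf.2 ⟨mul_mem (mul_mem (inv_mem hx) heX) hx, h.mem_Kx_smul.1 heK⟩)
    simpa [mul_assoc] using (mem_normalizer_iff.1 (le_normalizer_oc X hx) _).1 h1
  · have h1 := (mem_normalizer_iff.1 (le_normalizer_oc X (inv_mem hx)) _).1 he
    simpa [mul_assoc] using h.conj_mem_Ux (g := x) (hU h1)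

/-- When `X` covers the stabilizer modulo the kernel its odd core is the intersection with each kernel. -/
theorem THyp.slice_cover {X : Subgroup G} (hX : X ≠ ⊤) {d : G ⧸ H} (hmov : ∃ x ∈ X, x • d ≠ d)
    (hcov : ∀ g ∈ stabilizer G d, ∃ k ∈ Kx W d, ∃ m ∈ X, k * m = g) {x : G} (hx : x ∈ X) :
    X ⊓ Kx W (x • d) = oc X := by
  have hfull : Covers W X d := fun t ht htd => h.cover_full hcov ht htd
  obtain ⟨hO, -⟩ := h.slice_core IH hX hmov (h.eight_of_covers hfull)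
  have hON : oc X ≤ normalizer (Kx W d : Set G) := hO.trans (h.stab_le_normalizer_Kx d)
  have hOK : oc X ≤ Kx W d := by
    refine le_sup_right.trans (h.oddNormal_le (N := Kx W d ⊔ oc X) (sup_le (h.Kx_le d) hO) ?_ fun g hg => ?_)
    · by_contra hodd
      rw [Nat.not_odd_iff_even] at hodd
      obtain ⟨t, ht, ht2⟩ := StronglyEmbedded.exists_involution_mem hodd
      obtain ⟨k, hk, o, ho, rfl⟩ := (Coprime.mem_sup_of_le_normalizer hON).1 ht
      have h1 : o * o ∈ Kx W d := by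
        have e : o * o = o * k⁻¹ * o⁻¹ * k⁻¹ := by
          have e1 : o * k * o = k⁻¹ := by
            calc o * k * o = k⁻¹ * (k * o * (k * o)) := by group
              _ = k⁻¹ := by rw [Basic.inv_sq_one ht2, mul_one]
          calc o * o = o * k⁻¹ * o⁻¹ * (o * k * o) := by group
            _ = _ := by rw [e1]
        rw [e]
        exact mul_mem (h.Kx_normal (mem_stabilizer_iff.1 (hO ho)) (inv_mem hk)) (inv_mem hk)
      obtain ⟨m, hm⟩ := exists_pow_eq_self_of_coprime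
        (Nat.coprime_two_left.2 (SECore.odd_orderOf_of_mem (odd_oc X) ho))
      have h2 : o ∈ Kx W d := hm ▸ pow_mem (by rwa [pow_two]) m
      exact h.inv_notMem_Kx ht2 (mul_mem hk h2)
    · obtain ⟨k, hk, m, hm, rfl⟩ := hcov g hg
      have hmd : m ∈ stabilizer G d := by
        have := mul_mem (inv_mem (h.Kx_le d hk)) hg
        rwa [inv_mul_cancel_left] at this
      refine mul_mem (le_normalizer (mem_sup_left hk)) (mem_normalizer_fintype fun e he => ?_)
      obtain ⟨c, hc, o, ho, rfl⟩ := (Coprime.mem_sup_of_le_normalizer hON).1 he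
      rw [SetLike.mem_coe, show m * (c * o) * m⁻¹ = (m * c * m⁻¹) * (m * o * m⁻¹) by group]
      exact mul_mem_sup (h.Kx_normal hmd hc) ((mem_normalizer_iff.1 (le_normalizer_oc X hm) o).1 ho)
  refine le_antisymm (h.slice_full IH hX hmov hfull hx).1 (le_inf (oc_le X) fun e he => ?_)
  have h1 := (mem_normalizer_iff.1 (le_normalizer_oc X (inv_mem hx)) _).1 he
  simpa [mul_assoc] using h.conj_mem_Kx (g := x) (hOK h1)

end Cfsg.Agent.SECoreTwoClosed
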