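import Cfsg.Agent.Lib.SECoreTwoClosed.Core.Semireg

/-!
# The core lemma: Sylow subgroups at a point

The Sylow 2-subgroups of a point stabilizer are conjugate under `Kx W x`; a Sylow `p`-subgroup of a two-point
stabilizer is Sylow at each point and meets `Kx W x` in a Sylow subgroup of `Kx W x`.
-/

set_option autoImplicit false
set_option linter.style.haveILetI false
set_option linter.unusedSectionVars false

namespace Cfsg.Agent.SECoreTwoClosed

open Subgroup MulAction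
open Cfsg.Agent.Involutions
open Cfsg.Agent.SETwoClosed (cj mem_cj conj_mem_cj cj_cj cj_one card_cj cj_eq_self isPGroup_cj TwoEl IsSyl
  exists_isSyl exists_isSyl_ge mem_normalizer_of_cj)

universe u

variable {G : Type u} [Group G] [Finite G]

theorem isPGroup_zpowers_of_pow {G : Type u} [Group G] {l : ℕ} {y : G} (hy : ∃ k : ℕ, y ^ l ^ k = 1) :
    IsPGroup l ↥(zpowers y) := by
  obtain ⟨k, hk⟩ := hy
  intro z
  obtain ⟨i, hi⟩ := mem_zpowers_iff.1 z.2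
  refine ⟨k, Subtype.ext ?_⟩
  rw [Subgroup.coe_pow, ← hi, OneMemClass.coe_one, ← zpow_natCast, ← zpow_mul, mul_comm, zpow_mul,
    zpow_natCast, hk, one_zpow]

theorem exists_pow_eq_one_of_mem {G : Type u} [Group G] {l : ℕ} {R : Subgroup G} (hR : IsPGroup l ↥R) {y : G}
    (hy : y ∈ R) : ∃ k : ℕ, y ^ l ^ k = 1 :=
  (hR ⟨y, hy⟩).imp fun _ hk => congrArg Subtype.val hk

/-- A group whose elements are `q`-elements modulo a normal subgroup is that subgroup times a Sylow subgroup. -/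
theorem exists_mul_of_pow_mem {q : ℕ} [hq : Fact q.Prime] {K Y T : Subgroup G} (hK : K ≤ Y)
    (hn : Y ≤ normalizer (K : Set G)) (hpow : ∀ g ∈ Y, ∃ e : ℕ, g ^ q ^ e ∈ K) (hT : IsSyl q T Y) {g : G}
    (hg : g ∈ Y) : ∃ k ∈ K, ∃ t ∈ T, k * t = g := by
  rw [← Coprime.mem_sup_of_le_normalizer (hT.1.trans hn)]
  obtain ⟨T0, hT0⟩ := hT.exists_sylow
  set M := K ⊔ T with hM
  haveI hN : (K.subgroupOf Y).Normal := ⟨fun e he c => (mem_normalizer_iff.1 (hn c.2) _).1 he⟩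
  have h2 : IsPGroup q (↥Y ⧸ K.subgroupOf Y) := by
    intro c
    obtain ⟨e, rfl⟩ := QuotientGroup.mk'_surjective _ c
    obtain ⟨k, hk⟩ := hpow e e.2
    refine ⟨k, ?_⟩
    rw [← map_pow]
    exact (QuotientGroup.eq_one_iff _).2 hk
  obtain ⟨m, hm⟩ := IsPGroup.iff_card.1 h2
  have hd1 : M.relIndex Y ∣ q ^ m :=
    hm ▸ Subgroup.index_dvd_of_le (fun e he => (le_sup_left : K ≤ M) he)
  have hd2 : M.relIndex Y ∣ (T0 : Subgroup ↥Y).index :=
    Subgroup.index_dvd_of_le fun e he => (le_sup_right : T ≤ M) (hT0 ▸ ⟨e, he, rfl⟩)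
  have h1 : M.relIndex Y = 1 := Nat.eq_one_of_dvd_coprimes
    (((Nat.Prime.coprime_iff_not_dvd hq.out).2 T0.not_dvd_index).pow_left m) hd1 hd2
  exact relIndex_eq_one.1 h1 hg

variable {H W : Subgroup G}

theorem THyp.two_le_Tx (h : THyp H W) {S : Subgroup G} (hS : IsPGroup 2 ↥S) {x : G ⧸ H}
    (hSx : S ≤ stabilizer G x) : S ≤ Tx W x := fun s hs => h.mem_Tx.2 ⟨mem_stabilizer_iff.1 (hSx hs),
  (exists_pow_eq_one_of_mem hS hs).imp fun _ hk => by rw [hk]; exact one_mem _⟩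

/-- An element of the kernel normalizing a 2-subgroup of the stabilizer centralizes it. -/
theorem THyp.commute_of_normalizer (h : THyp H W) {S : Subgroup G} (hS : IsPGroup 2 ↥S) {x : G ⧸ H}
    (hSx : S ≤ stabilizer G x) {y : G} (hy : y ∈ Kx W x) (hyS : y ∈ normalizer (S : Set G)) {s : G}
    (hs : s ∈ S) : Commute y s := by
  refine (mul_inv_eq_iff_eq_mul.1 (mul_inv_eq_one.1 ?_) : y * s = s * y)
  refine TwoEl.eq_one_of_odd (exists_pow_eq_one_of_mem hS (mul_mem ((mem_normalizer_iff.1 hyS s).1 hs)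
    (inv_mem hs))) (h.odd_orderOf (x := x) ?_)
  rw [show y * s * y⁻¹ * s⁻¹ = y * (s * y⁻¹ * s⁻¹) by group]
  exact mul_mem hy (h.Kx_normal (mem_stabilizer_iff.1 (hSx hs)) (inv_mem hy))

/-- The Sylow 2-subgroups of a stabilizer are conjugate under the kernel. -/
theorem THyp.conj_syl_two (h : THyp H W) {x : G ⧸ H} {S Q : Subgroup G} (hS : IsSyl 2 S (stabilizer G x))
    (hQ : IsSyl 2 Q (stabilizer G x)) : ∃ k ∈ Kx W x, cj k S = Q := by
  haveI : Fact (Nat.Prime 2) := ⟨Nat.prime_two⟩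
  have hT : ∀ R : Subgroup G, IsSyl 2 R (stabilizer G x) → IsSyl 2 R (Tx W x) := fun R hR =>
    ⟨h.two_le_Tx hR.2.1 hR.1, hR.2.1, fun P hle hP hP2 => hR.2.2 P hle (hP.trans (h.Tx_le x)) hP2⟩
  obtain ⟨d, hd, hdQ⟩ := (hT S hS).conj (hT Q hQ)
  obtain ⟨k, hk, s, hs, rfl⟩ := exists_mul_of_pow_mem (h.Kx_le_Tx x)
    ((h.Tx_le x).trans (h.stab_le_normalizer_Kx x)) (fun c hc => (h.mem_Tx.1 hc).2) (hT S hS) hd
  exact ⟨k, hk, by rw [← hdQ, ← cj_cj, cj_eq_self (le_normalizer hs)]⟩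

variable {n p : ℕ} (hF : Facts H W n p)
include hF

theorem Facts.fact : Fact p.Prime := ⟨hF.par.prime⟩

/-- A Sylow subgroup of a two-point stabilizer is Sylow in each stabilizer. -/
theorem Facts.syl_stab {x y : G ⧸ H} (hxy : x ≠ y) {T : Subgroup G} (hT : IsSyl p T (Dp x y)) :
    IsSyl p T (stabilizer G x) :=
  ⟨hT.1.trans inf_le_left, hT.2.1, fun Q hle _ hQ =>
    (eq_of_le_of_card_ge hle (hF.sylow x y T Q hxy hT hQ)).symm⟩

/-- It meets the kernel in a Sylow subgroup of the kernel. -/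
theorem Facts.syl_Kx {x y : G ⧸ H} (hxy : x ≠ y) {T : Subgroup G} (hT : IsSyl p T (Dp x y)) :
    IsSyl p (T ⊓ Kx W x) (Kx W x) := by
  have h := hF.par.hyp
  haveI := hF.par.fact
  refine ⟨inf_le_right, hT.2.1.to_le inf_le_left, fun Q hle hQK hQ => ?_⟩
  obtain ⟨S, hQS, hS⟩ := exists_isSyl_ge hQ (hQK.trans (h.Kx_le x))
  obtain ⟨d, hd, hdT⟩ := hS.conj (hF.syl_stab hxy hT)
  refine (eq_of_le_of_card_ge hle ?_).symm
  rw [← card_cj d Q]
  refine card_le_of_le ?_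
  rintro _ ⟨q, hq, rfl⟩
  exact mem_inf.2 ⟨hdT ▸ conj_mem_cj (hQS hq), h.Kx_normal (mem_stabilizer_iff.1 hd) (hQK hq)⟩

/-- The Frattini argument at a point. -/
theorem Facts.frattini {x y : G ⧸ H} (hxy : x ≠ y) {T : Subgroup G} (hT : IsSyl p T (Dp x y)) {g : G}
    (hg : g ∈ stabilizer G x) :
    ∃ k ∈ Kx W x, ∃ m ∈ stabilizer G x ⊓ normalizer ((T ⊓ Kx W x : Subgroup G) : Set G), k * m = g := by
  have h := hF.par.hyp
  haveI := hF.par.fact
  have hP := hF.syl_Kx hxy hT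
  have hgK : cj g (T ⊓ Kx W x) ≤ Kx W x := by
    rintro _ ⟨r, hr, rfl⟩
    exact h.Kx_normal (mem_stabilizer_iff.1 hg) (mem_inf.1 hr).2
  obtain ⟨k, hk, hkg⟩ := hP.conj (hP.of_card (isPGroup_cj hP.2.1 g) hgK (le_of_eq (card_cj _ _).symm))
  refine ⟨k, hk, k⁻¹ * g, mem_inf.2 ⟨mul_mem (inv_mem (h.Kx_le x hk)) hg, mem_normalizer_of_cj ?_⟩,
    mul_inv_cancel_left k g⟩
  rw [← cj_cj, ← hkg, cj_cj, inv_mul_cancel, cj_one]

end Cfsg.Agent.SECoreTwoClosed
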