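import Cfsg.Agent.Lib.SECoreTwoClosed.Core.Pairs

/-!
# The core lemma: double transitivity

All two-point stabilizers have Sylow `p`-subgroups of the same order, a `p`-subgroup outside a kernel fixes at
most two points, and the group is transitive on ordered pairs of distinct points.
-/

set_option autoImplicit false
set_option linter.style.haveILetI false
set_option linter.unusedSectionVars false

namespace Cfsg.Agent.SECoreTwoClosed

open Subgroup MulAction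
open Cfsg.Agent.Involutions
open Cfsg.Agent.SETwoClosed (cj mem_cj conj_mem_cj cj_cj card_cj isPGroup_cj IsSyl exists_isSyl
  exists_isSyl_ge exists_mem_normalizer mem_normalizer_of_cj mem_normalizer_of_le ncard_fixed_modEq)

universe u

variable {G : Type u} [Group G] [Finite G] {H W : Subgroup G}

/-- All pairs of fixed points of `R` have the largest Sylow subgroups. -/
def Big (p Mx : ℕ) (R : Subgroup G) : Prop :=
  ∀ a b : G ⧸ H, a ≠ b → R ≤ stabilizer G a → R ≤ stabilizer G b →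
    ∀ S : Subgroup G, IsSyl p S (Dp a b) → Mx ≤ Nat.card ↥S

/-- The facts about pairs of points. -/
structure Facts (H W : Subgroup G) (n p : ℕ) : Prop where
  par : Par H W n p
  trans2 : ∀ x y x' y' : G ⧸ H, x ≠ y → x' ≠ y' → ∃ g : G, g • x = x' ∧ g • y = y'
  sylow : ∀ (x y : G ⧸ H) (T Q : Subgroup G), x ≠ y → IsSyl p T (Dp x y) → IsPGroup p ↥Q →
    Nat.card ↥Q ≤ Nat.card ↥T
  syl_U : ∀ (x y : G ⧸ H) (T : Subgroup G), x ≠ y → IsSyl p T (Dp x y) → T ⊓ Ux W x = T ⊓ Ux W y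
  syl_K : ∀ (x y : G ⧸ H) (T : Subgroup G), x ≠ y → IsSyl p T (Dp x y) → ¬ Absorb p x →
    T ⊓ Kx W x = T ⊓ Kx W y
  fix_syl : ∀ (x y z : G ⧸ H) (T : Subgroup G), x ≠ y → IsSyl p T (Dp x y) → T ≤ stabilizer G z →
    z = x ∨ z = y
  fix_two : ∀ (x y z : G ⧸ H) (R : Subgroup G), x ≠ y → IsPGroup p ↥R → R ≤ stabilizer G x →
    R ≤ stabilizer G y → R ≤ stabilizer G z → ¬ R ≤ Ux W x → z = x ∨ z = y

variable {n p : ℕ} (hP : Par H W n p) [FaithfulSMul G (G ⧸ H)] (IH : IndHyp G)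
include hP IH

/-- A `p`-subgroup outside a kernel all whose pairs are largest fixes at most two points. -/
theorem Par.fix_two_gen (Mx : ℕ)
    (hM : ∀ x' y' : G ⧸ H, x' ≠ y' → ∀ T' : Subgroup G, IsSyl p T' (Dp x' y') → Nat.card ↥T' ≤ Mx)
    {x y z : G ⧸ H} {R : Subgroup G} (hxy : x ≠ y) (hR : IsPGroup p ↥R) (hx : R ≤ stabilizer G x)
    (hy : R ≤ stabilizer G y) (hz : R ≤ stabilizer G z) (hbig : Big (H := H) p Mx R)
    (hU : ¬ R ≤ Ux W x) : z = x ∨ z = y := by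
  classical
  haveI := hP.fact
  have h := hP.hyp
  by_contra hzxy
  obtain ⟨R, ⟨hR, hbig, x, y, z, hxy, hzxy, hx, hy, hz, hU⟩, hmax⟩ := Set.exists_max_image
    {R : Subgroup G | IsPGroup p ↥R ∧ Big (H := H) p Mx R ∧ ∃ x y z : G ⧸ H, x ≠ y ∧ ¬ (z = x ∨ z = y) ∧
      R ≤ stabilizer G x ∧ R ≤ stabilizer G y ∧ R ≤ stabilizer G z ∧ ¬ R ≤ Ux W x}
    (fun R => Nat.card ↥R) (Set.toFinite _) ⟨R, hR, hbig, x, y, z, hxy, hzxy, hx, hy, hz, hU⟩
  push Not at hzxy
  set Φ : Set (G ⧸ H) := {v | R ≤ stabilizer G v} with hΦ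
  have hUall : ∀ v ∈ Φ, ¬ R ≤ Ux W v := fun v hv hle => by
    by_cases hvx : v = x
    · exact hU (hvx ▸ hle)
    · obtain ⟨S, hRS, hS⟩ := exists_isSyl_ge hR (show R ≤ Dp v x from le_inf hv hx)
      refine hU fun r hr => ?_
      have h1 : r ∈ S ⊓ Ux W v := mem_inf.2 ⟨hRS hr, hle hr⟩
      rw [hP.max_U hvx hS (fun a b hab S' hS' => (hM a b hab S' hS').trans (hbig v x hvx hv hx S hS)) IH] at h1
      exact (mem_inf.1 h1).2
  set Y := normalizer (R : Set G)
  -- the larger subgroups fix two points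
  have hlarge : ∀ Q : Subgroup G, IsPGroup p ↥Q → R ≤ Q → Nat.card ↥R < Nat.card ↥Q →
      ∀ v w d : G ⧸ H, v ≠ w → Q ≤ stabilizer G v → Q ≤ stabilizer G w → Q ≤ stabilizer G d →
        d = v ∨ d = w := by
    intro Q hQ hRQ hlt v w d hvw hv hw hd
    by_contra hdvw
    exact (hmax Q ⟨hQ, fun a b hab ha hb => hbig a b hab (hRQ.trans ha) (hRQ.trans hb), v, w, d, hvw, hdvw, hv, hw, hd, fun hle =>
      hUall v (hRQ.trans hv) (hRQ.trans hle)⟩).not_gt hlt
  have hN : ∀ v ∈ Φ, ∀ w ∈ Φ, v ≠ w → ∃ N : Subgroup G, IsPGroup p ↥N ∧ R ≤ N ∧ N ≤ Y ∧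
      Nat.card ↥R < Nat.card ↥N ∧ N ≤ stabilizer G v ∧ N ≤ stabilizer G w := by
    intro v hv w hw hvw
    obtain ⟨T, hRT, hT⟩ := exists_isSyl_ge hR (show R ≤ Dp v w from le_inf hv hw)
    have hne : R ≠ T := by
      rintro rfl
      have hf : ∀ l : G ⧸ H, R ≤ stabilizer G l → l = v ∨ l = w := fun l hl =>
        hP.max_fix hvw hT (fun a b hab S' hS' => (hM a b hab S' hS').trans (hbig v w hvw hv hw _ hT)) hl
      rcases hf x hx with rfl | rfl <;> rcases hf y hy with rfl | rfl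
      · exact hxy rfl
      · rcases hf z hz with e | e
        exacts [hzxy.1 e, hzxy.2 e]
      · rcases hf z hz with e | e
        exacts [hzxy.2 e, hzxy.1 e]
      · exact hxy rfl
    obtain ⟨g, hgT, hgR, hgn⟩ := exists_mem_normalizer hT.2.1 (lt_of_le_of_ne hRT hne)
    refine ⟨T ⊓ Y, hT.2.1.to_le inf_le_left, le_inf hRT le_normalizer, inf_le_right, ?_,
      inf_le_left.trans (hT.1.trans inf_le_left), inf_le_left.trans (hT.1.trans inf_le_right)⟩
    by_contra hle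
    exact hgR ((eq_of_le_of_card_ge (le_inf hRT le_normalizer) (not_lt.1 hle)).symm.le
      (mem_inf.2 ⟨hgT, hgn⟩))
  have hinv : ∀ g ∈ Y, ∀ v ∈ Φ, g • v ∈ Φ := fun g hg v hv => smul_fix_of_normalizer hg hv
  obtain ⟨N0, hN0p, hRN0, hN0Y, hN0lt, hN0x, hN0y⟩ := hN x hx y hy hxy
  have hΦ2 : Φ.ncard ≡ 2 [MOD p] := by
    have h1 := ncard_fixed_modEq hN0p (S := Φ) fun g hg v hv => hinv g (hN0Y hg) v hv
    have e : {v ∈ Φ | ∀ g ∈ N0, g • v = v} = {x, y} := by
      ext v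
      refine ⟨fun hv => hlarge N0 hN0p hRN0 hN0lt x y v hxy hN0x hN0y fun g hg => hv.2 g hg, ?_⟩
      rintro (rfl | rfl)
      exacts [⟨hx, fun g hg => hN0x hg⟩, ⟨hy, fun g hg => hN0y hg⟩]
    rwa [e, Set.ncard_pair hxy] at h1
  obtain ⟨L, hN0L, hL⟩ := exists_isSyl_ge hN0p hN0Y
  have hRL : R ≤ L := hRN0.trans hN0L
  have hLlt : Nat.card ↥R < Nat.card ↥L := hN0lt.trans_le (card_le_of_le hN0L)
  obtain ⟨l1, l2, hl1, hl2, hl12, hL1, hL2⟩ : ∃ l1 l2 : G ⧸ H, l1 ∈ Φ ∧ l2 ∈ Φ ∧ l1 ≠ l2 ∧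
      L ≤ stabilizer G l1 ∧ L ≤ stabilizer G l2 := by
    have h1 := (ncard_fixed_modEq hL.2.1 (S := Φ) fun g hg v hv => hinv g (hL.1 hg) v hv).symm.trans hΦ2
    have h3 : 1 < {v ∈ Φ | ∀ g ∈ L, g • v = v}.ncard := by
      by_contra hle
      have hp3 : 3 ≤ p := by
        have := hP.prime.two_le
        have := hP.p_ne_two
        omega
      have := Nat.ModEq.eq_of_lt_of_lt h1 (by omega) (by omega)
      omega
    obtain ⟨l1, hl1, l2, hl2, hne⟩ := (Set.one_lt_ncard (Set.toFinite _)).1 h3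
    exact ⟨l1, l2, hl1.1, hl2.1, hne, fun g hg => hl1.2 g hg, fun g hg => hl2.2 g hg⟩
  -- transitivity on unordered pairs
  have hpair : ∀ v ∈ Φ, ∀ w ∈ Φ, v ≠ w → ∃ k ∈ Y, (k • l1 = v ∧ k • l2 = w) ∨ (k • l1 = w ∧ k • l2 = v) := by
    intro v hv w hw hvw
    obtain ⟨N, hNp, hRN, hNY, hNlt, hNv, hNw⟩ := hN v hv w hw hvw
    obtain ⟨L', hNL', hL'⟩ := exists_isSyl_ge hNp hNY
    obtain ⟨k, hk, hkL⟩ := hL.conj hL'
    have hfix : ∀ l : G ⧸ H, L ≤ stabilizer G l → k • l = v ∨ k • l = w := fun l hl =>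
      hlarge N hNp hRN hNlt v w (k • l) hvw hNv hNw fun g hg => by
        obtain ⟨r, hr, rfl⟩ := hkL.symm ▸ hNL' hg
        exact stab_conj (hl hr)
    refine ⟨k, hk, ?_⟩
    rcases hfix l1 hL1 with h1 | h1 <;> rcases hfix l2 hL2 with h2 | h2
    · exact absurd (MulAction.injective k (h1.trans h2.symm)) hl12
    · exact Or.inl ⟨h1, h2⟩
    · exact Or.inr ⟨h1, h2⟩
    · exact absurd (MulAction.injective k (h1.trans h2.symm)) hl12
  have hnofix : ∀ t ∈ Y, orderOf t = 2 → ∀ v ∈ Φ, t • v ≠ v := fun t htY ht v hv htv =>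
    hUall v hv (hP.le_Ux_of_inv hR hv ht htY htv)
  have hrank : SECore.RankOne Y := by
    intro a ha b hb ha2 hb2 hab
    by_contra hne
    obtain ⟨f, hf⟩ := h.exists_fixed (H := H) ha2
    exact hnofix a ha ha2 f (h.le_stab_of_four (hP.odd_card hR) ha hb ha2 hb2 hab hne hf) hf
  by_cases hinvol : ∃ t ∈ Y, orderOf t = 2
  · obtain ⟨t, htY, ht⟩ := hinvol
    have htx := hnofix t htY ht x hx
    obtain ⟨k0, hk0, hk0'⟩ := hpair x hx (t • x) (hinv t htY x hx) (Ne.symm htx)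
    -- `t₀` swaps `l1` and `l2`
    set t0 := k0⁻¹ * t * k0
    have ht0 : t0 • l1 = l2 ∧ t0 • l2 = l1 := by
      have htt : t • t • x = x := by rw [smul_smul, Basic.inv_sq_one ht, one_smul]
      simp only [t0, mul_smul]
      rcases hk0' with ⟨e1, e2⟩ | ⟨e1, e2⟩ <;> rw [e1, e2, htt]
      · exact ⟨by rw [← e2, inv_smul_smul], by rw [← e1, inv_smul_smul]⟩
      · exact ⟨by rw [← e2, inv_smul_smul], by rw [← e1, inv_smul_smul]⟩
    refine hzxy.1 (hrank.no_triangle Φ (fun v hv s hs hs2 => hnofix s hs hs2 v hv) ?_ hz hy hx hzxy.2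
      hxy.symm)
    intro v hv w hw hvw
    obtain ⟨k, hk, hk'⟩ := hpair v hv w hw hvw
    refine ⟨k * t0 * k⁻¹, mul_mem (mul_mem hk (mul_mem (mul_mem (inv_mem hk0) htY) hk0)) (inv_mem hk),
      by rw [Basic.orderOf_conj, show t0 = k0⁻¹ * t * k0⁻¹⁻¹ by simp [t0], Basic.orderOf_conj, ht], ?_⟩
    rcases hk' with ⟨e1, e2⟩ | ⟨e1, e2⟩
    · rw [← e1, mul_smul, mul_smul, inv_smul_smul, ht0.1, e2]
    · rw [← e2, mul_smul, mul_smul, inv_smul_smul, ht0.2, e1]
  · -- no element swaps a pair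
    have hnoswap : ∀ g ∈ Y, ∀ v w : G ⧸ H, g • v = w → g • w = v → v = w := by
      intro g hg v w e1 e2
      have hodd : Odd (orderOf g) := by
        by_contra hev
        obtain ⟨m, hm⟩ := Nat.not_odd_iff_even.1 hev
        have hpos := orderOf_pos g
        refine hinvol ⟨g ^ m, pow_mem hg m, ?_⟩
        rw [orderOf_pow' _ (by omega), hm, Nat.gcd_eq_right (⟨2, by omega⟩ : m ∣ m + m)]
        rw [show m + m = 2 * m by omega, Nat.mul_div_cancel _ (by omega)]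
      obtain ⟨j, hj⟩ := hodd
      have h1 : g ^ 2 ∈ stabilizer G v := by rw [mem_stabilizer_iff, pow_two, mul_smul, e1, e2]
      have h2 : g = (g ^ 2) ^ (j + 1) := by
        rw [← pow_mul, show 2 * (j + 1) = orderOf g + 1 by omega, pow_succ, pow_orderOf_eq_one, one_mul]
      rw [← e1, h2]
      exact (mem_stabilizer_iff.1 (pow_mem h1 _)).symm
    set P : Set ((G ⧸ H) × (G ⧸ H)) := {q | ∃ k ∈ Y, k • l1 = q.1 ∧ k • l2 = q.2} with hPdef
    have hone : ∀ v w : G ⧸ H, (v, w) ∈ P → (w, v) ∉ P := by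
      rintro v w ⟨k, hk, e1, e2⟩ ⟨k', hk', e3, e4⟩
      simp only at e1 e2 e3 e4
      refine hl12 (hnoswap (k'⁻¹ * k) (mul_mem (inv_mem hk') hk) l1 l2 ?_ ?_)
      · rw [mul_smul, e1, ← e4, inv_smul_smul]
      · rw [mul_smul, e2, ← e3, inv_smul_smul]
    have htr : ∀ v ∈ Φ, ∃ k ∈ Y, k • l1 = v := by
      have hsame : ∃ k ∈ Y, k • l1 = l2 := by
        by_contra hno
        push Not at hno
        -- at most one point in each of the two orbits
        have hor : ∀ v ∈ Φ, (∃ k ∈ Y, k • l1 = v) ∨ ∃ k ∈ Y, k • l2 = v := by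
          intro v hv
          obtain ⟨w, hw, hwv⟩ : ∃ w ∈ Φ, w ≠ v := by
            by_cases hvx : v = x
            exacts [⟨y, hy, fun e => hxy (e.trans hvx).symm⟩, ⟨x, hx, Ne.symm hvx⟩]
          obtain ⟨k, hk, h1 | h1⟩ := hpair v hv w hw (Ne.symm hwv)
          exacts [Or.inl ⟨k, hk, h1.1⟩, Or.inr ⟨k, hk, h1.2⟩]
        have hone' : ∀ l, l = l1 ∨ l = l2 → ∀ v ∈ Φ, ∀ w ∈ Φ, (∃ k ∈ Y, k • l = v) →
            (∃ k ∈ Y, k • l = w) → v = w := by
          rintro l hl v hv w hw ⟨a, ha, hav⟩ ⟨b, hb, hbw⟩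
          by_contra hvw
          obtain ⟨k, hk, hk'⟩ := hpair v hv w hw hvw
          rcases hk' with ⟨e1, e2⟩ | ⟨e1, e2⟩ <;> rcases hl with rfl | rfl
          · exact hno (k⁻¹ * b) (mul_mem (inv_mem hk) hb) (by rw [mul_smul, hbw, ← e2, inv_smul_smul])
          · exact hno (a⁻¹ * k) (mul_mem (inv_mem ha) hk) (by rw [mul_smul, e1, ← hav, inv_smul_smul])
          · exact hno (k⁻¹ * a) (mul_mem (inv_mem hk) ha) (by rw [mul_smul, hav, ← e2, inv_smul_smul])
          · exact hno (b⁻¹ * k) (mul_mem (inv_mem hb) hk) (by rw [mul_smul, e1, ← hbw, inv_smul_smul])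
        rcases hor x hx with a | a <;> rcases hor y hy with b | b <;> rcases hor z hz with c | c
        all_goals first
          | exact hxy (hone' _ (Or.inl rfl) x hx y hy a b)
          | exact hxy (hone' _ (Or.inr rfl) x hx y hy a b)
          | exact hzxy.1 (hone' _ (Or.inl rfl) z hz x hx c a)
          | exact hzxy.1 (hone' _ (Or.inr rfl) z hz x hx c a)
          | exact hzxy.2 (hone' _ (Or.inl rfl) z hz y hy c b)
          | exact hzxy.2 (hone' _ (Or.inr rfl) z hz y hy c b)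
      obtain ⟨k0, hk0, hk0e⟩ := hsame
      intro v hv
      obtain ⟨w, hw, hwv⟩ : ∃ w ∈ Φ, w ≠ v := by
        by_cases hvx : v = x
        exacts [⟨y, hy, fun e => hxy (e.trans hvx).symm⟩, ⟨x, hx, Ne.symm hvx⟩]
      obtain ⟨k, hk, h1 | h1⟩ := hpair v hv w hw (Ne.symm hwv)
      exacts [⟨k, hk, h1.1⟩, ⟨k * k0, mul_mem hk hk0, by rw [mul_smul, hk0e, h1.2]⟩]
    have hPinv : ∀ g ∈ Y, ∀ v w : G ⧸ H, (v, w) ∈ P → (g • v, g • w) ∈ P := by
      rintro g hg v w ⟨k, hk, e1, e2⟩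
      exact ⟨g * k, mul_mem hg hk, by simp only at e1 ⊢; rw [mul_smul, e1],
        by simp only at e2 ⊢; rw [mul_smul, e2]⟩
    set outS : G ⧸ H → Set (G ⧸ H) := fun v => {w | (v, w) ∈ P}
    set inS : G ⧸ H → Set (G ⧸ H) := fun v => {w | (w, v) ∈ P}
    -- the counts at `l1`
    have hLY : L ≤ Y := hL.1
    have hfixL : ∀ w : G ⧸ H, (∀ g ∈ L, g • w = w) → w = l1 ∨ w = l2 := fun w hw =>
      hlarge L hL.2.1 hRL hLlt l1 l2 w hl12 hL1 hL2 fun g hg => hw g hg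
    have hout : (outS l1).ncard ≡ 1 [MOD p] := by
      have h1 := ncard_fixed_modEq hL.2.1 (S := outS l1) fun g hg w hw => by
        have := hPinv g (hLY hg) _ _ hw
        rwa [mem_stabilizer_iff.1 (hL1 hg)] at this
      have e : {w ∈ outS l1 | ∀ g ∈ L, g • w = w} = {l2} := by
        ext w
        refine ⟨fun hw => (hfixL w hw.2).resolve_left fun e => ?_, ?_⟩
        · exact hone _ _ hw.1 (e ▸ (hw.1 : (l1, w) ∈ P))
        · rintro rfl
          exact ⟨⟨1, one_mem _, one_smul _ _, one_smul _ _⟩, fun g hg => hL2 hg⟩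
      rwa [e, Set.ncard_singleton] at h1
    have hin : (inS l1).ncard ≡ 0 [MOD p] := by
      have h1 := ncard_fixed_modEq hL.2.1 (S := inS l1) fun g hg w hw => by
        have := hPinv g (hLY hg) _ _ hw
        rwa [mem_stabilizer_iff.1 (hL1 hg)] at this
      have e : {w ∈ inS l1 | ∀ g ∈ L, g • w = w} = ∅ := by
        refine Set.eq_empty_of_forall_notMem fun w hw => ?_
        rcases hfixL w hw.2 with rfl | rfl
        · exact hone _ _ hw.1 hw.1
        · exact hone _ _ (⟨1, one_mem _, one_smul _ _, one_smul _ _⟩) hw.1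
      rwa [e, Set.ncard_empty] at h1
    -- double counting
    have hcardout : ∀ v ∈ Φ, (outS v).ncard = (outS l1).ncard ∧ (inS v).ncard = (inS l1).ncard := by
      intro v hv
      obtain ⟨k, hk, rfl⟩ := htr v hv
      constructor
      · rw [← Set.ncard_image_of_injective (outS l1) (MulAction.injective k)]
        congr 1
        ext w
        refine ⟨fun hw => ⟨k⁻¹ • w, ?_, smul_inv_smul _ _⟩, ?_⟩
        · have := hPinv _ (inv_mem hk) _ _ hw
          rwa [inv_smul_smul] at this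
        · rintro ⟨w', hw', rfl⟩
          exact hPinv k hk _ _ hw'
      · rw [← Set.ncard_image_of_injective (inS l1) (MulAction.injective k)]
        congr 1
        ext w
        refine ⟨fun hw => ⟨k⁻¹ • w, ?_, smul_inv_smul _ _⟩, ?_⟩
        · have := hPinv _ (inv_mem hk) _ _ hw
          rwa [inv_smul_smul] at this
        · rintro ⟨w', hw', rfl⟩
          exact hPinv k hk _ _ hw'
    let Φf := (Set.toFinite Φ).toFinset
    let Pf := (Set.toFinite P).toFinset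
    have hmaps : ∀ q ∈ Pf, q.1 ∈ Φf ∧ q.2 ∈ Φf := by
      intro q hq
      obtain ⟨k, hk, e1, e2⟩ := (Set.Finite.mem_toFinset _).1 hq
      exact ⟨(Set.Finite.mem_toFinset _).2 (e1 ▸ hinv k hk l1 hl1),
        (Set.Finite.mem_toFinset _).2 (e2 ▸ hinv k hk l2 hl2)⟩
    have h1 := Finset.card_eq_sum_card_fiberwise (f := Prod.fst) fun q hq => (hmaps q hq).1
    have h2 := Finset.card_eq_sum_card_fiberwise (f := Prod.snd) fun q hq => (hmaps q hq).2
    have f1 : ∀ v ∈ Φf, (Pf.filter fun q => q.1 = v).card = (outS l1).ncard := by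
      intro v hv
      rw [← (hcardout v ((Set.Finite.mem_toFinset _).1 hv)).1, ← Set.ncard_coe_finset,
        ← Set.ncard_image_of_injective (outS v) (Prod.mk_right_injective v)]
      congr 1
      ext ⟨a, b⟩
      simp [Pf, outS]
      constructor
      · rintro ⟨hq, rfl⟩; exact ⟨hq, rfl⟩
      · rintro ⟨hq, rfl⟩; exact ⟨hq, rfl⟩
    have f2 : ∀ v ∈ Φf, (Pf.filter fun q => q.2 = v).card = (inS l1).ncard := by
      intro v hv
      rw [← (hcardout v ((Set.Finite.mem_toFinset _).1 hv)).2, ← Set.ncard_coe_finset,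
        ← Set.ncard_image_of_injective (inS v) (Prod.mk_left_injective v)]
      congr 1
      ext ⟨a, b⟩
      simp [Pf, inS]
      constructor
      · rintro ⟨hq, rfl⟩; exact ⟨hq, rfl⟩
      · rintro ⟨hq, rfl⟩; exact ⟨hq, rfl⟩
    rw [Finset.sum_congr rfl f1, Finset.sum_const, smul_eq_mul] at h1
    rw [Finset.sum_congr rfl f2, Finset.sum_const, smul_eq_mul, h1] at h2
    have h3 : (outS l1).ncard = (inS l1).ncard := Nat.eq_of_mul_eq_mul_left
      (Finset.card_pos.2 ⟨x, (Set.Finite.mem_toFinset _).2 hx⟩) h2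
    rw [h3] at hout
    exact hP.prime.not_dvd_one (Nat.modEq_zero_iff_dvd.1 (hout.symm.trans hin))


theorem Par.card_syl_eq {x0 y0 : G ⧸ H} {R : Subgroup G}
    (hxy0 : x0 ≠ y0) (hR : IsSyl p R (Dp x0 y0))
    (hmax : ∀ x' y' : G ⧸ H, x' ≠ y' → ∀ T' : Subgroup G, IsSyl p T' (Dp x' y') →
      Nat.card ↥T' ≤ Nat.card ↥R) :
    ∀ x y : G ⧸ H, x ≠ y → ∀ T : Subgroup G, IsSyl p T (Dp x y) → Nat.card ↥T = Nat.card ↥R := by
  haveI := hP.fact
  have h := hP.hyp
  by_contra hcon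
  push Not at hcon
  obtain ⟨x1, y1, hxy1, T1, hT1, hne1⟩ := hcon
  obtain ⟨R', ⟨⟨a, c, hac, hR'⟩, hlt⟩, hbest⟩ := Set.exists_max_image
    {T : Subgroup G | (∃ x y : G ⧸ H, x ≠ y ∧ IsSyl p T (Dp x y)) ∧ Nat.card ↥T < Nat.card ↥R}
    (fun T => Nat.card ↥T) (Set.toFinite _)
    ⟨T1, ⟨x1, y1, hxy1, hT1⟩, lt_of_le_of_ne (hmax x1 y1 hxy1 T1 hT1) hne1⟩
  have hbig : ∀ x y : G ⧸ H, x ≠ y → ∀ T : Subgroup G, IsSyl p T (Dp x y) →
      Nat.card ↥R' < Nat.card ↥T → Nat.card ↥R ≤ Nat.card ↥T := fun x y hxy T hT hlt' => by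
    by_contra hsmall
    exact (hbest T ⟨⟨x, y, hxy, hT⟩, not_le.1 hsmall⟩).not_gt hlt'
  -- move `c` by an element normalizing `R'`
  obtain ⟨k, rfl⟩ := MulAction.exists_smul_eq G x0 a
  obtain ⟨P, hR'P, hP0⟩ := exists_isSyl_ge hR'.2.1 (hR'.1.trans inf_le_left)
  have hkR : cj k R ≤ stabilizer G (k • x0) := by
    rintro _ ⟨r, hr, rfl⟩
    exact stab_conj ((hR.1.trans inf_le_left) hr)
  have hPR : Nat.card ↥R ≤ Nat.card ↥P := by
    have := hP0.card_le (isPGroup_cj hR.2.1 k) hkR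
    rwa [card_cj] at this
  obtain ⟨g, hgP, hgR, hgn⟩ := exists_mem_normalizer hP0.2.1 (lt_of_le_of_ne hR'P fun e => by
    rw [e] at hlt; omega)
  set a := k • x0
  have hga : g • a = a := hP0.1 hgP
  have hgc : g • c ≠ c := fun e => hgR (hR'.2.2 (R' ⊔ zpowers g) le_sup_left
    (sup_le hR'.1 (zpowers_le.2 (mem_inf.2 ⟨hga, e⟩)))
    (hP0.2.1.to_le (sup_le hR'P (zpowers_le.2 hgP))) ▸ mem_sup_right (mem_zpowers g))
  have hR'a : R' ≤ stabilizer G a := hR'.1.trans inf_le_left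
  have hR'c : R' ≤ stabilizer G c := hR'.1.trans inf_le_right
  have hav : ∀ v : G ⧸ H, R' ≤ stabilizer G v → ¬ R' ≤ Ux W v := fun v hv hle => by
    by_cases hva : v = a
    · exact hP.not_le_Ux hac hR' (hva ▸ hle)
    obtain ⟨S, hRS, hS⟩ := exists_isSyl_ge (p := p) hR'.2.1 (show R' ≤ Dp v a from le_inf hv hR'a)
    by_cases hlt' : Nat.card ↥R' < Nat.card ↥S
    · refine hP.not_le_Ux hac hR' fun r hr => ?_
      have h1 : r ∈ S ⊓ Ux W v := mem_inf.2 ⟨hRS hr, hle hr⟩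
      rw [hP.max_U hva hS (fun a' b' hab S' hS' =>
        (hmax a' b' hab S' hS').trans (hbig v a hva S hS hlt')) IH] at h1
      exact (mem_inf.1 h1).2
    · exact hP.not_le_Ux hva hS (eq_of_le_of_card_ge hRS (not_lt.1 hlt') ▸ hle)
  have hnf : ∀ t ∈ normalizer (R' : Set G), orderOf t = 2 → ∀ v : G ⧸ H, R' ≤ stabilizer G v → t • v ≠ v :=
    fun t htn ht v hv htv => hav v hv (hP.le_Ux_of_inv hR'.2.1 hv ht htn htv)
  have hrank : SECore.RankOne (normalizer (R' : Set G)) := by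
    intro i hi j hj hi2 hj2 hij
    by_contra hne
    obtain ⟨f, hf⟩ := h.exists_fixed (H := H) hi2
    exact hnf i hi hi2 f (h.le_stab_of_four (hP.odd_card hR'.2.1) hi hj hi2 hj2 hij hne hf) hf
  obtain ⟨u, hu, hua, huc, huR⟩ := hP.exists_swap_syl hac hR'
  have hun := mem_normalizer_of_cj huR
  set u' := g * u * g⁻¹ with hu'def
  have hu' : orderOf u' = 2 := by rw [Basic.orderOf_conj, hu]
  have hu'n : u' ∈ normalizer (R' : Set G) := mul_mem (mul_mem hgn hun) (inv_mem hgn)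
  have hu'a : u' • a = g • c := by
    rw [hu'def, mul_smul, mul_smul, inv_smul_eq_iff.2 hga.symm, hua]
  obtain ⟨z, -, hz, O, hON, hOodd, hOnorm, hcos⟩ := hrank.one_coset hun hu
  have hOprod : ∀ i ∈ normalizer (R' : Set G), ∀ j ∈ normalizer (R' : Set G), orderOf i = 2 →
      orderOf j = 2 → i * j ∈ O := by
    intro i hi j hj hi2 hj2
    have e1 := mul_mem (hcos i hi hi2) (inv_mem (hcos j hj hj2))
    rw [mul_inv_rev, show i * z * (z⁻¹ * j⁻¹) = i * j⁻¹ by group, Basic.inv_eq hj2] at e1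
    exact e1
  have hOu : ∀ o ∈ O, u * o * u ∈ O := fun o ho => by
    have := (mem_normalizer_iff.1 (hOnorm hun) o).1 ho
    rwa [Basic.inv_eq hu] at this
  -- `a` is not in the orbit of `c` under the odd core
  have haD : a ∉ orbit ↥O c := by
    rintro ⟨o, ho⟩
    have ho' : (o : G) • c = a := ho
    set w := u * (o : G) with hw
    have hwc : w • c = c := by rw [hw, mul_smul, ho', hua]
    have hpow : ∀ j : ℕ, w ^ j * u ^ j ∈ O ∧ u ^ j * w ^ j ∈ O := by
      intro j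
      induction j with
      | zero => simp
      | succ j ih =>
        refine ⟨?_, ?_⟩
        · rw [pow_succ' w, pow_succ u,
            show w * w ^ j * (u ^ j * u) = u * ((o : G) * (w ^ j * u ^ j)) * u by rw [hw]; group]
          exact hOu _ (mul_mem o.2 ih.1)
        · rw [pow_succ w, pow_succ' u,
            show u * u ^ j * (w ^ j * w) = u * (u ^ j * w ^ j) * u * (o : G) by rw [hw]; group]
          exact mul_mem (hOu _ ih.2) o.2
    have heven : Even (orderOf w) := by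
      by_contra hodd
      obtain ⟨m, hm⟩ := Nat.not_even_iff_odd.1 hodd
      have h1 := (hpow (orderOf w)).1
      rw [pow_orderOf_eq_one, one_mul, hm, pow_succ, pow_mul, pow_two, Basic.inv_sq_one hu, one_pow,
        one_mul] at h1
      have h2 := SECore.odd_orderOf_of_mem hOodd h1
      rw [hu] at h2
      exact Nat.not_odd_iff_even.2 even_two h2
    obtain ⟨m, hm⟩ := heven
    have hpos := orderOf_pos w
    have h2 : orderOf (w ^ m) = 2 := by
      rw [orderOf_pow' _ (by omega), hm, Nat.gcd_eq_right (⟨2, by omega⟩ : m ∣ m + m)]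
      rw [show m + m = 2 * m by omega, Nat.mul_div_cancel _ (by omega)]
    exact hnf _ (pow_mem (mul_mem hun (hON o.2)) m) h2 c hR'c
      (mem_stabilizer_iff.1 (pow_mem (mem_stabilizer_iff.2 hwc) m))
  have hc'D : g • c ∈ orbit ↥O c := by
    refine ⟨⟨u' * u, hOprod _ hu'n _ hun hu' hu⟩, ?_⟩
    show (u' * u) • c = g • c
    rw [mul_smul, huc, hu'a]
  have hdisj : ∀ y, y ∈ orbit ↥O a → y ∉ orbit ↥O c := fun y hy hyc => haD (by
    rw [← orbit_eq_iff.2 hyc, orbit_eq_iff.2 hy]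
    exact mem_orbit_self a)
  have hR'gc : R' ≤ stabilizer G (g • c) := smul_fix_of_normalizer hgn hR'c
  -- the pair `c, g • c` has a Sylow subgroup of the largest order
  obtain ⟨T, hR'T, hT⟩ := exists_isSyl_ge (p := p) hR'.2.1 (le_inf hR'c hR'gc)
  have hTne : R' ≠ T := by
    rintro rfl
    obtain ⟨v, hv, hvc, hvc', hvR⟩ := hP.exists_swap_syl hgc.symm hT
    refine hdisj (g • c) ⟨⟨v * u, hOprod _ (mem_normalizer_of_cj hvR) _ hun hv hu⟩, ?_⟩ hc'D
    show (v * u) • a = g • c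
    rw [mul_smul, hua, hvc]
  have hR'ltT : Nat.card ↥R' < Nat.card ↥T := by
    by_contra hle
    exact hTne (eq_of_le_of_card_ge hR'T (not_lt.1 hle))
  have hTR := hbig c (g • c) hgc.symm T hT hR'ltT
  have hTmax : ∀ x' y' : G ⧸ H, x' ≠ y' → ∀ T' : Subgroup G, IsSyl p T' (Dp x' y') →
      Nat.card ↥T' ≤ Nat.card ↥T := fun x' y' hne T' hT' => (hmax x' y' hne T' hT').trans hTR
  set Q := T ⊓ normalizer (R' : Set G)
  have hR'Q : R' ≤ Q := le_inf hR'T le_normalizer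
  have hR'Qlt : Nat.card ↥R' < Nat.card ↥Q := by
    by_contra hle
    obtain ⟨q, hqT, hqR, hqn⟩ := exists_mem_normalizer hT.2.1 (lt_of_le_of_ne hR'T hTne)
    exact hqR ((eq_of_le_of_card_ge hR'Q (not_lt.1 hle)).symm.le (mem_inf.2 ⟨hqT, hqn⟩))
  have hQc : ∀ q ∈ Q, q • c = c := fun q hq => (mem_inf.1 (hT.1 (mem_inf.1 hq).1)).1
  have hQc' : ∀ q ∈ Q, q • (g • c) = g • c := fun q hq => (mem_inf.1 (hT.1 (mem_inf.1 hq).1)).2
  -- `Q` fixes just two fixed points of `R'`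
  have hQfix : ∀ d : G ⧸ H, Q ≤ stabilizer G d → d = c ∨ d = g • c := fun d hQd =>
    hP.fix_two_gen IH (Nat.card ↥R) hmax hgc.symm (hT.2.1.to_le (inf_le_left : Q ≤ T))
      (fun q hq => hQc q hq) (fun q hq => hQc' q hq) hQd
      (fun a' b' hab ha' hb' S hS => hbig a' b' hab S hS (hR'Qlt.trans_le
        (hS.card_le (hT.2.1.to_le (inf_le_left : Q ≤ T)) (le_inf ha' hb'))))
      (fun hle => hav c hR'c (hR'Q.trans hle))
  -- count the fixed points of `Q` in the two orbits of the odd core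
  have hQO : ∀ q ∈ Q, ∀ o ∈ O, q * o * q⁻¹ ∈ O := fun q hq o ho =>
    (mem_normalizer_iff.1 (hOnorm (mem_inf.1 hq).2) o).1 ho
  have hinv2 : ∀ q ∈ Q, ∀ y ∈ orbit ↥O c, q • y ∈ orbit ↥O c := by
    rintro q hq _ ⟨o, rfl⟩
    refine ⟨⟨_, hQO q hq o o.2⟩, ?_⟩
    show (q * (o : G) * q⁻¹) • c = q • ((o : G) • c)
    rw [mul_smul, mul_smul, inv_smul_eq_iff.2 (hQc q hq).symm]
  have hinv1 : ∀ q ∈ Q, ∀ y ∈ orbit ↥O a, q • y ∈ orbit ↥O a := by
    rintro q hq _ ⟨o, rfl⟩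
    have hqu : q * u * q⁻¹ * u ∈ O := hOprod _ (mul_mem (mul_mem (mem_inf.1 hq).2 hun)
      (inv_mem (mem_inf.1 hq).2)) _ hun (by rw [Basic.orderOf_conj, hu]) hu
    refine ⟨⟨_, mul_mem (hQO q hq o o.2) hqu⟩, ?_⟩
    show (q * (o : G) * q⁻¹ * (q * u * q⁻¹ * u)) • a = q • ((o : G) • a)
    rw [mul_smul (q * (o : G) * q⁻¹), mul_smul (q * u * q⁻¹), hua, mul_smul (q * u),
      inv_smul_eq_iff.2 (hQc q hq).symm, mul_smul q u, huc, mul_smul, inv_smul_smul, mul_smul]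
  have hinΦ : ∀ e : G ⧸ H, R' ≤ stabilizer G e → ∀ y ∈ orbit ↥O e, R' ≤ stabilizer G y := by
    rintro e he _ ⟨o, rfl⟩
    exact smul_fix_of_normalizer (hON o.2) he
  have h2 := ncard_fixed_modEq (S := orbit ↥O c) (hT.2.1.to_le (inf_le_left : Q ≤ T)) hinv2
  have h1 := ncard_fixed_modEq (S := orbit ↥O a) (hT.2.1.to_le (inf_le_left : Q ≤ T)) hinv1
  have e2 : {y ∈ orbit ↥O c | ∀ q ∈ Q, q • y = y} = {c, g • c} := by
    ext y
    refine ⟨fun hy => hQfix y fun q hq => hy.2 q hq, ?_⟩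
    rintro (rfl | rfl)
    exacts [⟨mem_orbit_self _, hQc⟩, ⟨hc'D, hQc'⟩]
  have e1 : {y ∈ orbit ↥O a | ∀ q ∈ Q, q • y = y} = ∅ := by
    refine Set.eq_empty_of_forall_notMem fun y hy => hdisj y hy.1 ?_
    rcases hQfix y (fun q hq => hy.2 q hq) with rfl | rfl
    exacts [mem_orbit_self _, hc'D]
  rw [e2, Set.ncard_pair hgc.symm] at h2
  rw [e1, Set.ncard_empty] at h1
  have e3 : (orbit ↥O a).ncard = (orbit ↥O c).ncard := by
    have him : (fun y => u • y) '' orbit ↥O c = orbit ↥O a := by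
      ext y
      constructor
      · rintro ⟨_, ⟨o, rfl⟩, rfl⟩
        refine ⟨⟨_, hOu o o.2⟩, ?_⟩
        show (u * (o : G) * u) • a = u • ((o : G) • c)
        rw [mul_smul, mul_smul, hua]
      · rintro ⟨o, rfl⟩
        refine ⟨(u * (o : G) * u) • c, ⟨⟨_, hOu o o.2⟩, rfl⟩, ?_⟩
        show u • ((u * (o : G) * u) • c) = (o : G) • a
        rw [mul_smul, mul_smul, huc, smul_smul, Basic.inv_sq_one hu, one_smul]
    rw [← him, Set.ncard_image_of_injective _ (MulAction.injective u)]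
  rw [e3] at h1
  exact hP.p_ne_two ((Nat.prime_dvd_prime_iff_eq hP.prime Nat.prime_two).1
    (Nat.modEq_zero_iff_dvd.1 (h2.symm.trans h1)))


/-- The facts. -/
theorem Par.facts : Facts H W n p := by
  haveI := hP.fact
  obtain ⟨u, hu, -⟩ := StronglyEmbedded.exists_involution_notMem hP.hyp.se
  obtain ⟨R0, hR0⟩ := exists_isSyl (p := p) (Dp (base H) (u • base H))
  obtain ⟨R, ⟨x0, y0, hxy0, hR⟩, hmax'⟩ := Set.exists_max_image
    {T : Subgroup G | ∃ x y : G ⧸ H, x ≠ y ∧ IsSyl p T (Dp x y)} (fun T => Nat.card ↥T) (Set.toFinite _)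
    ⟨R0, base H, u • base H, fun e => hu (smul_base_iff.1 e.symm), hR0⟩
  have hmax : ∀ x' y' : G ⧸ H, x' ≠ y' → ∀ T' : Subgroup G, IsSyl p T' (Dp x' y') →
      Nat.card ↥T' ≤ Nat.card ↥R := fun x' y' hne T' hT' => hmax' T' ⟨x', y', hne, hT'⟩
  have heq := hP.card_syl_eq IH hxy0 hR hmax
  have hmx : ∀ x y : G ⧸ H, x ≠ y → ∀ T : Subgroup G, IsSyl p T (Dp x y) →
      ∀ x' y' : G ⧸ H, x' ≠ y' → ∀ T' : Subgroup G, IsSyl p T' (Dp x' y') → Nat.card ↥T' ≤ Nat.card ↥T :=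
    fun x y hxy T hT x' y' hne T' hT' => heq x y hxy T hT ▸ hmax x' y' hne T' hT'
  have key : ∀ x y : G ⧸ H, x ≠ y → ∃ g : G, g • x0 = x ∧ g • y0 = y := by
    intro x y hxy
    obtain ⟨T, hT⟩ := exists_isSyl (p := p) (Dp x y)
    obtain ⟨g, -, hg⟩ := hP.max_conj hxy0 hR hmax hxy hT (heq x y hxy T hT).ge
    exact ⟨g, hg⟩
  refine ⟨hP, fun x y x' y' hxy hxy' => ?_, fun x y T Q hxy hT hQ => ?_,
    fun x y T hxy hT => hP.max_U hxy hT (hmx x y hxy T hT) IH,
    fun x y T hxy hT hA => hP.max_Kx hxy hT (hmx x y hxy T hT) IH hA,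
    fun x y z T hxy hT hz => hP.max_fix hxy hT (hmx x y hxy T hT) hz,
    fun x y z R' hxy hR' hx hy hz hU => hP.fix_two_gen IH (Nat.card ↥R) hmax hxy hR' hx hy hz
      (fun a b hab _ _ S hS => (heq a b hab S hS).ge) hU⟩
  · obtain ⟨g1, h11, h12⟩ := key x y hxy
    obtain ⟨g2, h21, h22⟩ := key x' y' hxy'
    exact ⟨g2 * g1⁻¹, by rw [mul_smul, ← h11, inv_smul_smul, h21],
      by rw [mul_smul, ← h12, inv_smul_smul, h22]⟩
  · exact hP.max_sylow hxy hT (hmx x y hxy T hT) hQ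

end Cfsg.Agent.SECoreTwoClosed
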