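import Cfsg.Agent.Lib.Hall.NumbersSevenLocal
import Cfsg.Agent.Lib.PLocal.BlockBasic
import Cfsg.Agent.Lib.PLocal.StableNormal
import Cfsg.Agent.Lib.SETwoClosed.Sylow

/-!
# The core lemma: `Z(J(T))` inside a solvable subgroup

For `p ≥ 5` a solvable group acts `p`-stably on its normal `p`-subgroups, so no hypothesis on the Sylow
2-subgroups is needed.
-/

set_option autoImplicit false
set_option linter.unusedSectionVars false

namespace Cfsg.Agent.SECoreTwoClosed

open Subgroup
open Cfsg.Agent.PLocal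
open Cfsg.Agent.SETwoClosed (IsSyl)
open Cfsg.Agent.PLocal.ZJCenterFusion Cfsg.Agent.Techniques.Functor

universe u

variable {p : ℕ} [hp : Fact p.Prime]

/-- A solvable group is `p`-stable on its normal `p`-subgroups for `p ≥ 5`. -/
theorem isPStableOn_of_solvable {G : Type u} [Group G] [Finite G] (hp5 : 5 ≤ p)
    (hs : Group.IsSolvable G) (V : Subgroup G) [V.Normal] (hV : IsPGroup p V) :
    Cfsg.IsPStableOn p V := by
  refine StableNormal.of_section V hV ?_
  haveI : (V.map (QuotientGroup.mk' ((frattini V).map V.subtype))).Normal :=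
    Normal.map inferInstance _ (QuotientGroup.mk'_surjective _)
  refine Quadratic.isPStableOnSection_of _ _ (Quadratic.isPStableOn_of_pSolvable hp5 ?_
    (Quadratic.frattini_quotient_elementary hV))
  haveI := hs
  haveI : Group.IsSolvable (G ⧸ (frattini V).map V.subtype) :=
    Group.isSolvable_of_surjective (QuotientGroup.mk'_surjective _)
  exact SolvableSeparable.isPSolvable_of_isSolvable p _

/-- A solvable group is covered by its `p'`-core and the normaliser of `Z(J(T))`. -/
theorem zj_frattini {G : Type u} [Group G] [Finite G] (hs : Group.IsSolvable G) (hp5 : 5 ≤ p)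
    (T : Sylow p G) :
    Cfsg.pPrimeCore p G ⊔ normalizer (Cfsg.centerThompsonOf p (T : Subgroup G) : Set G) = ⊤ := by
  set K := Cfsg.pPrimeCore p G with hK
  have : K.Normal := Cores.pPrimeCore_normal (p := p)
  set f := QuotientGroup.mk' K with hf
  have hcop : (Nat.card K).Coprime p := Cores.pPrimeCore_card_coprime p
  have hinj : Set.InjOn f (T : Subgroup G) := fun u hu v hv he => by
    have h1 : u⁻¹ * v ∈ (T : Subgroup G) ⊓ K :=
      mem_inf.2 ⟨mul_mem (inv_mem hu) hv, QuotientGroup.eq.1 he⟩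
    obtain ⟨n, hn⟩ := (T.2.to_le (inf_le_left : (T : Subgroup G) ⊓ K ≤ T)).exists_card_eq
    have hd : Nat.card ↥((T : Subgroup G) ⊓ K) ∣ Nat.card K := card_dvd_of_le inf_le_right
    have hone : Nat.card ↥((T : Subgroup G) ⊓ K) = 1 :=
      Nat.eq_one_of_dvd_coprimes (hcop.pow_right n) hd (hn ▸ dvd_rfl)
    rw [Subgroup.card_eq_one.1 hone, mem_bot] at h1
    exact inv_mul_eq_one.1 h1
  set Tb := T.mapSurjective (QuotientGroup.mk'_surjective K) with hTb
  have hQsol : Group.IsSolvable (G ⧸ K) :=
    Group.isSolvable_of_surjective (QuotientGroup.mk'_surjective K)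
  have hn : (Cfsg.centerThompsonOf p (Tb : Subgroup (G ⧸ K))).Normal :=
    ZJCenter.centerThompson_normal (by omega)
      (PSolvable.centralizer_pCore_le (Cores.pPrimeCore_quotient_self p)
        (SolvableSeparable.isPSolvable_of_isSolvable p _))
      (fun V _ hV => isPStableOn_of_solvable hp5 hQsol V hV) Tb
  set Z := Cfsg.centerThompsonOf p (T : Subgroup G) with hZ
  have hZT : Z ≤ (T : Subgroup G) := inf_le_left.trans (ThompsonComplement.J_le _)
  have hZmap : Z.map f = Cfsg.centerThompsonOf p (Tb : Subgroup (G ⧸ K)) := by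
    rw [hTb, Sylow.coe_mapSurjective, hZ]
    show (ThompsonComplement.Z _).map f = ThompsonComplement.Z _
    rw [ThompsonComplement.map_Z (hinj.mono (ThompsonComplement.J_le _)),
      ThompsonComplement.map_J hinj]
  set P := Z ⊔ K with hP
  have hPn : P.Normal := by
    have := hn.comap f
    rwa [← hZmap, comap_map_eq, QuotientGroup.ker_mk'] at this
  have hZp : IsPGroup p Z := T.2.to_le hZT
  have hidx : ¬ p ∣ (Z.subgroupOf P).index :=
    relIndex_sup_coprime hcop (le_normalizer_of_normal)
  have htop := Sylow.normalizer_sup_eq_top ((hZp.comap_subtype (K := P)).toSylow hidx)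
  rw [show (((hZp.comap_subtype (K := P)).toSylow hidx : Sylow p P) : Subgroup P).map P.subtype = Z
    from map_subgroupOf_eq_of_le le_sup_left] at htop
  exact top_unique (htop.symm.le.trans (sup_le le_sup_right
    (sup_le (le_sup_of_le_right le_normalizer) le_sup_left)))

variable {G : Type u} [Group G] [Finite G]

/-- `Z(J(T))` lies in `T`. -/
theorem zj_le (T : Subgroup G) : Cfsg.centerThompsonOf p T ≤ T :=
  inf_le_left.trans (PLocal.ThompsonComplement.J_le T)

/-- `Z(J(T))` is not trivial for a nontrivial `p`-group. -/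
theorem zj_ne_bot {T : Subgroup G} (hT : IsPGroup p ↥T) (hne : T ≠ ⊥) :
    Cfsg.centerThompsonOf p T ≠ ⊥ :=
  PLocal.ThompsonComplement.Z_ne_bot (hT.to_le (PLocal.ThompsonComplement.J_le T))
    (PLocal.ThompsonComplement.J_ne_bot hT hne)

/-- The normalizer of `T` normalizes `Z(J(T))`. -/
theorem normalizer_le_zj (T : Subgroup G) :
    normalizer (T : Set G) ≤ normalizer (Cfsg.centerThompsonOf p T : Set G) :=
  (PLocal.ThompsonComplement.normalizer_le_J T).trans
    (PLocal.ThompsonComplement.normalizer_le_Z _)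

/-- A solvable subgroup is its `p'`-core times the normalizer of `Z(J(T))`. -/
theorem zj_cover (hp5 : 5 ≤ p) {L T : Subgroup G}
    (hsol : Group.IsSolvable ↥L) (hT : IsSyl p T L) {g : G} (hg : g ∈ L) :
    ∃ o ∈ (Cfsg.pPrimeCore p ↥L).map L.subtype,
      ∃ m ∈ L ⊓ normalizer (Cfsg.centerThompsonOf p T : Set G), o * m = g := by
  obtain ⟨T0, rfl⟩ := hT.exists_sylow
  haveI : (Cfsg.pPrimeCore p ↥L).Normal := PLocal.Cores.pPrimeCore_normal'
  have htop := zj_frattini (p := p) hsol hp5 T0
  have hmem : (⟨g, hg⟩ : ↥L) ∈ Cfsg.pPrimeCore p ↥L ⊔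
      normalizer (Cfsg.centerThompsonOf p (T0 : Subgroup ↥L) : Set ↥L) := htop ▸ mem_top _
  obtain ⟨o, ho, m, hm, hom⟩ := mem_sup_of_normal_left.1 hmem
  refine ⟨o, ⟨o, ho, rfl⟩, m, mem_inf.2 ⟨m.2, ?_⟩, congrArg Subtype.val hom⟩
  have hmap : (Cfsg.centerThompsonOf p (T0 : Subgroup ↥L)).map L.subtype =
      Cfsg.centerThompsonOf p ((T0 : Subgroup ↥L).map L.subtype) := by
    show (PLocal.ThompsonComplement.Z _).map _ = PLocal.ThompsonComplement.Z _
    rw [PLocal.ThompsonComplement.map_Z L.subtype_injective.injOn,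
      PLocal.ThompsonComplement.map_J L.subtype_injective.injOn]
  rw [← hmap]
  refine Subgroup.mem_normalizer_fintype fun x hx => ?_
  obtain ⟨y, hy, rfl⟩ := hx
  exact ⟨_, (mem_normalizer_iff.1 hm y).1 hy, rfl⟩

end Cfsg.Agent.SECoreTwoClosed
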